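import Cfsg.Agent.HSSylow.YTables

/-!
The action of the centralizer of the central involution on the core modulo its centre: it permutes the five
lines of an invariant spread, with the core as kernel, and is the symmetric group when it moves the first line.
-/

set_option autoImplicit false
set_option maxRecDepth 100000
set_option linter.unusedSectionVars false
set_option linter.style.haveILetI false

namespace CfsgLib.HSSylow

open Subgroup CfsgLib.Coset YTab

namespace YGrp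

theorem band {a b : Bool} : (a && b) = true ↔ a = true ∧ b = true := Bool.and_eq_true_iff

theorem beqT {a b : Nat} : Nat.beq a b = true ↔ a = b := by rw [Nat.beq_eq]

theorem has_iff {l : List Nat} {e : Nat} : has l e = true ↔ e ∈ l := by
  simp [has, List.any_eq_true]

theorem center_check : allC (fun a => cond (inR a)
    (inZ a == allC (fun b => cond (inR b) (com a b) true)) true) = true ∧
    allC (fun a => cond (inZ a) (inR a && (Nat.beq a 0 || Nat.beq a 4 || Nat.beq a 8 || Nat.beq a 12)) true &&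
      cond (inV a) (inR a && Nat.beq (mm a a) 0) true) = true := by
  decide +kernel

theorem basis_check : inR 0 = true ∧ inR 2 = true ∧ inR 32 = true ∧ inR 128 = true ∧ inR 320 = true ∧
    inR 4 = true ∧ inZ 4 = true ∧ inR 8 = true ∧ inZ 8 = true ∧ ptc 2 = 1 ∧ ptc 32 = 2 ∧ ptc 128 = 4 ∧ ptc 320 = 8 ∧
    ptc 0 = 0 ∧ mm 4 4 = 8 ∧ mm 8 8 = 0 ∧ mm 12 4 = 0 ∧ mk 1 2 4 8 = idc ∧ imgC 0 = idc ∧ has dList idc = true := by
  decide +kernel

theorem idc_check : allBelow 4 16 (fun j => Nat.beq (eApp idc j) j) = true ∧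
    dList.all (fun d => dList.all fun d' => has dList (ec d d')) = true := by
  decide +kernel

theorem eApp_idc {j : Nat} (hj : j < 16) : eApp idc j = j := beqT.1 (of_allBelow idc_check.1 j hj)

theorem ptc_spec {a : Nat} (ha : a < 512) (pa : inR a = true) :
    ptc a < 16 ∧ (ptc a = 0 ↔ inZ a = true) ∧ (inV a = true ↔ ptc a < 4 ∧ mm a a = 0) := by
  have h := of_allC pt_check a ha
  simp only [pa, cond_true, band] at h
  obtain ⟨⟨⟨h1, h2⟩, h3⟩, -⟩ := h
  refine ⟨Nat.le_of_ble_eq_true h1, ?_, ?_⟩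
  · rw [← beq_iff_eq.1 h2, beqT]
  · rw [beq_iff_eq.1 h3, band, beqT]
    exact and_congr_left' ⟨fun h => Nat.le_of_ble_eq_true h, fun h => Nat.ble_eq_true_of_le h⟩

theorem ptc_mul {a b : Nat} (ha : a < 512) (hb : b < 512) (pa : inR a = true) (pb : inR b = true) :
    ptc (mm a b) = ptc a ^^^ ptc b ∧
      (mm (mm (mm a b) (iv a)) (iv b) = 8 ↔ frm (ptc a) (ptc b) = 1) := by
  have h := of_allC pt_check a ha
  simp only [pa, cond_true, band] at h
  have h' := of_allC h.2 b hb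
  simp only [pb, cond_true, band] at h'
  refine ⟨beqT.1 h'.1, ?_⟩
  rw [← beqT, beq_iff_eq.1 h'.2, beqT]

theorem frm_le (i j : Nat) : frm i j ≤ 1 := Nat.and_le_right

theorem of_spAll {p : Nat → Bool} (h : spAll p = true) {a b c d : Nat} (ha : a < 16) (hb : b < 16) (hc : c < 16)
    (hd : d < 16) (h12 : frm a b = frm 1 2) (h14 : frm a c = frm 1 4) (h24 : frm b c = frm 2 4)
    (h18 : frm a d = frm 1 8) (h28 : frm b d = frm 2 8) (h48 : frm c d = frm 4 8) : p (mk a b c d) = true := by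
  unfold spAll at h
  have h1 := of_allBelow (of_allBelow h a ha) b hb
  rw [beqT.2 h12, cond_true] at h1
  have h2 := of_allBelow h1 c hc
  rw [beqT.2 h14, beqT.2 h24, Bool.and_self, cond_true] at h2
  have h3 := of_allBelow h2 d hd
  rwa [beqT.2 h18, beqT.2 h28, beqT.2 h48, Bool.and_self, Bool.and_self, cond_true] at h3

theorem rep_spec {j : Nat} (hj : j < 16) : inR (rep j) = true ∧ ptc (rep j) = j ∧ rep j < 512 ∧
    rep j = mm (mm (mm (cond (bit j 0) 2 0) (cond (bit j 1) 32 0)) (cond (bit j 2) 128 0)) (cond (bit j 3) 320 0) ∧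
    (j < 4 → inV (rep j) = true) := by
  have h := of_allBelow rep_check j hj
  simp only [band, Bool.or_eq_true] at h
  obtain ⟨⟨⟨⟨h1, h2⟩, h3⟩, h4⟩, h5⟩ := h
  refine ⟨h1, beqT.1 h2, Nat.le_of_ble_eq_true h3, beqT.1 h4, fun h => h5.resolve_left fun hh => ?_⟩
  exact absurd (Nat.le_of_ble_eq_true hh) (by omega)

theorem nib_spec {a b c d : Nat} (ha : a < 16) (hb : b < 16) (hc : c < 16) (hd : d < 16) :
    nib (mk a b c d) 0 = a ∧ nib (mk a b c d) 1 = b ∧ nib (mk a b c d) 2 = c ∧ nib (mk a b c d) 3 = d := by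
  have h := of_allBelow (of_allBelow (of_allBelow (of_allBelow nib_mk a ha) b hb) c hc) d hd
  simp only [band] at h
  exact ⟨beqT.1 h.1.1.1, beqT.1 h.1.1.2, beqT.1 h.1.2, beqT.1 h.2⟩

theorem lix_spec (k : Bool) {j : Nat} (hj : j < 16) (h0 : j ≠ 0) :
    lix k (lrep (lix k j)) = lix k j ∧ lix k j < 5 := by
  have h := of_allBelow lix_check.1 j hj
  simp only [band, Bool.or_eq_true] at h
  obtain ⟨⟨⟨h1, h2⟩, h3⟩, h4⟩ := h.resolve_left fun hh => h0 (beqT.1 hh)
  cases k
  · exact ⟨beqT.1 h1, Nat.le_of_ble_eq_true h2⟩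
  · exact ⟨beqT.1 h3, Nat.le_of_ble_eq_true h4⟩

theorem lrep_spec (k : Bool) {i : Nat} (hi : i < 5) : lrep i < 16 ∧ lrep i ≠ 0 ∧ lix k (lrep i) = i := by
  have h := of_allBelow lix_check.2 i hi
  simp only [band] at h
  have h0 : 0 < lrep i := Nat.le_of_ble_eq_true h.1.1
  refine ⟨Nat.lt_succ_of_le Nat.and_le_right, Nat.pos_iff_ne_zero.1 h0, ?_⟩
  cases k
  · exact beqT.1 h.1.2
  · exact beqT.1 h.2

theorem inP_spec {k : Bool} {e : Nat} (h : inP k e = true) {j : Nat} (hj : j < 16) (h0 : j ≠ 0) :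
    lix k (eApp e j) = lix k (eApp e (lrep (lix k j))) := by
  have h := of_allBelow h j hj
  rw [Bool.or_eq_true] at h
  exact beqT.1 (h.resolve_left fun hh => h0 (beqT.1 hh))

variable {G : Type*} [Group G]

theorem mem_normalizer_of_conj_mem [Finite G] {H : Subgroup G} {g : G} (h : ∀ x ∈ H, g * x * g⁻¹ ∈ H) :
    g ∈ normalizer (H : Set G) := by
  have hbij : Function.Bijective (fun x : H => (⟨g * x * g⁻¹, h x x.2⟩ : H)) := Finite.injective_iff_bijective.1
    fun x y e => Subtype.ext (by simpa using congrArg Subtype.val e)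
  refine mem_normalizer_iff.2 fun x => ⟨fun hx => h x hx, fun hx => ?_⟩
  obtain ⟨y, hy⟩ := hbij.2 ⟨_, hx⟩
  have e : g * (y : G) * g⁻¹ = g * x * g⁻¹ := congrArg Subtype.val hy
  rw [← mul_left_cancel (mul_right_cancel e)]
  exact y.2

theorem inv_mem_of_pow [Finite G] {p : G → Prop} (h1 : p 1) (hm : ∀ x y, p x → p y → p (x * y)) {g : G} (hg : p g) :
    p g⁻¹ := by
  have hp : ∀ n : ℕ, p (g ^ n) := fun n => by
    induction n with
    | zero => rwa [pow_zero]
    | succ n ih => rw [pow_succ]; exact hm _ _ ih hg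
  have e : g⁻¹ = g ^ (orderOf g - 1) := inv_eq_of_mul_eq_one_right (by
    rw [← pow_succ', Nat.sub_add_cancel (orderOf_pos g), pow_orderOf_eq_one])
  rw [e]
  exact hp _

theorem eq_one_of_twist {y r z : G} (hodd : Odd (orderOf y)) (hz : Commute y z) (h4 : z ^ 4 = 1)
    (h : y * r * y⁻¹ = z * r) : z = 1 := by
  have hn : ∀ n : ℕ, y ^ n * r * (y ^ n)⁻¹ = z ^ n * r := fun n => by
    induction n with
    | zero => simp
    | succ n ih =>
      calc y ^ (n + 1) * r * (y ^ (n + 1))⁻¹ = y * (y ^ n * r * (y ^ n)⁻¹) * y⁻¹ := by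
            rw [pow_succ', mul_inv_rev]; group
        _ = y * z ^ n * r * y⁻¹ := by rw [ih]; group
        _ = z ^ n * (y * r * y⁻¹) := by rw [(hz.pow_right n).eq]; group
        _ = z ^ (n + 1) * r := by rw [h, pow_succ, mul_assoc]
  have h1 := hn (orderOf y)
  rw [pow_orderOf_eq_one, one_mul, inv_one, mul_one] at h1
  have hd : orderOf z ∣ orderOf y := orderOf_dvd_of_pow_eq_one (right_eq_mul.1 h1)
  have h4' : orderOf z ∣ 4 := orderOf_dvd_of_pow_eq_one h4
  have hc : (orderOf y).Coprime 4 := by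
    rw [show 4 = 2 ^ 2 from rfl]
    exact (Nat.coprime_two_right.2 hodd).pow_right 2
  exact orderOf_eq_one_iff.1 (Nat.eq_one_of_dvd_coprimes hc hd h4')

/-- The point of an element of the core. -/
noncomputable def pnt (f : Nat → G) (x : G) : Nat := ptc (Classical.epsilon fun a => a < 512 ∧ f a = x)

/-- The packed image of an element normalizing the core. -/
noncomputable def img (f : Nat → G) (g : G) : Nat :=
  mk (pnt f (g * f 2 * g⁻¹)) (pnt f (g * f 32 * g⁻¹)) (pnt f (g * f 128 * g⁻¹)) (pnt f (g * f 320 * g⁻¹))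

variable [Finite G] {S : Sylow 2 G} {f : Nat → G} (hT : Tab (S : Subgroup G) f)
include hT

theorem pnt_f {a : Nat} (ha : a < 512) : pnt f (f a) = ptc a := by
  obtain ⟨h1, h2⟩ := Classical.epsilon_spec (p := fun b => b < 512 ∧ f b = f a) ⟨a, ha, rfl⟩
  show ptc _ = _
  rw [hT.inj _ _ h1 ha h2]

theorem mem_sR {a : Nat} (ha : a < 512) (pa : inR a = true) : f a ∈ hT.sR := ⟨a, ha, pa, rfl⟩

theorem mem_sR_iff {x : G} : x ∈ hT.sR ↔ ∃ a, a < 512 ∧ inR a = true ∧ f a = x := Iff.rfl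

theorem mem_sZ_iff {x : G} : x ∈ hT.sZ ↔ ∃ a, a < 512 ∧ inZ a = true ∧ f a = x := Iff.rfl

theorem sZ_le : hT.sZ ≤ hT.sR := by
  rintro _ ⟨a, ha, pa, rfl⟩
  have := of_allC center_check.2 a ha
  simp only [band, pa, cond_true] at this
  exact mem_sR hT ha this.1.1

theorem sZ_iff_central {x : G} (hx : x ∈ hT.sR) : x ∈ hT.sZ ↔ ∀ r ∈ hT.sR, x * r = r * x := by
  obtain ⟨a, ha, pa, rfl⟩ := hx
  have h := of_allC center_check.1 a ha
  simp only [pa, cond_true, beq_iff_eq] at h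
  refine ⟨fun hz r hr => ?_, fun hc => ⟨a, ha, ?_, rfl⟩⟩
  · obtain ⟨b, hb, pb, rfl⟩ := hr
    rw [hT.mem_of_code ha hz] at h
    have h' := of_allC h.symm b hb
    rw [pb, cond_true] at h'
    exact (hT.com_iff ha hb).1 h'
  · rw [h, allC, allBelow]
    by_contra hh
    obtain ⟨b, hb, hb'⟩ : ∃ b, b < 512 ∧ cond (inR b) (com a b) true ≠ true := by
      by_contra hno
      push Not at hno
      exact hh (allBelow_of (d := 9) (by norm_num) hno)
    cases pb : inR b with
    | false => exact hb' (by rw [pb, cond_false])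
    | true => exact hb' (by rw [pb, cond_true]; exact (hT.com_iff ha hb).2 (hc _ (mem_sR hT hb pb)))

theorem pnt_lt {x : G} (hx : x ∈ hT.sR) : pnt f x < 16 := by
  obtain ⟨a, ha, pa, rfl⟩ := hx
  rw [pnt_f hT ha]
  exact (ptc_spec ha pa).1

theorem pnt_mul {x y : G} (hx : x ∈ hT.sR) (hy : y ∈ hT.sR) : pnt f (x * y) = pnt f x ^^^ pnt f y := by
  obtain ⟨a, ha, pa, rfl⟩ := hx
  obtain ⟨b, hb, pb, rfl⟩ := hy
  rw [← hT.mul a b ha hb, pnt_f hT ha, pnt_f hT hb, pnt_f hT (mm_lt a b)]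
  exact (ptc_mul ha hb pa pb).1

theorem pnt_zero {x : G} (hx : x ∈ hT.sR) : pnt f x = 0 ↔ x ∈ hT.sZ := by
  obtain ⟨a, ha, pa, rfl⟩ := hx
  rw [pnt_f hT ha, (ptc_spec ha pa).2.1]
  exact ⟨fun h => ⟨a, ha, h, rfl⟩, fun h => hT.mem_of_code ha h⟩

theorem pnt_inv {x : G} (hx : x ∈ hT.sR) : pnt f x⁻¹ = pnt f x := by
  have h := pnt_mul hT hx (inv_mem hx)
  rw [mul_inv_cancel, (pnt_zero hT (one_mem _)).2 (one_mem _)] at h
  exact (Nat.xor_eq_zero_iff.1 h.symm).symm

theorem pnt_eq_iff {x y : G} (hx : x ∈ hT.sR) (hy : y ∈ hT.sR) : pnt f x = pnt f y ↔ x * y⁻¹ ∈ hT.sZ := by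
  rw [← pnt_zero hT (mul_mem hx (inv_mem hy)), pnt_mul hT hx (inv_mem hy), pnt_inv hT hy, Nat.xor_eq_zero_iff]

theorem frm_iff {x y : G} (hx : x ∈ hT.sR) (hy : y ∈ hT.sR) :
    frm (pnt f x) (pnt f y) = 1 ↔ x * y * x⁻¹ * y⁻¹ = f 8 := by
  obtain ⟨a, ha, pa, rfl⟩ := hx
  obtain ⟨b, hb, pb, rfl⟩ := hy
  rw [pnt_f hT ha, pnt_f hT hb, ← (ptc_mul ha hb pa pb).2, ← hT.map_iv ha, ← hT.map_iv hb, ← hT.mul _ _ ha hb,
    ← hT.mul _ _ (mm_lt _ _) (mm_zero ha).2.2.1, ← hT.mul _ _ (mm_lt _ _) (mm_zero hb).2.2.1,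
    hT.eq_iff (mm_lt _ _) (by norm_num)]

theorem conj_mem {g : G} (hg : g ∈ normalizer (hT.sR : Set G)) {x : G} (hx : x ∈ hT.sR) :
    g * x * g⁻¹ ∈ hT.sR := (mem_normalizer_iff.1 hg x).1 hx

theorem conj_mem_sZ {g : G} (hg : g ∈ normalizer (hT.sR : Set G)) {x : G} (hx : x ∈ hT.sZ) :
    g * x * g⁻¹ ∈ hT.sZ := by
  refine (sZ_iff_central hT (conj_mem hT hg (sZ_le hT hx))).2 fun r hr => ?_
  have hr' : g⁻¹ * r * g ∈ hT.sR := by simpa using conj_mem hT (inv_mem hg) hr
  have h := (sZ_iff_central hT (sZ_le hT hx)).1 hx _ hr'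
  calc g * x * g⁻¹ * r = g * (x * (g⁻¹ * r * g)) * g⁻¹ := by group
    _ = r * (g * x * g⁻¹) := by rw [h]; group

theorem basis_mem : f 2 ∈ hT.sR ∧ f 32 ∈ hT.sR ∧ f 128 ∈ hT.sR ∧ f 320 ∈ hT.sR :=
  ⟨mem_sR hT (by norm_num) basis_check.2.1, mem_sR hT (by norm_num) basis_check.2.2.1,
    mem_sR hT (by norm_num) basis_check.2.2.2.1, mem_sR hT (by norm_num) basis_check.2.2.2.2.1⟩

theorem img_nib {g : G} (hg : g ∈ normalizer (hT.sR : Set G)) :
    nib (img f g) 0 = pnt f (g * f 2 * g⁻¹) ∧ nib (img f g) 1 = pnt f (g * f 32 * g⁻¹) ∧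
      nib (img f g) 2 = pnt f (g * f 128 * g⁻¹) ∧ nib (img f g) 3 = pnt f (g * f 320 * g⁻¹) := by
  obtain ⟨h0, h1, h2, h3⟩ := basis_mem hT
  exact nib_spec (pnt_lt hT (conj_mem hT hg h0)) (pnt_lt hT (conj_mem hT hg h1))
    (pnt_lt hT (conj_mem hT hg h2)) (pnt_lt hT (conj_mem hT hg h3))

theorem eApp_rep {g : G} (hg : g ∈ normalizer (hT.sR : Set G)) {j : Nat} (hj : j < 16) :
    eApp (img f g) j = pnt f (g * f (rep j) * g⁻¹) := by
  obtain ⟨n0, n1, n2, n3⟩ := img_nib hT hg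
  obtain ⟨h0, h1, h2, h3⟩ := basis_mem hT
  have hc : ∀ (b : Bool) (c : Nat), c < 512 → f c ∈ hT.sR → cond b c 0 < 512 ∧ f (cond b c 0) ∈ hT.sR ∧
      pnt f (g * f (cond b c 0) * g⁻¹) = cond b (pnt f (g * f c * g⁻¹)) 0 := by
    intro b c hc hm
    cases b with
    | false =>
      refine ⟨by simp, ?_, ?_⟩
      · simp only [cond_false, hT.map_zero]; exact one_mem _
      · simp only [cond_false, hT.map_zero]
        rw [mul_one, mul_inv_cancel, (pnt_zero hT (one_mem _)).2 (one_mem _)]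
    | true => exact ⟨hc, hm, rfl⟩
  obtain ⟨a0, m0, p0⟩ := hc (bit j 0) 2 (by norm_num) h0
  obtain ⟨a1, m1, p1⟩ := hc (bit j 1) 32 (by norm_num) h1
  obtain ⟨a2, m2, p2⟩ := hc (bit j 2) 128 (by norm_num) h2
  obtain ⟨a3, m3, p3⟩ := hc (bit j 3) 320 (by norm_num) h3
  conv_rhs => rw [(rep_spec hj).2.2.2.1]
  rw [hT.mul _ _ (mm_lt _ _) a3, hT.mul _ _ (mm_lt _ _) a2, hT.mul _ _ a0 a1]
  rw [show ∀ u v w x : G, g * (u * v * w * x) * g⁻¹ =
    g * u * g⁻¹ * (g * v * g⁻¹) * (g * w * g⁻¹) * (g * x * g⁻¹) from fun u v w x => by group]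
  rw [pnt_mul hT (mul_mem (mul_mem (conj_mem hT hg m0) (conj_mem hT hg m1)) (conj_mem hT hg m2)) (conj_mem hT hg m3),
    pnt_mul hT (mul_mem (conj_mem hT hg m0) (conj_mem hT hg m1)) (conj_mem hT hg m2),
    pnt_mul hT (conj_mem hT hg m0) (conj_mem hT hg m1), p0, p1, p2, p3, Nat.xor_assoc]
  show (cond (bit j 0) (nib (img f g) 0) 0 ^^^ cond (bit j 1) (nib (img f g) 1) 0) ^^^
    (cond (bit j 2) (nib (img f g) 2) 0 ^^^ cond (bit j 3) (nib (img f g) 3) 0) = _
  rw [n0, n1, n2, n3]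

theorem eApp_pnt {g : G} (hg : g ∈ normalizer (hT.sR : Set G)) {x : G} (hx : x ∈ hT.sR) :
    eApp (img f g) (pnt f x) = pnt f (g * x * g⁻¹) := by
  obtain ⟨hr, he, hl, -⟩ := rep_spec (pnt_lt hT hx)
  have hm := mem_sR hT hl hr
  rw [eApp_rep hT hg (pnt_lt hT hx), pnt_eq_iff hT (conj_mem hT hg hm) (conj_mem hT hg hx)]
  have h : f (rep (pnt f x)) * x⁻¹ ∈ hT.sZ := (pnt_eq_iff hT hm hx).1 (by rw [pnt_f hT hl, he])
  simpa [mul_assoc] using conj_mem_sZ hT hg h

theorem eApp_img_ne {g : G} (hg : g ∈ normalizer (hT.sR : Set G)) {j : Nat} (hj : j < 16) (h0 : j ≠ 0) :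
    eApp (img f g) j < 16 ∧ eApp (img f g) j ≠ 0 := by
  obtain ⟨hr, he, hl, -⟩ := rep_spec hj
  have hm := mem_sR hT hl hr
  rw [eApp_rep hT hg hj]
  refine ⟨pnt_lt hT (conj_mem hT hg hm), fun hz => h0 ?_⟩
  have h := conj_mem_sZ hT (inv_mem hg) ((pnt_zero hT (conj_mem hT hg hm)).1 hz)
  rw [show g⁻¹ * (g * f (rep j) * g⁻¹) * g⁻¹⁻¹ = f (rep j) by group] at h
  rw [← he, ← pnt_f hT hl]
  exact (pnt_zero hT hm).2 h

theorem img_mul {g h : G} (hg : g ∈ normalizer (hT.sR : Set G)) (hh : h ∈ normalizer (hT.sR : Set G)) :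
    img f (g * h) = ec (img f g) (img f h) := by
  obtain ⟨n0, n1, n2, n3⟩ := img_nib hT hh
  obtain ⟨h0, h1, h2, h3⟩ := basis_mem hT
  unfold ec
  rw [n0, n1, n2, n3, eApp_pnt hT hg (conj_mem hT hh h0), eApp_pnt hT hg (conj_mem hT hh h1),
    eApp_pnt hT hg (conj_mem hT hh h2), eApp_pnt hT hg (conj_mem hT hh h3)]
  simp only [img, mul_inv_rev, mul_assoc]

theorem img_code {h : Nat} (hh : h < 512) : img f (f h) = imgC h := by
  simp only [img, imgC, ← hT.map_cnj hh (by norm_num : 2 < 512), ← hT.map_cnj hh (by norm_num : 32 < 512),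
    ← hT.map_cnj hh (by norm_num : 128 < 512), ← hT.map_cnj hh (by norm_num : 320 < 512)]
  have key : ∀ b, pnt f (f (cnj h b)) = ptc (cnj h b) := fun b => pnt_f hT (mm_lt _ _)
  rw [key, key, key, key]

theorem img_one : img f 1 = idc := by
  rw [← hT.map_zero, img_code hT (by norm_num)]
  exact basis_check.2.2.2.2.2.2.2.2.2.2.2.2.2.2.2.2.2.2.1

/-- The group acting. -/
def nC : Subgroup G := centralizer ({f tc} : Set G) ⊓ normalizer (hT.sR : Set G)

theorem nC_comm {g : G} (hg : g ∈ nC hT) : g * f 8 = f 8 * g :=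
  mem_centralizer_singleton_iff.1 (mem_inf.1 hg).1

theorem S_le_nC : (S : Subgroup G) ≤ nC hT := by
  refine le_inf (fun x hx => ?_) hT.le_normalizer_subs.2.2
  obtain ⟨h, hh, rfl⟩ := hT.surj x hx
  have h1 := of_allC code_check.1 h hh
  simp only [band] at h1
  exact mem_centralizer_singleton_iff.2 ((hT.com_iff hh (by norm_num [tc])).1 h1.1.1.1)

theorem img_test {p : Nat → Bool} (hp : spAll p = true) {g : G} (hg : g ∈ nC hT) : p (img f g) = true := by
  obtain ⟨h0, h1, h2, h3⟩ := basis_mem hT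
  have hn := (mem_inf.1 hg).2
  have key : ∀ x y, x ∈ hT.sR → y ∈ hT.sR →
      frm (pnt f (g * x * g⁻¹)) (pnt f (g * y * g⁻¹)) = frm (pnt f x) (pnt f y) := by
    intro x y hx hy
    have e : frm (pnt f (g * x * g⁻¹)) (pnt f (g * y * g⁻¹)) = 1 ↔ frm (pnt f x) (pnt f y) = 1 := by
      rw [frm_iff hT (conj_mem hT hn hx) (conj_mem hT hn hy), frm_iff hT hx hy]
      rw [show g * x * g⁻¹ * (g * y * g⁻¹) * (g * x * g⁻¹)⁻¹ * (g * y * g⁻¹)⁻¹ = g * (x * y * x⁻¹ * y⁻¹) * g⁻¹ by group,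
        mul_inv_eq_iff_eq_mul, ← nC_comm hT hg, mul_right_inj]
    have := frm_le (pnt f (g * x * g⁻¹)) (pnt f (g * y * g⁻¹))
    have := frm_le (pnt f x) (pnt f y)
    omega
  obtain ⟨-, -, -, -, -, -, -, -, -, e1, e2, e4, e8, -⟩ := basis_check
  refine of_spAll hp (pnt_lt hT (conj_mem hT hn h0)) (pnt_lt hT (conj_mem hT hn h1))
    (pnt_lt hT (conj_mem hT hn h2)) (pnt_lt hT (conj_mem hT hn h3)) ?_ ?_ ?_ ?_ ?_ ?_ <;>
  · rw [key _ _ (by first | exact h0 | exact h1 | exact h2 | exact h3) (by first | exact h0 | exact h1 | exact h2 | exact h3)]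
    simp only [pnt_f hT (by norm_num : 2 < 512), pnt_f hT (by norm_num : 32 < 512),
      pnt_f hT (by norm_num : 128 < 512), pnt_f hT (by norm_num : 320 < 512), e1, e2, e4, e8]

theorem img_pow_three {g : G} (hg : g ∈ normalizer (hT.sR : Set G)) : img f (g ^ 3) = cube (img f g) := by
  rw [pow_succ', pow_two, img_mul hT hg (mul_mem hg hg), img_mul hT hg hg]
  rfl

theorem img_pow_four {g : G} (hg : g ∈ normalizer (hT.sR : Set G)) :
    img f (g ^ 4) = ec (ec (img f g) (img f g)) (ec (img f g) (img f g)) := by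
  rw [show g ^ 4 = g * g * (g * g) by simp [pow_succ, mul_assoc]]
  rw [img_mul hT (mul_mem hg hg) (mul_mem hg hg), img_mul hT hg hg]

theorem img_pow_five {g : G} (hg : g ∈ normalizer (hT.sR : Set G)) : img f (g ^ 5) = fifth (img f g) := by
  rw [pow_succ', img_mul hT hg (pow_mem hg 4), img_pow_four hT hg]
  rfl

theorem img_pow_six {g : G} (hg : g ∈ normalizer (hT.sR : Set G)) :
    img f (g ^ 6) = cube (ec (img f g) (img f g)) := by
  rw [show g ^ 6 = (g ^ 2) ^ 3 by rw [← pow_mul], img_pow_three hT (pow_mem hg 2), pow_two, img_mul hT hg hg]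

theorem lift_dList {d : Nat} (hd : d ∈ dList) : ∃ h, h < 512 ∧ imgC h = d := by
  have h := List.all_eq_true.1 code_check.2 d hd
  obtain ⟨x, hx, e⟩ := List.any_eq_true.1 h
  refine ⟨x, ?_, beqT.1 e⟩
  simp only [List.mem_cons, List.not_mem_nil, or_false] at hx
  omega

theorem img_S {x : G} (hx : x ∈ (S : Subgroup G)) : img f x ∈ dList := by
  obtain ⟨h, hh, rfl⟩ := hT.surj x hx
  have h1 := of_allC code_check.1 h hh
  simp only [band] at h1
  rw [img_code hT hh]
  exact has_iff.1 h1.1.1.2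

theorem not_tList {g : G} (hg : g ∈ nC hT) : img f g ∉ tList := by
  intro ht
  have hc := List.all_eq_true.1 tList_check _ ht
  simp only [band, List.all_eq_true, Bool.not_eq_true'] at hc
  obtain ⟨⟨h4, hnd⟩, hconj⟩ := hc
  have hN : ∀ {x : G}, x ∈ nC hT → x ∈ normalizer (hT.sR : Set G) := fun hx => (mem_inf.1 hx).2
  have hp1 : 1 ∈ nC hT ∧ img f (1 : G) ∈ dList :=
    ⟨one_mem _, by rw [img_one hT]; exact has_iff.1 basis_check.2.2.2.2.2.2.2.2.2.2.2.2.2.2.2.2.2.2.2⟩
  have hpm : ∀ x y : G, (x ∈ nC hT ∧ img f x ∈ dList) → (y ∈ nC hT ∧ img f y ∈ dList) →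
      (x * y ∈ nC hT ∧ img f (x * y) ∈ dList) := fun x y hx hy => ⟨mul_mem hx.1 hy.1, by
    rw [img_mul hT (hN hx.1) (hN hy.1)]
    exact has_iff.1 (List.all_eq_true.1 (List.all_eq_true.1 idc_check.2 _ hx.2) _ hy.2)⟩
  let H : Subgroup G :=
    { carrier := {x | x ∈ nC hT ∧ img f x ∈ dList}
      one_mem' := hp1
      mul_mem' := fun {x y} => hpm x y
      inv_mem' := fun {x} hx => inv_mem_of_pow (p := fun x => x ∈ nC hT ∧ img f x ∈ dList) hp1 hpm hx }
  have hg4 : g ^ 4 ∈ H := ⟨pow_mem hg 4, by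
    rw [img_pow_four hT (hN hg), beqT.1 h4]; exact has_iff.1 basis_check.2.2.2.2.2.2.2.2.2.2.2.2.2.2.2.2.2.2.2⟩
  have hgH : g ∈ normalizer (H : Set G) := mem_normalizer_of_conj_mem fun x hx => by
    have h1 : g * x * g ^ 3 ∈ H := ⟨mul_mem (mul_mem hg hx.1) (pow_mem hg 3), by
      rw [img_mul hT (mul_mem (hN hg) (hN hx.1)) (pow_mem (hN hg) 3), img_mul hT (hN hg) (hN hx.1),
        img_pow_three hT (hN hg)]
      exact has_iff.1 (hconj _ hx.2)⟩
    have h2 := mul_mem h1 (inv_mem hg4)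
    rwa [show g * x * g ^ 3 * (g ^ 4)⁻¹ = g * x * g⁻¹ by group] at h2
  have hgn : g ∉ H := fun h => by
    rw [has_iff.2 h.2] at hnd
    exact Bool.noConfusion hnd
  have hSH : (S : Subgroup G) ≤ H := fun x hx => ⟨S_le_nC hT hx, img_S hT hx⟩
  let N : Subgroup G := normalizer (H : Set G)
  haveI : (H.subgroupOf N).Normal := normal_in_normalizer
  have hq : (QuotientGroup.mk (⟨g, hgH⟩ : N) : N ⧸ H.subgroupOf N) ^ 4 = 1 := by
    rw [← QuotientGroup.mk_pow, QuotientGroup.eq_one_iff, mem_subgroupOf]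
    simpa using hg4
  have hq1 : (QuotientGroup.mk (⟨g, hgH⟩ : N) : N ⧸ H.subgroupOf N) ≠ 1 := fun h => hgn (by
    rw [QuotientGroup.eq_one_iff, mem_subgroupOf] at h
    exact h)
  have h2 : 2 ∣ (H.subgroupOf N).index := by
    rw [index_eq_card]
    refine dvd_trans ?_ (orderOf_dvd_natCard (QuotientGroup.mk (⟨g, hgH⟩ : N)))
    obtain ⟨i, hi, e⟩ := (Nat.dvd_prime_pow Nat.prime_two).1
      (show orderOf (QuotientGroup.mk (⟨g, hgH⟩ : N) : N ⧸ H.subgroupOf N) ∣ 2 ^ 2 from orderOf_dvd_of_pow_eq_one hq)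
    rw [e]
    refine dvd_pow_self 2 fun h0 => hq1 (orderOf_eq_one_iff.1 ?_)
    rw [e, h0, pow_zero]
  have h512 : 512 ∣ Nat.card (H.subgroupOf N) := by
    rw [Nat.card_congr (subgroupOfEquivOfLe le_normalizer).toEquiv, ← hT.card_eq]
    exact card_dvd_of_le hSH
  have h1024 : 2 ^ 10 ∣ Nat.card G := by
    refine dvd_trans ?_ (card_subgroup_dvd_card N)
    rw [← index_mul_card (H.subgroupOf N)]
    exact dvd_trans (by norm_num) (Nat.mul_dvd_mul h2 h512)
  have hv : (2 : ℕ) ^ (Nat.card G).factorization 2 = 2 ^ 9 := S.card_eq_multiplicity.symm.trans hT.card_eq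
  have := (Nat.prime_two.pow_dvd_iff_le_factorization Nat.card_pos.ne').1 h1024
  have := Nat.pow_right_injective le_rfl hv
  omega

theorem some_spread {g : G} (hg : g ∈ nC hT) : inP false (img f g) = true ∨ inP true (img f g) = true := by
  have hN : ∀ {x : G}, x ∈ nC hT → x ∈ normalizer (hT.sR : Set G) := fun hx => (mem_inf.1 hx).2
  have hb1 : ∀ x ∈ nC hT, bad1 (img f x) = true → False := by
    intro x hx h
    obtain ⟨d, hd, hd'⟩ := List.any_eq_true.1 h
    obtain ⟨a, ha, e⟩ := lift_dList hT hd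
    have hy : x * f a ∈ nC hT := mul_mem hx (S_le_nC hT (hT.mem a ha))
    refine not_tList hT (pow_mem hy 3) ?_
    rw [img_pow_three hT (hN hy), img_mul hT (hN hx) (hN (S_le_nC hT (hT.mem a ha))), img_code hT ha, e]
    exact has_iff.1 hd'
  have h := img_test hT sylow_check hg
  simp only [Bool.or_eq_true] at h
  rcases h with (((h | h) | h) | h) | h
  · exact Or.inl h
  · exact Or.inr h
  · exact (not_tList hT hg (has_iff.1 h)).elim
  · exact (hb1 g hg h).elim
  · exfalso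
    obtain ⟨d, hd, hd'⟩ := List.any_eq_true.1 h
    obtain ⟨a, ha, e⟩ := lift_dList hT hd
    have hy : g * f a ∈ nC hT := mul_mem hg (S_le_nC hT (hT.mem a ha))
    refine hb1 _ (pow_mem hy 3) ?_
    rw [img_pow_three hT (hN hy), img_mul hT (hN hg) (hN (S_le_nC hT (hT.mem a ha))), img_code hT ha, e]
    exact hd'

theorem inP_mul {k : Bool} {g h : G} (hg : g ∈ normalizer (hT.sR : Set G)) (hh : h ∈ normalizer (hT.sR : Set G))
    (hgP : inP k (img f g) = true) {j : Nat} (hj : j < 16) (h0 : j ≠ 0) :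
    lix k (eApp (img f (g * h)) j) = lix k (eApp (img f g) (lrep (lix k (eApp (img f h) j)))) := by
  have e : eApp (img f (g * h)) j = eApp (img f g) (eApp (img f h) j) := by
    obtain ⟨hr, -, hl, -⟩ := rep_spec hj
    rw [eApp_rep hT (mul_mem hg hh) hj, eApp_rep hT hh hj, eApp_pnt hT hg (conj_mem hT hh (mem_sR hT hl hr))]
    simp only [mul_inv_rev, mul_assoc]
  rw [e, inP_spec hgP (eApp_img_ne hT hh hj h0).1 (eApp_img_ne hT hh hj h0).2]

theorem exists_spread : ∃ k, ∀ g ∈ nC hT, inP k (img f g) = true := by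
  have hN : ∀ {x : G}, x ∈ nC hT → x ∈ normalizer (hT.sR : Set G) := fun hx => (mem_inf.1 hx).2
  have hm : ∀ k x y, x ∈ nC hT → y ∈ nC hT → inP k (img f x) = true → inP k (img f y) = true →
      inP k (img f (x * y)) = true := by
    intro k x y hx hy px py
    refine allBelow_of (d := 4) (by norm_num) fun j hj => ?_
    rw [Bool.or_eq_true]
    by_cases h0 : j = 0
    · exact Or.inl (beqT.2 h0)
    refine Or.inr (beqT.2 ?_)
    obtain ⟨hl, hlt⟩ := lix_spec k hj h0
    obtain ⟨r1, r2, -⟩ := lrep_spec k hlt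
    rw [inP_mul hT (hN hx) (hN hy) px hj h0, inP_mul hT (hN hx) (hN hy) px r1 r2, inP_spec py hj h0]
  have hi : ∀ k x, x ∈ nC hT → inP k (img f x) = true → inP k (img f x⁻¹) = true := by
    intro k x hx px
    refine (inv_mem_of_pow (p := fun y => y ∈ nC hT ∧ inP k (img f y) = true) ⟨one_mem _, ?_⟩
      (fun a b ha hb => ⟨mul_mem ha.1 hb.1, hm k a b ha.1 hb.1 ha.2 hb.2⟩) ⟨hx, px⟩).2
    refine allBelow_of (d := 4) (by norm_num) fun j hj => ?_
    rw [Bool.or_eq_true]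
    by_cases h0 : j = 0
    · exact Or.inl (beqT.2 h0)
    obtain ⟨hl, hlt⟩ := lix_spec k hj h0
    rw [img_one hT, eApp_idc hj, eApp_idc (lrep_spec k hlt).1, hl]
    exact Or.inr (beqT.2 rfl)
  by_contra hno
  push Not at hno
  obtain ⟨a, ha, ha'⟩ := hno false
  obtain ⟨b, hb, hb'⟩ := hno true
  have ha2 := (some_spread hT ha).resolve_left ha'
  have hb2 := (some_spread hT hb).resolve_right hb'
  rcases some_spread hT (mul_mem ha hb) with h | h
  · exact ha' (by
      have := hm false _ _ (mul_mem ha hb) (inv_mem hb) h (hi false b hb hb2)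
      rwa [mul_inv_cancel_right] at this)
  · exact hb' (by
      have := hm true _ _ (inv_mem ha) (mul_mem ha hb) (hi true a ha ha2) h
      rwa [inv_mul_cancel_left] at this)

theorem line_facts {k : Bool} (hk : ∀ g ∈ nC hT, inP k (img f g) = true) {g : G} (hg : g ∈ nC hT) :
    lineFacts k (img f g) = true := by
  have h := img_test hT spread_check hg
  have hkg := hk g hg
  rw [band] at h
  cases k
  · have h1 := h.1
    rwa [hkg, cond_true] at h1
  · have h2 := h.2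
    rwa [hkg, cond_true] at h2

end YGrp

open YGrp

variable {G : Type*} [Group G] [Finite G] {S : Sylow 2 G} {f : Nat → G} (hT : Tab (S : Subgroup G) f)
include hT

/-- The element acts trivially on the core modulo its centre. -/
def Triv (g : G) : Prop := ∀ r ∈ hT.sR, g * r * g⁻¹ * r⁻¹ ∈ hT.sZ

namespace YGrp

theorem triv_iff {g : G} (hg : g ∈ normalizer (hT.sR : Set G)) : Triv hT g ↔ img f g = idc := by
  refine ⟨fun h => ?_, fun h r hr => ?_⟩
  · obtain ⟨h0, h1, h2, h3⟩ := basis_mem hT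
    obtain ⟨-, -, -, -, -, -, -, -, -, e1, e2, e4, e8, -, -, -, -, em, -⟩ := basis_check
    show mk _ _ _ _ = _
    rw [(pnt_eq_iff hT (conj_mem hT hg h0) h0).2 (h _ h0), (pnt_eq_iff hT (conj_mem hT hg h1) h1).2 (h _ h1),
      (pnt_eq_iff hT (conj_mem hT hg h2) h2).2 (h _ h2), (pnt_eq_iff hT (conj_mem hT hg h3) h3).2 (h _ h3),
      pnt_f hT (by norm_num), pnt_f hT (by norm_num), pnt_f hT (by norm_num), pnt_f hT (by norm_num), e1, e2, e4, e8, em]
  · refine (pnt_eq_iff hT (conj_mem hT hg hr) hr).1 ?_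
    rw [← eApp_pnt hT hg hr, h, eApp_idc (pnt_lt hT hr)]

theorem triv_one : Triv hT (1 : G) := fun r _ => by simp [one_mem]

theorem triv_mul {a b : G} (ha : a ∈ normalizer (hT.sR : Set G)) (hb : b ∈ normalizer (hT.sR : Set G))
    (h1 : Triv hT a) (h2 : Triv hT b) : Triv hT (a * b) := fun r hr => by
  have hr' := conj_mem hT hb hr
  have := mul_mem (h1 _ hr') (h2 r hr)
  rwa [show a * (b * r * b⁻¹) * a⁻¹ * (b * r * b⁻¹)⁻¹ * (b * r * b⁻¹ * r⁻¹) = a * b * r * (a * b)⁻¹ * r⁻¹ by group] at this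

theorem triv_pow {a : G} (ha : a ∈ normalizer (hT.sR : Set G)) (h : Triv hT a) (n : ℕ) : Triv hT (a ^ n) := by
  induction n with
  | zero => rw [pow_zero]; exact triv_one hT
  | succ n ih => rw [pow_succ]; exact triv_mul hT (pow_mem ha n) ha ih h

theorem triv_of_coprime {g : G} (hg : g ∈ normalizer (hT.sR : Set G)) {n : ℕ} (hn : n.Coprime (orderOf g))
    (h : Triv hT (g ^ n)) : Triv hT g := by
  obtain ⟨m, hm⟩ := exists_pow_eq_self_of_coprime hn
  rw [← hm]
  exact triv_pow hT (pow_mem hg n) h m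

theorem fifteen {g : G} (hg : g ∈ nC hT) (hodd : Odd (orderOf g)) : cube (fifth (img f g)) = idc := by
  obtain ⟨k, hk⟩ := exists_spread hT
  have hn := (mem_inf.1 hg).2
  have h := line_facts hT hk hg
  simp only [lineFacts, band, Bool.or_eq_true, beqT] at h
  have h2 : ∀ n : ℕ, n = 2 ∨ n = 4 → n.Coprime (orderOf g) := fun n hn => by
    rcases hn with rfl | rfl
    · exact Nat.coprime_two_left.2 hodd
    · exact (Nat.coprime_two_left.2 hodd).pow_left 2
  suffices Triv hT ((g ^ 5) ^ 3) by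
    rw [← img_pow_five hT hn, ← img_pow_three hT (pow_mem hn 5)]
    exact (triv_iff hT (pow_mem (pow_mem hn 5) 3)).1 this
  rw [← pow_mul]
  rcases h.1.1.1 with (h4 | h5) | h6
  · exact triv_pow hT hn (triv_of_coprime hT hn (h2 4 (Or.inr rfl))
      ((triv_iff hT (pow_mem hn 4)).2 (by rw [img_pow_four hT hn]; exact h4))) _
  · rw [pow_mul]
    exact triv_pow hT (pow_mem hn 5) ((triv_iff hT (pow_mem hn 5)).2 (by rw [img_pow_five hT hn]; exact h5)) 3
  · have h3 : Triv hT (g ^ 3) := triv_of_coprime hT (pow_mem hn 3)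
      ((h2 2 (Or.inl rfl)).coprime_dvd_right (orderOf_pow_dvd 3)) (n := 2) (by
        rw [← pow_mul]
        exact (triv_iff hT (pow_mem hn 6)).2 (by rw [img_pow_six hT hn]; exact h6))
    rw [show 5 * 3 = 3 * 5 from rfl, pow_mul]
    exact triv_pow hT (pow_mem hn 3) h3 5

end YGrp

/-- An element of odd order fixing a point of the core modulo its centre fixes all. -/
theorem point_stab {g : G} (hgC : g ∈ centralizer ({f tc} : Set G)) (hgR : g ∈ normalizer (hT.sR : Set G))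
    (hodd : Odd (orderOf g)) {r : Nat} (hr : r < 512) (hrR : inR r = true) (hrZ : inZ r = false)
    (hfix : g * f r * g⁻¹ * (f r)⁻¹ ∈ hT.sZ) : Triv hT g := by
  have hg : g ∈ nC hT := ⟨hgC, hgR⟩
  obtain ⟨k, hk⟩ := exists_spread hT
  have h := line_facts hT hk hg
  simp only [lineFacts, band] at h
  have hm := mem_sR hT hr hrR
  have hX : (allBelow 4 16 fun j => Nat.beq j 0 || !(Nat.beq (eApp (img f g) j) j)) = false := by
    rw [Bool.eq_false_iff]
    intro hall
    have h1 := of_allBelow hall (ptc r) (ptc_spec hr hrR).1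
    have h2 : eApp (img f g) (ptc r) = ptc r := by
      rw [← pnt_f hT hr, eApp_pnt hT hgR hm, pnt_eq_iff hT (conj_mem hT hgR hm) hm]
      exact hfix
    rw [Bool.or_eq_true, beqT, (ptc_spec hr hrR).2.1, hrZ, beqT.2 h2] at h1
    simp at h1
  have h2 := h.1.1.2
  rw [beqT.2 (fifteen hT hg hodd), hX, Bool.not_false, Bool.true_or, Bool.true_and, cond_true, beqT] at h2
  exact (triv_iff hT hgR).2 h2

/-- An element of odd order centralizing an outer element modulo the trivial action acts trivially. -/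
theorem out_cent {g : G} (hgC : g ∈ centralizer ({f tc} : Set G)) (hgR : g ∈ normalizer (hT.sR : Set G))
    (hodd : Odd (orderOf g)) {a : Nat} (ha : a < 512) (hca : com a cc = true) (haR : inR a = false)
    (hcomm : Triv hT (g * f a * g⁻¹ * (f a)⁻¹)) : Triv hT g := by
  have hg : g ∈ nC hT := ⟨hgC, hgR⟩
  obtain ⟨k, hk⟩ := exists_spread hT
  have h := line_facts hT hk hg
  simp only [lineFacts, band] at h
  have haN : f a ∈ normalizer (hT.sR : Set G) := (mem_inf.1 (S_le_nC hT (hT.mem a ha))).2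
  have hc : imgC a ∈ cList := by
    have h1 := of_allC code_check.1 a ha
    simp only [band] at h1
    have h2 := h1.2
    rw [show com a 4 = true from hca, haR, Bool.not_false, Bool.and_self, cond_true] at h2
    exact has_iff.1 h2
  have hcN : g * f a * g⁻¹ * (f a)⁻¹ ∈ normalizer (hT.sR : Set G) :=
    mul_mem (mul_mem (mul_mem hgR haN) (inv_mem hgR)) (inv_mem haN)
  have e : ec (img f g) (imgC a) = ec (imgC a) (img f g) := by
    rw [← img_code hT ha, ← img_mul hT hgR haN, ← img_mul hT haN hgR,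
      show g * f a = g * f a * g⁻¹ * (f a)⁻¹ * (f a * g) by group]
    obtain ⟨h0, h1, h2, h3⟩ := basis_mem hT
    have key : ∀ b ∈ hT.sR, pnt f (g * f a * g⁻¹ * (f a)⁻¹ * (f a * g) * b *
        (g * f a * g⁻¹ * (f a)⁻¹ * (f a * g))⁻¹) = pnt f (f a * g * b * (f a * g)⁻¹) := by
      intro b hb
      have hb' := conj_mem hT (mul_mem haN hgR) hb
      rw [show g * f a * g⁻¹ * (f a)⁻¹ * (f a * g) * b * (g * f a * g⁻¹ * (f a)⁻¹ * (f a * g))⁻¹ =
        g * f a * g⁻¹ * (f a)⁻¹ * (f a * g * b * (f a * g)⁻¹) * (g * f a * g⁻¹ * (f a)⁻¹)⁻¹ by group]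
      exact (pnt_eq_iff hT (conj_mem hT hcN hb') hb').2 (hcomm _ hb')
    show mk _ _ _ _ = mk _ _ _ _
    rw [key _ h0, key _ h1, key _ h2, key _ h3]
  have hY : (cList.any fun c => Nat.beq (ec (img f g) c) (ec c (img f g))) = true :=
    List.any_eq_true.2 ⟨_, hc, beqT.2 e⟩
  have h2 := h.1.1.2
  rw [beqT.2 (fifteen hT hg hodd), hY, Bool.or_true, Bool.true_and, cond_true, beqT] at h2
  exact (triv_iff hT hgR).2 h2

/-- An element of odd order acting trivially centralizes the core. -/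
theorem triv_odd_cent {y : G} (hyC : y ∈ centralizer ({f tc} : Set G)) (hyN : y ∈ normalizer (hT.sR : Set G))
    (hyo : Odd (orderOf y)) (hyT : Triv hT y) : y ∈ centralizer (hT.sR : Set G) := by
  have hy : y ∈ nC hT := ⟨hyC, hyN⟩
  have hyt : Commute y (f 8) := nC_comm hT hy
  obtain ⟨-, -, -, -, -, r4, z4, r8, z8, -, -, -, -, -, m44, m88, m124, -⟩ := basis_check
  have h84 : f 8 ^ 4 = 1 := by
    rw [show f 8 ^ 4 = (f 8 * f 8) ^ 2 by rw [← pow_two, ← pow_mul], (hT.sq_eq_one_iff (by norm_num)).2 m88,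
      one_pow]
  have hc4 : f 4 * f 4 = f 8 := (hT.sq_eq_iff (by norm_num) (by norm_num)).2 m44
  have hyc : Commute y (f 4) := by
    obtain ⟨z, hz, pz, ez⟩ := hyT _ (mem_sR hT (by norm_num) r4)
    have hval := of_allC center_check.2 z hz
    simp only [band, pz, cond_true, Bool.or_eq_true, beqT] at hval
    have e4 : y * f 4 * y⁻¹ = f z * f 4 := by rw [ez]; group
    have hz1 : f z = 1 := by
      rcases hval.1.2 with ((rfl | rfl) | rfl) | rfl
      · exact hT.map_zero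
      · exfalso
        rw [hc4] at e4
        have e : y * f 4 * y⁻¹ = y * f 8 * y⁻¹ := by rw [e4, hyt.eq, mul_inv_cancel_right]
        exact absurd (hT.inj _ _ (by norm_num) (by norm_num) (mul_left_cancel (mul_right_cancel e))) (by norm_num)
      · exact eq_one_of_twist hyo hyt h84 e4
      · exfalso
        rw [← hT.mul _ _ (by norm_num) (by norm_num), m124, hT.map_zero, conj_eq_one_iff] at e4
        exact absurd ((hT.eq_one_iff (by norm_num)).1 e4) (by norm_num)
    rw [hz1, one_mul, mul_inv_eq_iff_eq_mul] at e4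
    exact e4
  rw [mem_centralizer_iff]
  intro r hr
  obtain ⟨z, hz, pz, ez⟩ := hyT r hr
  have hval := of_allC center_check.2 z hz
  simp only [band, pz, cond_true, Bool.or_eq_true, beqT] at hval
  have e : y * r * y⁻¹ = f z * r := by rw [ez]; group
  have hz4 : f z ^ 4 = 1 ∧ Commute y (f z) := by
    have h44 : f 4 ^ 4 = 1 := by
      rw [show f 4 ^ 4 = (f 4 * f 4) * (f 4 * f 4) by simp [pow_succ, mul_assoc], hc4,
        (hT.sq_eq_one_iff (by norm_num)).2 m88]
    have h12 : f 12 = (f 4)⁻¹ := eq_inv_of_mul_eq_one_left (by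
      rw [← hT.mul _ _ (by norm_num) (by norm_num), m124, hT.map_zero])
    rcases hval.1.2 with ((rfl | rfl) | rfl) | rfl
    · rw [hT.map_zero]; exact ⟨one_pow 4, Commute.one_right y⟩
    · exact ⟨h44, hyc⟩
    · exact ⟨h84, hyt⟩
    · rw [h12]; exact ⟨by rw [inv_pow, h44, inv_one], hyc.inv_right⟩
  rw [eq_one_of_twist hyo hz4.2 hz4.1 e, one_mul, mul_inv_eq_iff_eq_mul] at e
  exact e.symm

/-- The kernel of the action is the core. -/
theorem triv_eq {g : G} (hgC : g ∈ centralizer ({f tc} : Set G)) (hgR : g ∈ normalizer (hT.sR : Set G))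
    (hcR : centralizer ({f tc} : Set G) ⊓ centralizer (hT.sR : Set G) ≤ hT.sR) : Triv hT g ↔ g ∈ hT.sR := by
  haveI : Fact (Nat.Prime 2) := ⟨Nat.prime_two⟩
  refine ⟨fun htr => ?_, fun hg r hr => ?_⟩
  swap
  · refine (pnt_eq_iff hT (mul_mem (mul_mem hg hr) (inv_mem hg)) hr).1 ?_
    rw [pnt_mul hT (mul_mem hg hr) (inv_mem hg), pnt_mul hT hg hr, pnt_inv hT hg, Nat.xor_comm (pnt f g),
      Nat.xor_assoc, Nat.xor_self, Nat.xor_zero]
  have hN : ∀ {x : G}, x ∈ nC hT → x ∈ normalizer (hT.sR : Set G) := fun hx => (mem_inf.1 hx).2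
  let K : Subgroup G :=
    { carrier := {x | x ∈ nC hT ∧ Triv hT x}
      one_mem' := ⟨one_mem _, triv_one hT⟩
      mul_mem' := fun hx hy => ⟨mul_mem hx.1 hy.1, triv_mul hT (hN hx.1) (hN hy.1) hx.2 hy.2⟩
      inv_mem' := fun {x} hx => inv_mem_of_pow (p := fun x => x ∈ nC hT ∧ Triv hT x) ⟨one_mem _, triv_one hT⟩
        (fun a b ha hb => ⟨mul_mem ha.1 hb.1, triv_mul hT (hN ha.1) (hN hb.1) ha.2 hb.2⟩) hx }
  -- no elements of odd order
  have hodd1 : ∀ y ∈ K, Odd (orderOf y) → y = 1 := by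
    rintro y ⟨hy, hyT⟩ hyo
    have hyR := triv_odd_cent hT (mem_inf.1 hy).1 (mem_inf.1 hy).2 hyo hyT
    have hyS : y ∈ (S : Subgroup G) := hT.sub_le (hcR ⟨(mem_inf.1 hy).1, hyR⟩)
    have hd := Subgroup.orderOf_dvd_natCard (S : Subgroup G) hyS
    rw [hT.card_eq, show 512 = 2 ^ 9 from rfl] at hd
    exact orderOf_eq_one_iff.1 (Nat.eq_one_of_dvd_coprimes ((Nat.coprime_two_right.2 hyo).pow_right 9) dvd_rfl hd)
  have hKp : IsPGroup 2 K := by
    intro x
    obtain ⟨e, m, hm, he⟩ := Nat.exists_eq_pow_mul_and_not_dvd (orderOf_pos (x : G)).ne' 2 (by norm_num)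
    refine ⟨e, Subtype.ext ?_⟩
    refine hodd1 _ (x ^ 2 ^ e).2 ?_
    rw [SubmonoidClass.coe_pow, orderOf_pow' _ (by positivity), he,
      Nat.gcd_eq_right (Dvd.intro m rfl), Nat.mul_div_cancel_left _ (by positivity)]
    exact Nat.odd_iff.2 (Nat.two_dvd_ne_zero.1 hm)
  have hSK : (S : Subgroup G) ≤ normalizer (K : Set G) := fun s hs => mem_normalizer_of_conj_mem fun x hx =>
    ⟨mul_mem (mul_mem (S_le_nC hT hs) hx.1) (inv_mem (S_le_nC hT hs)), fun r hr => by
      have hsN := hN (S_le_nC hT hs)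
      have hr' : s⁻¹ * r * s ∈ hT.sR := by simpa using conj_mem hT (inv_mem hsN) hr
      have := conj_mem_sZ hT hsN (hx.2 _ hr')
      rwa [show s * (x * (s⁻¹ * r * s) * x⁻¹ * (s⁻¹ * r * s)⁻¹) * s⁻¹ = s * x * s⁻¹ * r * (s * x * s⁻¹)⁻¹ * r⁻¹ by group] at this⟩
  have hsup := S.3 (IsPGroup.to_sup_of_normal_right' S.2 hKp hSK) le_sup_left
  have hgS : g ∈ (S : Subgroup G) := by
    rw [← hsup]
    exact mem_sup_right (show g ∈ K from ⟨⟨hgC, hgR⟩, htr⟩)
  obtain ⟨h, hh, rfl⟩ := hT.surj g hgS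
  have h1 := of_allC code_check.1 h hh
  simp only [band] at h1
  have h2 := h1.1.2
  rw [beqT.2 ((img_code hT hh).symm.trans ((triv_iff hT hgR).1 htr)), cond_true] at h2
  exact mem_sR hT hh h2

/-- The centralizer of the central involution acts as the symmetric group of degree five. -/
theorem exists_hom (hRn : centralizer ({f tc} : Set G) ≤ normalizer (hT.sR : Set G))
    (hcR : centralizer ({f tc} : Set G) ⊓ centralizer (hT.sR : Set G) ≤ hT.sR)
    (hmove : ∃ g ∈ centralizer ({f tc} : Set G), g ∉ normalizer (hT.sV : Set G)) :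
    ∃ π : centralizer ({f tc} : Set G) →* Equiv.Perm (Fin 5),
      Function.Surjective π ∧ π.ker = hT.sR.subgroupOf (centralizer ({f tc} : Set G)) := by
  obtain ⟨k, hk⟩ := exists_spread hT
  have hnC : ∀ x : centralizer ({f tc} : Set G), (x : G) ∈ nC hT := fun x => ⟨x.2, hRn x.2⟩
  letI act : MulAction (centralizer ({f tc} : Set G)) (Fin 5) :=
    { smul := fun x i => ⟨lix k (eApp (img f (x : G)) (lrep i)),
        (lix_spec k (eApp_img_ne hT (hRn x.2) (lrep_spec k i.2).1 (lrep_spec k i.2).2.1).1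
          (eApp_img_ne hT (hRn x.2) (lrep_spec k i.2).1 (lrep_spec k i.2).2.1).2).2⟩
      one_smul := fun i => Fin.ext (show lix k (eApp (img f ((1 : centralizer ({f tc} : Set G)) : G)) (lrep i)) = i by
        rw [OneMemClass.coe_one, img_one hT, eApp_idc (lrep_spec k i.2).1, (lrep_spec k i.2).2.2])
      mul_smul := fun x y i => Fin.ext (inP_mul hT (hRn x.2) (hRn y.2) (hk _ (hnC x))
        (lrep_spec k i.2).1 (lrep_spec k i.2).2.1) }
  let π : centralizer ({f tc} : Set G) →* Equiv.Perm (Fin 5) := MulAction.toPermHom _ _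
  have hval : ∀ (x : centralizer ({f tc} : Set G)) (i : Fin 5),
      ((π x i : Fin 5) : ℕ) = lix k (eApp (img f (x : G)) (lrep i)) := fun _ _ => rfl
  have hker1 : ∀ x, π x = 1 ↔ Triv hT (x : G) := by
    intro x
    refine ⟨fun h => (triv_iff hT (hRn x.2)).2 ?_, fun h => Equiv.ext fun i => Fin.ext ?_⟩
    · have hl := line_facts hT hk (hnC x)
      simp only [lineFacts, band] at hl
      have hl' := hl.2
      rw [allBelow_of (d := 3) (by norm_num) (fun i hi => beqT.2 (by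
        have := hval x ⟨i, hi⟩
        rw [h] at this
        exact this.symm)), cond_true, beqT] at hl'
      exact hl'
    · rw [hval, (triv_iff hT (hRn x.2)).1 h, eApp_idc (lrep_spec k i.2).1, (lrep_spec k i.2).2.2]
      rfl
  have hker : π.ker = hT.sR.subgroupOf (centralizer ({f tc} : Set G)) := by
    ext x
    rw [MonoidHom.mem_ker, hker1, triv_eq hT x.2 (hRn x.2) hcR, mem_subgroupOf]
  refine ⟨π, ?_, hker⟩
  obtain ⟨g, hgC, hgV⟩ := hmove
  have hgn := hRn hgC
  have hl := line_facts hT hk (show g ∈ nC hT from ⟨hgC, hgn⟩)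
  simp only [lineFacts, band] at hl
  have hl3 := hl.1.2
  have h0 : Nat.beq (lix k (eApp (img f g) (lrep 0))) 0 = false := by
    rw [Bool.eq_false_iff]
    intro h0
    rw [h0, cond_true] at hl3
    refine hgV (mem_normalizer_of_conj_mem ?_)
    rintro _ ⟨a, ha, pa, rfl⟩
    have hb := of_allC center_check.2 a ha
    simp only [band, pa, cond_true, beqT] at hb
    have hm := mem_sR hT ha hb.2.1
    obtain ⟨b, hbl, pb, eb⟩ := conj_mem hT hgn hm
    refine ⟨b, hbl, (ptc_spec hbl pb).2.2.2 ⟨?_, ?_⟩, eb⟩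
    · rw [← pnt_f hT hbl, eb, ← eApp_pnt hT hgn hm, pnt_f hT ha]
      exact Nat.le_of_ble_eq_true (of_allBelow hl3 _ ((ptc_spec ha hb.2.1).2.2.1 pa).1)
    · rw [← hT.sq_eq_one_iff hbl, eb]
      rw [show g * f a * g⁻¹ * (g * f a * g⁻¹) = g * (f a * f a) * g⁻¹ by group, (hT.sq_eq_one_iff ha).2 hb.2.2]
      group
  rw [h0, cond_false] at hl3
  rw [band] at hl3
  have hSC : (S : Subgroup G) ≤ centralizer ({f tc} : Set G) := fun x hx => (mem_inf.1 (S_le_nC hT hx)).1
  have himg1 : ∀ x : centralizer ({f tc} : Set G), π x = 1 ↔ img f (x : G) = idc := fun x =>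
    (hker1 x).trans (triv_iff hT (hRn x.2))
  have h3 : 3 ∣ Nat.card π.range := by
    obtain ⟨d, hd, hd'⟩ := List.any_eq_true.1 hl3.1
    simp only [band, Bool.not_eq_true'] at hd'
    obtain ⟨h, hh, e⟩ := lift_dList hT hd
    let u : centralizer ({f tc} : Set G) := ⟨g, hgC⟩ * ⟨f h, hSC (hT.mem h hh)⟩
    have hu : img f (u : G) = ec (img f g) d := by
      show img f (g * f h) = _
      rw [img_mul hT hgn (hRn (hSC (hT.mem h hh))), img_code hT hh, e]
    have hu2 : img f ((u * u : centralizer ({f tc} : Set G)) : G) = ec (ec (img f g) d) (ec (img f g) d) := by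
      rw [Subgroup.coe_mul, img_mul hT (hRn u.2) (hRn u.2), hu]
    have ho : orderOf (π (u * u)) = 3 := by
      haveI : Fact (Nat.Prime 3) := ⟨Nat.prime_three⟩
      refine orderOf_eq_prime ?_ ?_
      · rw [← map_pow, himg1, SubmonoidClass.coe_pow, img_pow_three hT (hRn (u * u).2), hu2]
        exact beqT.1 hd'.1
      · intro h1
        rw [himg1, hu2] at h1
        rw [beqT.2 h1] at hd'
        exact Bool.noConfusion hd'.2
    have := Subgroup.orderOf_dvd_natCard π.range (x := π (u * u)) ⟨_, rfl⟩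
    rwa [ho] at this
  have h5 : 5 ∣ Nat.card π.range := by
    obtain ⟨d, hd, hd'⟩ := List.any_eq_true.1 hl3.2
    simp only [band, Bool.not_eq_true'] at hd'
    obtain ⟨h, hh, e⟩ := lift_dList hT hd
    let u : centralizer ({f tc} : Set G) := ⟨g, hgC⟩ * ⟨f h, hSC (hT.mem h hh)⟩
    have hu : img f (u : G) = ec (img f g) d := by
      show img f (g * f h) = _
      rw [img_mul hT hgn (hRn (hSC (hT.mem h hh))), img_code hT hh, e]
    have ho : orderOf (π u) = 5 := by
      haveI : Fact (Nat.Prime 5) := ⟨by norm_num⟩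
      refine orderOf_eq_prime ?_ ?_
      · rw [← map_pow, himg1, SubmonoidClass.coe_pow, img_pow_five hT (hRn u.2), hu]
        exact beqT.1 hd'.1
      · intro h1
        rw [himg1, hu] at h1
        rw [beqT.2 h1] at hd'
        exact Bool.noConfusion hd'.2
    have := Subgroup.orderOf_dvd_natCard π.range (x := π u) ⟨_, rfl⟩
    rwa [ho] at this
  have h8 : 8 ∣ Nat.card π.range := by
    let φ : (S : Subgroup G) →* Equiv.Perm (Fin 5) := π.comp (Subgroup.inclusion hSC)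
    have hφ : φ.ker = hT.sR.subgroupOf (S : Subgroup G) := by
      ext x
      rw [MonoidHom.mem_ker, mem_subgroupOf]
      show π (Subgroup.inclusion hSC x) = 1 ↔ _
      rw [← MonoidHom.mem_ker, hker, mem_subgroupOf, coe_inclusion]
    have hc := index_mul_card φ.ker
    rw [index_ker] at hc
    rw [hφ, hT.card_eq, Nat.card_congr (subgroupOfEquivOfLe (show hT.sR ≤ (S : Subgroup G) from hT.sub_le)).toEquiv,
      hT.card_sR] at hc
    have h : φ.range ≤ π.range := by
      rintro _ ⟨x, rfl⟩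
      exact ⟨_, rfl⟩
    refine dvd_trans (dvd_of_eq ?_) (card_dvd_of_le h)
    omega
  rw [← MonoidHom.range_eq_top]
  refine eq_top_of_le_card _ ?_
  rw [Nat.card_perm, Nat.card_fin, show Nat.factorial 5 = 8 * 15 from rfl]
  refine Nat.le_of_dvd Nat.card_pos ?_
  have h15 : 15 ∣ Nat.card π.range := Nat.Coprime.mul_dvd_of_dvd_of_dvd (by norm_num : Nat.Coprime 3 5) h3 h5
  exact Nat.Coprime.mul_dvd_of_dvd_of_dvd (by norm_num : Nat.Coprime 8 15) h8 h15

end CfsgLib.HSSylow
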