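import Cfsg.Agent.HSSylow.Top
import Cfsg.Agent.HSSylow.YGroup
import Cfsg.Agent.Signalizer.Basic

/-!
Balance of the odd cores on the first layer of the homocyclic subgroup, and triviality of the odd core of the
centralizer of the central involution from its structure modulo that core.
-/

set_option autoImplicit false
set_option maxRecDepth 100000
set_option linter.unusedSectionVars false
set_option linter.style.haveILetI false

namespace CfsgLib.HSSylow

open Subgroup CfsgLib.SylL34 CfsgLib.Coset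

theorem fixed_point : allC (fun a => cond (Nat.beq (mm a a) 0)
    (anyL (List.range 512) fun r => inR r && !(inZ r) && com r a) true) = true := by decide +kernel

theorem layer_fix : allC (fun a => cond (Nat.beq (mm a a) 0 && inR a)
    (Nat.ble 4 ((List.range 512).filter fun b => inV b && com b a).length) true) = true := by decide +kernel

theorem layer_facts : allC (fun a => cond (inV a) (inR a && Nat.beq (mm a a) 0) true) = true := by decide +kernel

/-- In a product of an odd subgroup and a 2-element normalizing it, an element of odd order lies in the odd part. -/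
theorem odd_part {G : Type*} [Group G] [Finite G] {O : Subgroup G} (hO : Odd (Nat.card O)) {o q : G} (ho : o ∈ O)
    (hq : q ∈ normalizer (O : Set G)) {e : ℕ} (hqe : q ^ 2 ^ e = 1) (hodd : Odd (orderOf (o * q))) : q = 1 := by
  have hk : ∀ k : ℕ, ∃ o' ∈ O, (o * q) ^ k = o' * q ^ k := fun k => by
    induction k with
    | zero => exact ⟨1, one_mem _, by simp⟩
    | succ k ih =>
      obtain ⟨o', ho', e'⟩ := ih
      refine ⟨o' * (q ^ k * o * (q ^ k)⁻¹), mul_mem ho' ((mem_normalizer_iff.1 (pow_mem hq k) o).1 ho), ?_⟩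
      rw [pow_succ, e', pow_succ]
      group
  obtain ⟨o', ho', e'⟩ := hk (orderOf (o * q))
  rw [pow_orderOf_eq_one] at e'
  have hqn : q ^ orderOf (o * q) = o'⁻¹ := eq_inv_of_mul_eq_one_right e'.symm
  have h1 : q ^ orderOf (o * q) = 1 := eq_one_odd_two (k := e)
    (odd_orderOf_of_mem hO (hqn ▸ inv_mem ho')) (by rw [← pow_mul, mul_comm, pow_mul, hqe, one_pow])
  exact eq_one_odd_two (Odd.of_dvd_nat hodd (orderOf_dvd_of_pow_eq_one h1)) hqe

variable {G : Type*} [Group G] [Finite G] {S : Sylow 2 G} {f : Nat → G} (hT : Tab (S : Subgroup G) f)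
include hT

section

variable (hdec : ∀ g ∈ centralizer ({f 8} : Set G), ∃ o ∈ Oc (f 8),
    ∃ n ∈ centralizer ({f 8} : Set G) ⊓ normalizer (hT.sR : Set G), g = o * n)
  (hker : ∀ x ∈ centralizer ({f 8} : Set G), x ∈ centralizer (hT.sR : Set G) →
    ∃ o ∈ Oc (f 8), ∃ z ∈ hT.sZ, x = o * z)
include hdec hker

theorem balance_code {a : Nat} (ha : a < 512) (haa : mm a a = 0) {x : G} (hx : x ∈ Oc (f a))
    (hxt : x ∈ centralizer ({f 8} : Set G)) : x ∈ Oc (f 8) := by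
  set O := Oc (f 8) with hO
  have hOodd : Odd (Nat.card O) := Oc_odd _
  have hCO : ∀ {y}, y ∈ centralizer ({f 8} : Set G) → y ∈ normalizer (O : Set G) := fun hy =>
    cent_le_normalizer_Oc _ hy
  have hpow : ∀ {y : G}, y ∈ (S : Subgroup G) → ∃ e : ℕ, y ^ 2 ^ e = 1 := fun {y} hy => by
    obtain ⟨e, he⟩ := S.2 ⟨y, hy⟩
    exact ⟨e, congrArg Subtype.val he⟩
  have hxodd : Odd (orderOf x) := odd_orderOf_of_mem (Oc_odd _) hx
  obtain ⟨o, ho, n, ⟨hnC, hnR⟩, rfl⟩ := hdec x hxt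
  obtain ⟨r, hr, hb⟩ : ∃ r, r < 512 ∧ (inR r = true ∧ inZ r = false ∧ com r a = true) := by
    have h := of_allC fixed_point a ha
    rw [show Nat.beq (mm a a) 0 = true by rw [Nat.beq_eq]; exact haa, cond_true] at h
    obtain ⟨r, hr, h'⟩ := anyL_iff.1 h
    simp only [Bool.and_eq_true, Bool.not_eq_true'] at h'
    exact ⟨r, List.mem_range.1 hr, h'.1.1, h'.1.2, h'.2⟩
  obtain ⟨hrR, hrZ, hra⟩ := hb
  have hrS : f r ∈ (S : Subgroup G) := hT.mem r hr
  have hrC : f r ∈ centralizer ({f 8} : Set G) := sylow_le_cent hT hrS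
  have hrm : f r ∈ hT.sR := ⟨r, hr, hrR, rfl⟩
  -- the commutator with the fixed element is odd
  set q := n * f r * n⁻¹ * (f r)⁻¹ with hq
  have hqR : q ∈ hT.sR := mul_mem (conj_mem_of_normalizer hnR hrm) (inv_mem hrm)
  have hcom : o * n * f r * (o * n)⁻¹ * (f r)⁻¹ ∈ Oc (f a) := by
    have h1 : f r * (o * n)⁻¹ * (f r)⁻¹ ∈ Oc (f a) := conj_mem_of_normalizer
      (cent_le_normalizer_Oc _ (mem_centralizer_singleton_iff.2 ((hT.com_iff hr ha).1 hra))) (inv_mem hx)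
    rw [show o * n * f r * (o * n)⁻¹ * (f r)⁻¹ = o * n * (f r * (o * n)⁻¹ * (f r)⁻¹) by group]
    exact mul_mem hx h1
  have hnr : n * f r * n⁻¹ ∈ centralizer ({f 8} : Set G) := mul_mem (mul_mem hnC hrC) (inv_mem hnC)
  have ho1 : o * (n * f r * n⁻¹ * o⁻¹ * (n * f r * n⁻¹)⁻¹) ∈ O :=
    mul_mem ho (conj_mem_of_normalizer (hCO hnr) (inv_mem ho))
  have hqC : q ∈ centralizer ({f 8} : Set G) := sylow_le_cent hT (hT.sub_le hqR)
  obtain ⟨e, he⟩ := hpow (hT.sub_le hqR)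
  have hq1 : q = 1 := by
    refine odd_part hOodd ho1 (hCO hqC) he ?_
    rw [show o * (n * f r * n⁻¹ * o⁻¹ * (n * f r * n⁻¹)⁻¹) * q = o * n * f r * (o * n)⁻¹ * (f r)⁻¹ by
      rw [hq]; group]
    exact odd_orderOf_of_mem (Oc_odd _) hcom
  -- the odd part of `n` centralizes the core
  obtain ⟨e2, m, hm, hem⟩ := Nat.exists_eq_pow_mul_and_not_dvd (orderOf_pos n).ne' 2 (by norm_num)
  have hmodd : Odd (orderOf (n ^ 2 ^ e2)) := by
    rw [orderOf_pow' _ (by positivity), hem, Nat.gcd_eq_right (Dvd.intro m rfl),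
      Nat.mul_div_cancel_left _ (by positivity)]
    exact Nat.odd_iff.2 (Nat.two_dvd_ne_zero.1 hm)
  have hncomm : Commute (n ^ 2 ^ e2) (f r) := by
    refine Commute.pow_left ?_ _
    rw [hq, mul_inv_eq_one, mul_inv_eq_iff_eq_mul] at hq1
    exact hq1
  have htriv : Triv hT (n ^ 2 ^ e2) := point_stab hT (pow_mem hnC _) (pow_mem hnR _) hmodd hr hrR hrZ (by
    rw [hncomm.eq, mul_inv_cancel_right, mul_inv_cancel]
    exact one_mem _)
  obtain ⟨o2, ho2, z, hz, e3⟩ := hker _ (pow_mem hnC _)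
    (triv_odd_cent hT (pow_mem hnC _) (pow_mem hnR _) hmodd htriv)
  have hzS : z ∈ (S : Subgroup G) := hT.sub_le hz
  obtain ⟨e4, he4⟩ := hpow hzS
  have hz1 : z = 1 := odd_part hOodd ho2 (hCO (sylow_le_cent hT hzS)) he4 (e3 ▸ hmodd)
  have hn2 : n ^ 2 ^ e2 ∈ O := by rw [e3, hz1, mul_one]; exact ho2
  have hk : ∀ k : ℕ, ∃ o' ∈ O, (o * n) ^ k = o' * n ^ k := fun k => by
    induction k with
    | zero => exact ⟨1, one_mem _, by simp⟩
    | succ k ih =>
      obtain ⟨o', ho', e'⟩ := ih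
      refine ⟨o' * (n ^ k * o * (n ^ k)⁻¹), mul_mem ho' (conj_mem_of_normalizer (hCO (pow_mem hnC k)) ho), ?_⟩
      rw [pow_succ, e', pow_succ]
      group
  obtain ⟨o', ho', e'⟩ := hk (2 ^ e2)
  obtain ⟨u, hu⟩ := exists_pow_eq_self_of_coprime (x := o * n) (n := 2 ^ e2)
    ((Nat.coprime_two_left.2 hxodd).pow_left _)
  rw [← hu, e']
  exact pow_mem (mul_mem ho' hn2) u

/-- Balance for two commuting involutions fused to the central one. -/
theorem balance {a b : G} (hab : a * b = b * a) (ha : IsConj (f 8) a) (hb : IsConj (f 8) b) {x : G}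
    (hx : x ∈ Oc a) (hxb : x * b = b * x) : x ∈ Oc b := by
  obtain ⟨g, rfl⟩ := isConj_iff.1 hb
  have h88 : f 8 * f 8 = 1 := (hT.sq_eq_one_iff (by norm_num)).2 (by decide +kernel)
  have haC : g⁻¹ * a * g ∈ centralizer ({f 8} : Set G) := cent_conj.1 (mem_centralizer_singleton_iff.2 hab)
  obtain ⟨u, hu⟩ := isConj_iff.1 ha
  obtain ⟨c, hc, hcS⟩ := conj_into S (sylow_le_cent hT) haC (by
    rw [← hu, show g⁻¹ * (u * f 8 * u⁻¹) * g * (g⁻¹ * (u * f 8 * u⁻¹) * g) =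
      g⁻¹ * u * (f 8 * f 8) * (g⁻¹ * u)⁻¹ by group, h88]
    group)
  obtain ⟨a', ha', ea⟩ := hT.surj _ hcS
  have haa : mm a' a' = 0 := (hT.sq_eq_one_iff ha').1 (by
    rw [ea, ← hu, show c * (g⁻¹ * (u * f 8 * u⁻¹) * g) * c⁻¹ * (c * (g⁻¹ * (u * f 8 * u⁻¹) * g) * c⁻¹) =
      c * g⁻¹ * u * (f 8 * f 8) * (c * g⁻¹ * u)⁻¹ by group, h88]
    group)
  have ht : c * g⁻¹ * (g * f 8 * g⁻¹) * (c * g⁻¹)⁻¹ = f 8 := by
    rw [show c * g⁻¹ * (g * f 8 * g⁻¹) * (c * g⁻¹)⁻¹ = c * f 8 * c⁻¹ by group, cent_fix hT hc]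
  have h1 : c * g⁻¹ * x * (c * g⁻¹)⁻¹ ∈ Oc (f a') := by
    rw [ea, show c * (g⁻¹ * a * g) * c⁻¹ = c * g⁻¹ * a * (c * g⁻¹)⁻¹ by group]
    exact conj_mem_Oc hx
  have h2 := balance_code hT hdec hker ha' haa h1 (by
    have h3 : x ∈ centralizer ({g * f 8 * g⁻¹} : Set G) := mem_centralizer_singleton_iff.2 hxb
    rw [← ht, cent_conj]
    rwa [show (c * g⁻¹)⁻¹ * (c * g⁻¹ * x * (c * g⁻¹)⁻¹) * (c * g⁻¹) = x by group])
  have h4 := conj_mem_Oc (g := (c * g⁻¹)⁻¹) h2
  rw [show (c * g⁻¹)⁻¹ * (c * g⁻¹ * x * (c * g⁻¹)⁻¹) * (c * g⁻¹)⁻¹⁻¹ = x by group] at h4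
  have e : (c * g⁻¹)⁻¹ * f 8 * (c * g⁻¹)⁻¹⁻¹ = g * f 8 * g⁻¹ := by
    calc (c * g⁻¹)⁻¹ * f 8 * (c * g⁻¹)⁻¹⁻¹ = g * (c⁻¹ * f 8 * c⁻¹⁻¹) * g⁻¹ := by group
      _ = g * f 8 * g⁻¹ := by rw [cent_fix hT (inv_mem hc)]
  rwa [e] at h4

variable [IsSimpleGroup G]

/-- The centralizer of the central involution has no odd core. -/
theorem core_bot : Oc (f 8) = ⊥ := by
  haveI : Fact (Nat.Prime 2) := ⟨Nat.prime_two⟩
  have hV2 : ∀ v ∈ hT.sV, v * v = 1 ∧ v ∈ hT.sR := by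
    rintro _ ⟨a, ha, pa, rfl⟩
    have h := of_allC layer_facts a ha
    simp only [pa, cond_true, Bool.and_eq_true] at h
    exact ⟨(hT.sq_eq_one_iff ha).2 (Nat.eq_of_beq_eq_true h.2), ⟨a, ha, h.1, rfl⟩⟩
  have hVconj : ∀ v ∈ hT.sV, v ≠ 1 → IsConj (f 8) v := by
    rintro _ ⟨a, ha, pa, rfl⟩ h1
    obtain ⟨n, -, e⟩ := fused_V hT a ha pa fun h0 => h1 (by rw [h0, hT.map_zero])
    exact (isConj_iff.2 ⟨n, e⟩).symm
  obtain ⟨W, hWodd, hWle, -, hWN, hWE⟩ := closure_props (V := hT.sV) (fun v hv => (hV2 v hv).1)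
    (le_of_eq hT.card_sV.symm) (fun a ha ha1 b hb hb1 x hx hxb =>
      balance hT hdec hker (comm_of_sq (fun v hv => (hV2 v hv).1) ha hb) (hVconj a ha ha1) (hVconj b hb hb1) hx hxb)
  have h8V : f 8 ∈ hT.sV := ⟨8, by norm_num, by decide +kernel, rfl⟩
  have h81 : f 8 ≠ 1 := fun h => absurd ((hT.eq_one_iff (by norm_num)).1 h) (by norm_num)
  have hel : Cfsg.IsElementaryAbelian 2 hT.sV := ⟨⟨⟨fun a b => Subtype.ext
    (comm_of_sq (fun v hv => (hV2 v hv).1) a.2 b.2)⟩⟩, fun a ha => by rw [sq]; exact (hV2 a ha).1⟩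
  have hOW : ∀ (v : G), v ∈ hT.sV → v ≠ 1 → ∀ n ∈ centralizer ({f 8} : Set G) ⊓ normalizer (hT.sR : Set G),
      Oc (n * v * n⁻¹) ≤ W := by
    intro v hv hv1 n hn
    obtain ⟨a, ha, pa, ea⟩ := conj_mem_of_normalizer hn.2 (hV2 v hv).2
    have haa : mm a a = 0 := (hT.sq_eq_one_iff ha).1 (by
      rw [ea, show n * v * n⁻¹ * (n * v * n⁻¹) = n * (v * v) * n⁻¹ by group, (hV2 v hv).1]; group)
    have hconj : IsConj (f 8) (n * v * n⁻¹) := (hVconj v hv hv1).trans (isConj_iff.2 ⟨n, rfl⟩)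
    set E := hT.sV ⊓ centralizer ({n * v * n⁻¹} : Set G) with hE
    have hE4 : 2 ^ 2 ≤ Nat.card E := by
      have h := of_allC layer_fix a ha
      rw [pa, show Nat.beq (mm a a) 0 = true by rw [Nat.beq_eq]; exact haa, Bool.and_self, cond_true] at h
      refine le_trans (Nat.le_of_ble_eq_true h) ?_
      rw [← List.toFinset_card_of_nodup (List.nodup_range.filter _), ← Fintype.card_coe, ← Nat.card_eq_fintype_card]
      refine Nat.card_le_card_of_injective (fun b => (⟨f b.1, ?_⟩ : E)) fun b b' e => Subtype.ext ?_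
      · obtain ⟨hb, hb'⟩ := List.mem_filter.1 (List.mem_toFinset.1 b.2)
        rw [Bool.and_eq_true] at hb'
        exact ⟨⟨b, List.mem_range.1 hb, hb'.1, rfl⟩, mem_centralizer_singleton_iff.2 (by
          rw [← ea]; exact (hT.com_iff (List.mem_range.1 hb) ha).1 hb'.2)⟩
      · exact hT.inj _ _ (List.mem_range.1 (List.mem_filter.1 (List.mem_toFinset.1 b.2)).1)
          (List.mem_range.1 (List.mem_filter.1 (List.mem_toFinset.1 b'.2)).1) (congrArg Subtype.val e :)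
    refine Signalizer.le_of_forall_centralizer hel inf_le_left hE4
      (fun y hy => cent_le_normalizer_Oc _ hy.2) (Oc_odd _).not_two_dvd_nat fun y hy hy1 x hx => ?_
    exact hWle y hy.1 hy1 (balance hT hdec hker (mem_centralizer_singleton_iff.1 hy.2).symm hconj
      (hVconj y hy.1 hy1) hx.1 (mem_centralizer_singleton_iff.1 hx.2))
  have hnorm : centralizer ({f 8} : Set G) ⊓ normalizer (hT.sR : Set G) ≤ normalizer (W : Set G) := by
    intro n hn
    refine mem_normalizer_of_cj (eq_of_le_of_card_ge ?_ (card_cj n W).ge)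
    refine (map_mono (hWE hT.sV le_rfl (by rw [hT.card_sV]; norm_num))).trans ?_
    rw [Subgroup.map_iSup]
    refine iSup_le fun v => ?_
    show cj n (Oc (v : G)) ≤ W
    rw [cj_Oc]
    exact hOW _ v.2.1 v.2.2 n hn
  have hC : centralizer ({f 8} : Set G) ≤ normalizer (W : Set G) := fun y hy => by
    obtain ⟨o, ho, n, hn, rfl⟩ := hdec y hy
    exact mul_mem (le_normalizer (hWle _ h8V h81 ho)) (hnorm hn)
  have hWn : W.Normal := normalizer_eq_top_iff.1 (top_of_local hT hC hWN)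
  rcases IsSimpleGroup.eq_bot_or_eq_top_of_normal W hWn with h | h
  · exact eq_bot_iff.2 (h ▸ hWle _ h8V h81)
  · exfalso
    rw [h, Nat.odd_iff, Subgroup.card_top] at hWodd
    have : 2 ∣ Nat.card G := dvd_trans (by norm_num : 2 ∣ 512)
      (hT.card_eq ▸ Subgroup.card_subgroup_dvd_card _)
    omega

end

end CfsgLib.HSSylow
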