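import Cfsg.Agent.HSSylow.Fusion
import Cfsg.Agent.JankoSylow.Closed
import Cfsg.Agent.JankoSylow.CoreLift
import Cfsg.Agent.TwoSolv.Parts
import Cfsg.Agent.Invol.IsolatedApps

/-!
The centralizer of the central involution: the root `f 4` is isolated modulo the involution, and the core `R` is
strongly closed in the centralizer of the root.
-/

set_option autoImplicit false
set_option maxRecDepth 100000
set_option linter.unusedSectionVars false
set_option linter.style.haveILetI false

namespace CfsgLib.HSSylow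

open Subgroup CfsgLib.SylL34 CfsgLib.Coset

theorem root_classes : allC (fun a => cond (Nat.beq (mm a a) 8)
    (cond (Nat.ble (num a) 256) (cond (cond (Nat.beq a 4) true (Nat.beq a 12)) true
      (anyL [6, 36, 130, 147, 452, 453] fun x => anyL (List.range 512) fun k => Nat.beq (cnj k x) a)) false)
    true) = true := by decide +kernel

theorem num_roots : num 4 = 256 ∧ num 130 = 32 ∧ num 147 = 32 := by decide +kernel

/-- The code lies in the normalizer of the centralizer of `x`. -/
noncomputable def inQ (x h : Nat) : Bool :=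
  allC fun a => cond (com a x) (com (cnj h a) x) true

theorem central_roots : ∀ x ∈ [130, 147], allC (fun z => cond (Nat.beq (mm z z) 8) (cond (com z x)
    (cond (allL (List.range 512) fun a => cond (com a x) (com a z) true) (anyL [4, 12, x, mm x 8] (Nat.beq z)) true) true)
    true) = true ∧ com 4 x = true ∧ com 12 x = true := by decide +kernel

theorem q_moves : ∀ x ∈ [130, 147], ∃ q < 512, inQ x q = true ∧ cnj q x = mm x 8 := by decide +kernel

theorem swap_c : ∃ s < 512, cnj s 12 = 4 ∧ cnj s 8 = 8 := by decide +kernel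

theorem central_eight : allC (fun a => com a 8) = true := by decide +kernel

variable {G : Type*} [Group G] [Finite G] {S : Sylow 2 G} {f : Nat → G} (hT : Tab (S : Subgroup G) f)
include hT

theorem sylow_le_cent : (S : Subgroup G) ≤ centralizer ({f 8} : Set G) := fun y hy => by
  obtain ⟨a, ha, rfl⟩ := hT.surj y hy
  exact mem_centralizer_singleton_iff.2 ((hT.com_iff ha (by norm_num)).1 (of_allC central_eight a ha))

theorem cent_fix {g : G} (hg : g ∈ centralizer ({f 8} : Set G)) : g * f 8 * g⁻¹ = f 8 := by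
  rw [mem_centralizer_singleton_iff.1 hg, mul_inv_cancel_right]

/-- A search used at a conjugating element of the centralizer of the central involution. -/
theorem Good.use2 {j : Job} {t : Test} (hG : Good j t) {x z : Nat} (hj : j.fixd = [(x, z), (8, 8)])
    (p : Nat → Bool) (hc : allL j.lv (fun l => cond (Nat.blt l.gen 512) (p l.gen) false) = true) {g : G}
    (hg : g ∈ centralizer ({f 8} : Set G)) (e : g * f x * g⁻¹ = f z)
    (hS : ∀ a, a < 512 → p a = true → g * f a * g⁻¹ ∈ (S : Subgroup G))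
    (h0 : t.init = []) (h1 : t.goals = []) (h2 : t.extra = []) : False := by
  obtain ⟨a1, a2⟩ := cond_false.1 (hG : cond _ _ false = true)
  obtain ⟨a1, a1'⟩ := cond_false.1 a1
  obtain ⟨h, -, -, ys, hm, hl⟩ := j.exists_leaf hT a1 a2 g (fun q hq => by
    rw [hj] at hq
    simp only [List.mem_cons, List.not_mem_nil, or_false] at hq
    rcases hq with rfl | rfl
    · exact e
    · exact cent_fix hT hg) (fun l hl => by
    obtain ⟨a, b⟩ := cond_false.1 (allL_iff.1 hc l hl)
    exact hS _ (Nat.le_of_ble_eq_true a) b)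
  rcases t.sound hT hm a1' hl (by rw [h0]; simp) with ⟨q, hq, -⟩ | ⟨w, hw, -⟩
  · rw [h1] at hq; simp at hq
  · rw [h2] at hw; simp at hw

theorem sq_root {a : Nat} (ha : a < 512) {H : Subgroup G} (hH : H ≤ centralizer ({f 8} : Set G)) {x : Nat}
    (hx : x < 512) (hxx : mm x x = 8) (h : CIn H (f x) (f a)) : mm a a = 8 := by
  obtain ⟨g, hg, e⟩ := h
  rw [← hT.sq_eq_iff ha (by norm_num), ← e,
    show g * f x * g⁻¹ * (g * f x * g⁻¹) = g * (f x * f x) * g⁻¹ by group,
    (hT.sq_eq_iff hx (by norm_num)).2 hxx, cent_fix hT (hH hg)]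

theorem cIso_small {x : Nat} (hx : x ∈ [6, 36, 452, 453])
    (h : CIn (centralizer ({f 8} : Set G)) (f x) (f 4)) : False := by
  have hx512 : x < 512 := by
    simp only [List.mem_cons, List.not_mem_nil, or_false] at hx
    omega
  have hxx : mm x x = 8 :=
    (by decide +kernel : ∀ x ∈ [6, 36, 452, 453], mm x x = 8) x hx
  obtain ⟨g, hg, e, hS⟩ := exists_to hT (sylow_le_cent hT) hx512 (by norm_num) h fun v hv hcv => by
    have h1 := of_allC root_classes v hv
    rw [show Nat.beq (mm v v) 8 = true by rw [Nat.beq_eq]; exact sq_root hT hv le_rfl hx512 hxx hcv,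
      cond_true] at h1
    exact num_roots.1 ▸ Nat.le_of_ble_eq_true (cond_false.1 h1).1
  simp only [List.mem_cons, List.not_mem_nil, or_false] at hx
  rcases hx with rfl | rfl | rfl | rfl
  · exact ok_cIso_6_4.use2 hT rfl (fun a => com a 6) (by decide +kernel) hg e hS rfl rfl rfl
  · exact ok_cIso_36_4.use2 hT rfl (fun a => com a 36) (by decide +kernel) hg e hS rfl rfl rfl
  · exact ok_cIso_452_4.use2 hT rfl (fun a => com a 452) (by decide +kernel) hg e hS rfl rfl rfl
  · exact ok_cIso_453_4.use2 hT rfl (fun a => com a 453) (by decide +kernel) hg e hS rfl rfl rfl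

set_option maxHeartbeats 1000000 in
-- a long chain of steps in one proof
theorem cIso_large {x : Nat} (hx : x ∈ [130, 147])
    (h : CIn (centralizer ({f 8} : Set G)) (f x) (f 4)) : False := by
  classical
  haveI : Fact (Nat.Prime 2) := ⟨Nat.prime_two⟩
  set C := centralizer ({f 8} : Set G) with hC
  have hx512 : x < 512 := by
    simp only [List.mem_cons, List.not_mem_nil, or_false] at hx
    omega
  obtain ⟨hxx, hx0⟩ := (by decide +kernel : ∀ x ∈ [130, 147], mm x x = 8 ∧ com x x = true) x hx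
  have hnum : num x = 32 := by
    simp only [List.mem_cons, List.not_mem_nil, or_false] at hx
    rcases hx with rfl | rfl
    exacts [num_roots.2.1, num_roots.2.2]
  obtain ⟨hroots, hc4, hc12⟩ := central_roots x hx
  set T := (S : Subgroup G) ⊓ centralizer ({f x} : Set G) with hTdef
  set N := C ⊓ normalizer (T : Set G) with hN
  have hTmem : ∀ {y : G}, y ∈ T ↔ ∃ a, a < 512 ∧ com a x = true ∧ f a = y := by
    intro y
    constructor
    · intro hy
      obtain ⟨a, ha, rfl⟩ := hT.surj y hy.1
      exact ⟨a, ha, (hT.com_iff ha hx512).2 (mem_centralizer_singleton_iff.1 hy.2), rfl⟩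
    · rintro ⟨a, ha, hax, rfl⟩
      exact ⟨hT.mem a ha, mem_centralizer_singleton_iff.2 ((hT.com_iff ha hx512).1 hax)⟩
  have hxT : f x ∈ T := hTmem.2 ⟨x, hx512, hx0, rfl⟩
  have hTC : T ≤ C := inf_le_left.trans (sylow_le_cent hT)
  -- the normalizer of `T` in the Sylow subgroup
  set Q := (S : Subgroup G) ⊓ normalizer (T : Set G) with hQ
  have hQN : Q ≤ N := inf_le_inf_right _ (sylow_le_cent hT)
  have hmemQ : ∀ q, q < 512 → inQ x q = true → f q ∈ Q := fun q hq h' =>
    ⟨hT.mem q hq, mem_normalizer_of_conj_mem fun y hy => by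
      obtain ⟨a, ha, hax, rfl⟩ := hTmem.1 hy
      have h1 := of_allC h' a ha
      rw [hax, cond_true] at h1
      exact hTmem.2 ⟨cnj q a, mm_lt _ _, h1, hT.map_cnj hq ha⟩⟩
  -- the orbit of `x` under the normalizer
  have horb : ∀ n ∈ N, n * f x * n⁻¹ ∈ ({f 4, f 12, f x, f x * f 8} : Set G) := by
    intro n hn
    have hmem : n * f x * n⁻¹ ∈ T := conj_mem_of_normalizer hn.2 hxT
    obtain ⟨z, hz, hzx, ez⟩ := hTmem.1 hmem
    have hzz : mm z z = 8 := sq_root hT hz (le_rfl : C ≤ C) hx512 hxx ⟨n, hn.1, ez.symm⟩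
    have hcent : allL (List.range 512) (fun a => cond (com a x) (com a z) true) = true := by
      refine allL_iff.2 fun a ha => ?_
      rw [List.mem_range] at ha
      cases hax : com a x
      · rfl
      · rw [cond_true, hT.com_iff ha hz, ez]
        have h1 := conj_mem_of_normalizer (inv_mem hn.2) (hTmem.2 ⟨a, ha, hax, rfl⟩)
        have h2 := mem_centralizer_singleton_iff.1 h1.2
        calc f a * (n * f x * n⁻¹) = n * (n⁻¹ * f a * n⁻¹⁻¹ * f x) * n⁻¹ := by group
          _ = n * (f x * (n⁻¹ * f a * n⁻¹⁻¹)) * n⁻¹ := by rw [h2]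
          _ = n * f x * n⁻¹ * f a := by group
    have h1 := of_allC hroots z hz
    rw [show Nat.beq (mm z z) 8 = true by rw [Nat.beq_eq]; exact hzz, cond_true, hzx, cond_true, hcent,
      cond_true] at h1
    obtain ⟨y, hy, he⟩ := anyL_iff.1 h1
    have he' := Nat.eq_of_beq_eq_true he
    subst he'
    rw [← ez]
    simp only [List.mem_cons, List.not_mem_nil, or_false] at hy
    rcases hy with rfl | rfl | rfl | rfl
    · simp
    · simp
    · simp
    · rw [hT.mul _ _ hx512 (by norm_num)]; simp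
  set O := {y : G // ∃ n ∈ N, n * f x * n⁻¹ = y} with hO
  obtain ⟨q, hq, hqQ, hqx⟩ := q_moves x hx
  have hqN : f q ∈ N := hQN (hmemQ q hq hqQ)
  have hqe : f q * f x * (f q)⁻¹ = f x * f 8 := by
    rw [← hT.map_cnj hq hx512, hqx, hT.mul _ _ hx512 (by norm_num)]
  have h124 : Nat.card O ∣ 4 := by
    have hc12' : f 12 = f 4 * f 8 := by
      rw [← hT.mul _ _ (by norm_num) (by norm_num)]
      exact congrArg f (by decide +kernel)
    have h88 : f 8 * f 8 = 1 := (hT.sq_eq_one_iff (by norm_num)).2 (by decide +kernel)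
    have hstep : ∀ y, (∃ n ∈ N, n * f x * n⁻¹ = y) → ∃ n ∈ N, n * f x * n⁻¹ = y * f 8 := by
      rintro y ⟨n, hn, rfl⟩
      refine ⟨n * f q, mul_mem hn hqN, ?_⟩
      calc n * f q * f x * (n * f q)⁻¹ = n * (f q * f x * (f q)⁻¹) * n⁻¹ := by group
        _ = n * f x * n⁻¹ * (n * f 8 * n⁻¹) := by rw [hqe]; group
        _ = n * f x * n⁻¹ * f 8 := by rw [cent_fix hT hn.1]
    have hxo : ∃ n ∈ N, n * f x * n⁻¹ = f x := ⟨1, one_mem _, by group⟩
    have hx8 : f x ≠ f x * f 8 := fun h => by
      rw [left_eq_mul, hT.eq_one_iff (by norm_num)] at h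
      exact absurd h (by norm_num)
    by_cases h4 : ∃ n ∈ N, n * f x * n⁻¹ = f 4
    · have h12 := hstep _ h4
      rw [← hc12'] at h12
      have hall : ∀ y, (∃ n ∈ N, n * f x * n⁻¹ = y) ↔ y ∈ ({f 4, f 12, f x, f x * f 8} : Finset G) := by
        intro y
        constructor
        · rintro ⟨n, hn, rfl⟩
          simpa using horb n hn
        · simp only [Finset.mem_insert, Finset.mem_singleton]
          rintro (rfl | rfl | rfl | rfl)
          exacts [h4, h12, hxo, hstep _ hxo]
      rw [Nat.card_congr (Equiv.subtypeEquivRight hall), Nat.card_eq_fintype_card, Fintype.card_coe]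
      have hne : (x ≠ 4 ∧ x ≠ 12 ∧ mm x 8 ≠ 4 ∧ mm x 8 ≠ 12) :=
        (by decide +kernel : ∀ x ∈ [130, 147], x ≠ 4 ∧ x ≠ 12 ∧ mm x 8 ≠ 4 ∧ mm x 8 ≠ 12) x hx
      rw [← hT.mul _ _ hx512 (by norm_num), Finset.card_insert_of_notMem, Finset.card_insert_of_notMem,
        Finset.card_pair]
      · rw [ne_eq, hT.eq_iff hx512 (mm_lt _ _)]
        exact fun h => hx8 ((congrArg f h).trans (hT.mul _ _ hx512 (by norm_num)))
      · simp only [Finset.mem_insert, Finset.mem_singleton, hT.eq_iff (show 12 < 512 by norm_num) hx512,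
          hT.eq_iff (show 12 < 512 by norm_num) (mm_lt x 8)]
        rintro (h | h)
        exacts [hne.2.1 h.symm, hne.2.2.2 h.symm]
      · simp only [Finset.mem_insert, Finset.mem_singleton, hT.eq_iff (show 4 < 512 by norm_num) hx512,
          hT.eq_iff (show 4 < 512 by norm_num) (mm_lt x 8),
          hT.eq_iff (show 4 < 512 by norm_num) (show 12 < 512 by norm_num)]
        rintro (h | h | h)
        exacts [absurd h (by norm_num), hne.1 h.symm, hne.2.2.1 h.symm]
    · have h12 : ¬ ∃ n ∈ N, n * f x * n⁻¹ = f 12 := fun h' => h4 (by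
        have := hstep _ h'
        rwa [hc12', mul_assoc, h88, mul_one] at this)
      have hall : ∀ y, (∃ n ∈ N, n * f x * n⁻¹ = y) ↔ y ∈ ({f x, f x * f 8} : Finset G) := by
        intro y
        constructor
        · rintro ⟨n, hn, rfl⟩
          have := horb n hn
          simp only [Set.mem_insert_iff, Set.mem_singleton_iff] at this
          simp only [Finset.mem_insert, Finset.mem_singleton]
          rcases this with e | e | e | e
          exacts [absurd ⟨n, hn, e⟩ h4, absurd ⟨n, hn, e⟩ h12, Or.inl e, Or.inr e]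
        · simp only [Finset.mem_insert, Finset.mem_singleton]
          rintro (rfl | rfl)
          exacts [hxo, hstep _ hxo]
      rw [Nat.card_congr (Equiv.subtypeEquivRight hall), Nat.card_eq_fintype_card, Fintype.card_coe,
        Finset.card_pair hx8]
      norm_num
  -- a subgroup of order 64 fixing `x`
  have h64 : 2 ^ 6 ∣ Nat.card ((centralizer ({f x} : Set G)).subgroupOf N) := by
    obtain ⟨k, hk, ek⟩ := h
    have hle : cj k⁻¹ ((S : Subgroup G) ⊓ centralizer ({f 4} : Set G)) ≤ C ⊓ centralizer ({f x} : Set G) := by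
      intro y hy
      rw [mem_cj, inv_inv] at hy
      refine ⟨?_, mem_centralizer_singleton_iff.2 ?_⟩
      · have := mul_mem (mul_mem (inv_mem hk) (sylow_le_cent hT hy.1)) hk
        rwa [show k⁻¹ * (k * y * k⁻¹) * k = y by group] at this
      · have h1 := mem_centralizer_singleton_iff.1 hy.2
        rw [← ek] at h1
        calc y * f x = k⁻¹ * (k * y * k⁻¹ * (k * f x * k⁻¹)) * k := by group
          _ = k⁻¹ * (k * f x * k⁻¹ * (k * y * k⁻¹)) * k := by rw [h1]
          _ = f x * y := by group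
    have hdvd := Subgroup.card_dvd_of_le hle
    rw [card_cj, card_cent hT (by norm_num), num_roots.1] at hdvd
    set H := C ⊓ centralizer ({f x} : Set G)
    have hTH : T ≤ H := inf_le_inf_right _ (sylow_le_cent hT)
    have hTc : Nat.card (T.subgroupOf H) = 2 ^ 5 := by
      rw [Nat.card_congr (subgroupOfEquivOfLe hTH).toEquiv, hTdef, card_cent hT hx512, hnum]
      norm_num
    obtain ⟨U, hU, hTU⟩ := Sylow.exists_subgroup_card_pow_succ (p := 2) (n := 5) (H := T.subgroupOf H)
      (dvd_trans (by norm_num : 2 ^ (5 + 1) ∣ 256) hdvd) hTc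
    have hUN : ∀ u ∈ U, (u : G) ∈ N ⊓ centralizer ({f x} : Set G) := by
      intro u hu
      refine ⟨⟨u.2.1, ?_⟩, u.2.2⟩
      have hn : ((T.subgroupOf H).subgroupOf U).Normal := by
        refine normal_of_index_eq_two ?_
        have h1 := ((T.subgroupOf H).subgroupOf U).card_mul_index
        rw [Nat.card_congr (subgroupOfEquivOfLe hTU).toEquiv, hU, hTc] at h1
        omega
      refine mem_normalizer_of_conj_mem fun y hy => ?_
      exact hn.conj_mem ⟨⟨y, hTH hy⟩, hTU hy⟩ hy ⟨u, hu⟩
    have hle' : U.map H.subtype ≤ N ⊓ centralizer ({f x} : Set G) := by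
      rintro _ ⟨u, hu, rfl⟩
      exact hUN u hu
    have := Subgroup.card_dvd_of_le hle'
    rw [card_map_of_injective H.subtype_injective, hU, ← Nat.card_congr
      (subgroupOfEquivOfLe (inf_le_left : N ⊓ centralizer ({f x} : Set G) ≤ N)).toEquiv, inf_subgroupOf_left] at this
    exact this
  -- a Sylow subgroup of the normalizer over the normalizer in the Sylow subgroup
  obtain ⟨P, hP⟩ := ((S.2.to_le inf_le_left).of_equiv (subgroupOfEquivOfLe hQN).symm :
    IsPGroup 2 (Q.subgroupOf N)).exists_le_sylow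
  set P' := (P : Subgroup N).map N.subtype with hP'
  have hP'N : P' ≤ N := map_subtype_le _
  set Px := P' ⊓ centralizer ({f x} : Set G) with hPx
  have hPx64 : 64 ≤ Nat.card Px := by
    obtain ⟨m, hm⟩ := (Nat.dvd_prime_pow Nat.prime_two).1 (show Nat.card O ∣ 2 ^ 2 from h124)
    have hdiv : Nat.card O * 2 ^ 6 ∣ Nat.card N := by
      rw [← JankoSylow.card_conj_orbit N (f x)]
      exact mul_dvd_mul_left _ h64
    rw [hm.2, ← pow_add] at hdiv
    have hP2 : 2 ^ (m + 6) ∣ Nat.card P' := by
      rw [hP', card_map_of_injective N.subtype_injective]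
      exact P.pow_dvd_card_of_pow_dvd_card hdiv
    have h3 := JankoSylow.card_conj_orbit P' (f x)
    rw [hPx, ← Nat.card_congr (subgroupOfEquivOfLe
      (inf_le_left : P' ⊓ centralizer ({f x} : Set G) ≤ P')).toEquiv, inf_subgroupOf_left]
    have hle : Nat.card {y : G // ∃ n ∈ P', n * f x * n⁻¹ = y} ≤ Nat.card O :=
      Nat.card_le_card_of_injective (fun y => (⟨y.1, y.2.imp fun n hn => ⟨hP'N hn.1, hn.2⟩⟩ : O))
        fun y y' e => Subtype.ext (congrArg Subtype.val e :)
    have h5 := Nat.le_of_dvd Nat.card_pos hP2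
    have h6 := Nat.mul_le_mul_right (Nat.card ((centralizer ({f x} : Set G)).subgroupOf P')) hle
    rw [h3, hm.2] at h6
    have h7 := h5.trans h6
    rw [pow_add] at h7
    exact Nat.le_of_mul_le_mul_left h7 (by positivity)
  -- move it into the Sylow subgroup
  obtain ⟨k, hk⟩ := exists_cj_le (S.subtype (sylow_le_cent hT)) (P := P'.subgroupOf C)
    ((P.2.map _).comap_subtype)
  have hP'C : P' ≤ C := hP'N.trans inf_le_left
  have hkS : ∀ p ∈ P', (k : G) * p * (k : G)⁻¹ ∈ (S : Subgroup G) := fun p hp =>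
    hk (conj_mem_cj.2 (show (⟨p, hP'C hp⟩ : C) ∈ P'.subgroupOf C from hp))
  have hQP : Q ≤ P' := fun y hy => ⟨⟨y, hQN hy⟩, hP hy, rfl⟩
  have hxQ : f x ∈ Q := ⟨hxT.1, le_normalizer hxT⟩
  obtain ⟨z, hz, ez⟩ := hT.surj _ (hkS _ (hQP hxQ))
  have hzz : mm z z = 8 := sq_root hT hz (le_rfl : C ≤ C) hx512 hxx ⟨k, k.2, ez.symm⟩
  have hz64 : 64 ≤ num z := by
    rw [← card_cent hT hz]
    refine hPx64.trans (le_of_eq_of_le (card_cj (k : G) Px).symm (card_le_of_le ?_))
    rintro _ ⟨p, hp, rfl⟩
    refine ⟨hkS p hp.1, mem_centralizer_singleton_iff.2 ?_⟩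
    show (k : G) * p * (k : G)⁻¹ * f z = f z * ((k : G) * p * (k : G)⁻¹)
    rw [ez, show (k : G) * p * (k : G)⁻¹ * (k * f x * (k : G)⁻¹) = k * (p * f x) * (k : G)⁻¹ by group,
      mem_centralizer_singleton_iff.1 hp.2]
    group
  obtain ⟨s, hs, hs12, -⟩ := swap_c
  have hz4 : z = 4 ∨ z = 12 := by
    have h1 := of_allC root_classes z hz
    rw [show Nat.beq (mm z z) 8 = true by rw [Nat.beq_eq]; exact hzz, cond_true] at h1
    obtain ⟨-, h1⟩ := cond_false.1 h1
    by_contra hne
    rw [show cond (Nat.beq z 4) true (Nat.beq z 12) = false by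
      rw [Bool.eq_false_iff]
      intro h'
      cases h4 : Nat.beq z 4 <;> rw [h4] at h'
      · exact hne (Or.inr (Nat.eq_of_beq_eq_true h'))
      · exact hne (Or.inl (Nat.eq_of_beq_eq_true h4)), Bool.cond_false] at h1
    obtain ⟨y, hy, hy'⟩ := anyL_iff.1 h1
    obtain ⟨j, hj, hje⟩ := anyL_iff.1 hy'
    have hje' := Nat.eq_of_beq_eq_true hje
    have hy512 : y < 512 := by
      simp only [List.mem_cons, List.not_mem_nil, or_false] at hy
      omega
    have hj512 := List.mem_range.1 hj
    have hy4 : CIn C (f y) (f 4) := by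
      have hyx : CIn C (f y) (f z) := ⟨f j, sylow_le_cent hT (hT.mem j hj512), by
        rw [← hje', hT.map_cnj hj512 hy512]⟩
      exact hyx.trans ((CIn.symm (show CIn C (f x) (f z) from ⟨k, k.2, ez.symm⟩)).trans h)
    by_cases hsmall : y ∈ [6, 36, 452, 453]
    · exact cIso_small hT hsmall hy4
    · have hn2 : ∀ y ∈ [6, 36, 130, 147, 452, 453], y ∉ [6, 36, 452, 453] →
          allC (fun j => Nat.ble (num (cnj j y)) 32) = true := by decide +kernel
      have := Nat.le_of_ble_eq_true (of_allC (hn2 y hy hsmall) j hj512)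
      rw [hje'] at this
      exact absurd (hz64.trans this) (by norm_num)
  -- the search
  obtain ⟨g, hg, eg, hgS⟩ : ∃ g ∈ C, g * f x * g⁻¹ = f 4 ∧
      ∀ a, a < 512 → inQ x a = true → g * f a * g⁻¹ ∈ (S : Subgroup G) := by
    rcases hz4 with rfl | rfl
    · exact ⟨k, k.2, ez.symm, fun a ha h' => hkS _ (hQP (hmemQ a ha h'))⟩
    · refine ⟨f s * k, mul_mem (sylow_le_cent hT (hT.mem s hs)) k.2, ?_, fun a ha h' => ?_⟩
      · rw [← hs12, hT.map_cnj hs (by norm_num), ez]
        group
      · rw [show f s * (k : G) * f a * (f s * (k : G))⁻¹ = f s * ((k : G) * f a * (k : G)⁻¹) * (f s)⁻¹ by group]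
        exact mul_mem (mul_mem (hT.mem s hs) (hkS _ (hQP (hmemQ a ha h')))) (inv_mem (hT.mem s hs))
  simp only [List.mem_cons, List.not_mem_nil, or_false] at hx
  rcases hx with rfl | rfl
  · exact ok_cIsoQ_130.use2 hT rfl (inQ 130) (by decide +kernel) hg eg hgS rfl rfl rfl
  · exact ok_cIsoQ_147.use2 hT rfl (inQ 147) (by decide +kernel) hg eg hgS rfl rfl rfl

/-- The root `f 4` is isolated modulo the central involution. -/
theorem root_class {a : Nat} (ha : a < 512) (h : CIn (centralizer ({f 8} : Set G)) (f 4) (f a)) :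
    a = 4 ∨ a = 12 := by
  have haa := sq_root hT ha le_rfl (x := 4) (by norm_num) (by decide +kernel) h
  have h1 := of_allC root_classes a ha
  rw [show Nat.beq (mm a a) 8 = true by rw [Nat.beq_eq]; exact haa, cond_true] at h1
  obtain ⟨-, h1⟩ := cond_false.1 h1
  by_contra hne
  rw [show cond (Nat.beq a 4) true (Nat.beq a 12) = false by
    rw [Bool.eq_false_iff]
    intro h'
    cases h4 : Nat.beq a 4 <;> rw [h4] at h'
    · exact hne (Or.inr (Nat.eq_of_beq_eq_true h'))
    · exact hne (Or.inl (Nat.eq_of_beq_eq_true h4)), Bool.cond_false] at h1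
  obtain ⟨y, hy, hy'⟩ := anyL_iff.1 h1
  obtain ⟨j, hj, hje⟩ := anyL_iff.1 hy'
  have hj512 := List.mem_range.1 hj
  have hy512 : y < 512 := by
    simp only [List.mem_cons, List.not_mem_nil, or_false] at hy
    omega
  have hyx : CIn (centralizer ({f 8} : Set G)) (f y) (f a) := ⟨f j, sylow_le_cent hT (hT.mem j hj512), by
    rw [← Nat.eq_of_beq_eq_true hje, hT.map_cnj hj512 hy512]⟩
  have hy4 := hyx.trans h.symm
  by_cases hsmall : y ∈ [6, 36, 452, 453]
  · exact cIso_small hT hsmall hy4
  · refine cIso_large hT ?_ hy4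
    simp only [List.mem_cons, List.not_mem_nil, or_false] at hy hsmall ⊢
    omega

/-- The centralizer of the central involution is its odd core times the normalizer of the root. -/
theorem cent_decomp {g : G} (hg : g ∈ centralizer ({f 8} : Set G)) :
    ∃ o ∈ Oc (f 8), ∃ n ∈ centralizer ({f 8} : Set G), (n * f 4 * n⁻¹ = f 4 ∨ n * f 4 * n⁻¹ = f 12) ∧
      g = o * n := by
  classical
  haveI : Fact (Nat.Prime 2) := ⟨Nat.prime_two⟩
  set C := centralizer ({f 8} : Set G) with hC
  have h4C : f 4 ∈ C := sylow_le_cent hT (hT.mem 4 (by norm_num))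
  set t' : C := ⟨f 8, mem_centralizer_singleton_iff.2 rfl⟩ with ht'
  set c' : C := ⟨f 4, h4C⟩
  have hcen : ∀ x : C, x * t' = t' * x := fun x => Subtype.ext (mem_centralizer_singleton_iff.1 x.2)
  have htt : t' * t' = 1 := Subtype.ext ((hT.sq_eq_one_iff (by norm_num)).2 (by decide +kernel))
  haveI : (zpowers t').Normal := ⟨fun n hn x => by
    obtain ⟨k, rfl⟩ := mem_zpowers_iff.1 hn
    rw [((show Commute x t' from hcen x).zpow_right k).eq, mul_inv_cancel_right]
    exact zpow_mem (mem_zpowers t') k⟩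
  set p := QuotientGroup.mk' (zpowers t') with hp
  have hker : ∀ x : C, p x = 1 ↔ x = 1 ∨ x = t' := fun x => by
    rw [hp, QuotientGroup.mk'_apply, QuotientGroup.eq_one_iff, mem_zpowers_iff]
    constructor
    · rintro ⟨k, rfl⟩
      have h2 : t' ^ (2 : ℤ) = 1 := by rw [zpow_two]; exact htt
      rcases Int.even_or_odd k with ⟨j, rfl⟩ | ⟨j, rfl⟩
      · left; rw [← two_mul, zpow_mul, h2, one_zpow]
      · right; rw [zpow_add_one, zpow_mul, h2, one_zpow, one_mul]
    · rintro (rfl | rfl)
      · exact ⟨0, zpow_zero _⟩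
      · exact ⟨1, zpow_one _⟩
  have h48 : f 4 * f 8 = f 12 := by
    rw [← hT.mul _ _ (by norm_num) (by norm_num)]
    exact congrArg f (by decide +kernel)
  have hsq : f 4 * f 4 = f 8 := (hT.sq_eq_iff (by norm_num) (by norm_num)).2 (by decide +kernel)
  have hsurj := QuotientGroup.mk'_surjective (zpowers t')
  have hord : orderOf (p c') = 2 := by
    refine orderOf_eq_prime ?_ fun h => ?_
    · rw [pow_two, ← map_mul, hker]
      exact Or.inr (Subtype.ext hsq)
    · rcases (hker _).1 h with e | e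
      · exact absurd ((hT.eq_one_iff (by norm_num)).1 (congrArg Subtype.val e)) (by norm_num)
      · exact absurd ((hT.eq_iff (by norm_num) (by norm_num)).1 (congrArg Subtype.val e :)) (by norm_num)
  have hiso : Cfsg.IsIsolatedInvolution (p c') := by
    refine Invol.isolated_of_sylow ((S.subtype (sylow_le_cent hT)).mapSurjective hsurj) hord fun x hx => ?_
    obtain ⟨x, rfl⟩ := hsurj x
    rw [← map_inv, ← map_mul, ← map_mul] at hx ⊢
    obtain ⟨s, hs, e⟩ := hx
    have hs' : (s : G) ∈ (S : Subgroup G) := hs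
    have hxS : (x : G) * f 4 * (x : G)⁻¹ ∈ (S : Subgroup G) := by
      rcases (hker (s⁻¹ * (x * c' * x⁻¹))).1 (by rw [map_mul, map_inv, e, inv_mul_cancel]) with h | h
      · rw [inv_mul_eq_one] at h
        have h1 : (s : G) = (x : G) * f 4 * (x : G)⁻¹ := congrArg Subtype.val h
        rw [← h1]
        exact hs'
      · rw [inv_mul_eq_iff_eq_mul] at h
        have h1 : (x : G) * f 4 * (x : G)⁻¹ = (s : G) * f 8 := congrArg Subtype.val h
        rw [h1]
        exact mul_mem hs' (hT.mem 8 (by norm_num))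
    obtain ⟨a, ha, ea⟩ := hT.surj _ hxS
    rw [hp, QuotientGroup.mk'_apply, QuotientGroup.mk'_apply, QuotientGroup.eq]
    rcases root_class hT ha ⟨x, x.2, ea.symm⟩ with rfl | rfl
    · rw [show x * c' * x⁻¹ = c' from Subtype.ext ea.symm, inv_mul_cancel]
      exact one_mem _
    · rw [show x * c' * x⁻¹ = c' * t' from Subtype.ext (ea.symm.trans h48.symm), mul_inv_rev, mul_assoc,
        inv_mul_cancel, mul_one]
      exact inv_mem (mem_zpowers t')
  obtain ⟨oq, hoq, cq, hcq, e⟩ := IsoApps.exists_mul hiso (p ⟨g, hg⟩)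
  obtain ⟨x, rfl⟩ := hsurj oq
  obtain ⟨o, ho, hox⟩ := JankoSylow.core_lift p hcen htt hker hoq
  have hpx : p x = p o := by
    rcases hox with rfl | rfl
    · rfl
    · rw [map_mul, (hker t').2 (Or.inr rfl), mul_one]
  set n : C := o⁻¹ * ⟨g, hg⟩ with hn
  have hcq' : p n = cq := by rw [hn, map_mul, map_inv, e, ← hpx, inv_mul_cancel_left]
  refine ⟨(o : G), ⟨o, ho, rfl⟩, n, n.2, ?_, by rw [hn]; push_cast; group⟩
  have h1 : p (c'⁻¹ * (n * c' * n⁻¹)) = 1 := by
    rw [map_mul, map_inv, map_mul, map_mul, map_inv, hcq', mem_centralizer_singleton_iff.1 hcq,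
      mul_inv_cancel_right, inv_mul_cancel]
  rcases (hker _).1 h1 with e' | e' <;> rw [inv_mul_eq_iff_eq_mul] at e'
  · left; rw [mul_one] at e'; exact congrArg Subtype.val e'
  · right
    rw [← h48]
    exact congrArg Subtype.val e'

theorem root_cent_le : centralizer ({f 4} : Set G) ≤ centralizer ({f 8} : Set G) := fun g hg => by
  have h := mem_centralizer_singleton_iff.1 hg
  refine mem_centralizer_singleton_iff.2 ?_
  rw [← (hT.sq_eq_iff (a := 4) (b := 8) (by norm_num) (by norm_num)).2 (by decide +kernel), ← mul_assoc, h,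
    mul_assoc, h, mul_assoc]

/-- The odd core of the centralizer of the root lies in that of the centralizer of its square. -/
theorem core_root_le : Oc (f 4) ≤ Oc (f 8) := by
  set C := centralizer ({f 8} : Set G)
  have h12 : Oc (f 12) = Oc (f 4) := by
    have hinv : f 12 = (f 4)⁻¹ := by
      rw [← hT.map_iv (by norm_num)]
      exact congrArg f (by decide +kernel)
    have he : centralizer ({f 12} : Set G) = centralizer ({f 4} : Set G) := by
      ext y
      rw [hinv, mem_centralizer_singleton_iff, mem_centralizer_singleton_iff]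
      exact ⟨fun h => (Commute.inv_right_iff).1 h, fun h => (Commute.inv_right_iff).2 h⟩
    apply le_antisymm
    · exact le_Oc (he ▸ Oc_le _) (he ▸ cent_le_normalizer_Oc _) (Oc_odd _)
    · exact le_Oc (he.symm ▸ Oc_le _) (he.symm ▸ cent_le_normalizer_Oc _) (Oc_odd _)
  have hK4 : Oc (f 4) ≤ C := (Oc_le _).trans (root_cent_le hT)
  have hsup : Oc (f 8) ⊔ Oc (f 4) ≤ Oc (f 8) := by
    refine le_Oc (sup_le (Oc_le _) hK4) (fun g hg => ?_) ?_
    · obtain ⟨o, ho, n, hn, hn4, rfl⟩ := cent_decomp hT hg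
      refine mul_mem (le_normalizer (mem_sup_left ho)) (mem_normalizer_of_cj ?_)
      rw [cj, Subgroup.map_sup, ← cj, ← cj, cj_Oc, cj_Oc, cent_fix hT hn]
      rcases hn4 with e | e <;> rw [e]
      rw [h12]
    · exact Odd.of_dvd_nat ((Oc_odd _).mul (Oc_odd _))
        (Nat.mul_comm _ _ ▸ Solvable.card_sup_dvd (hK4.trans (cent_le_normalizer_Oc _)) |> fun h => by
          rwa [sup_comm])
  exact le_sup_right.trans hsup

omit [Finite G] hT in
theorem inR_facts : allC (fun a => cond (Nat.beq (mm a a) 0)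
    (cond (inR a) (anyL [0, 1, 2, 3, 4, 8] (Nat.beq (cls a))) (anyL [5, 6, 7, 9] (Nat.beq (cls a))))
    (cond (inR a) (cond (Nat.beq (mm (mm a 4) (mm a 4)) 0) (inR (mm a 4)) false) true) &&
      cond (inR (mm a 4)) (inR a) true) = true := by decide +kernel

variable [IsSimpleGroup G]

theorem sep_core {i k : Nat} (hi : i = 1 ∨ i = 2 ∨ i = 3 ∨ i = 4 ∨ i = 8) (hk : k = 6 ∨ k = 7) :
    ¬ CIn (centralizer ({f 8} : Set G)) (f (rep k)) (f (rep i)) := by
  intro h
  obtain ⟨r0, r1, r2, r3, r4, r5, r6, r7, r8, r9⟩ := rep_vals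
  have hK : ∀ {a b : Nat}, CIn (centralizer ({f 8} : Set G)) (f (rep a)) (f (rep b)) → IsConj (f (rep a)) (f (rep b)) :=
    fun {a b} ⟨g, _, e⟩ => isConj_iff.2 ⟨g, e⟩
  obtain ⟨g, hg, j, hj1, hj, e, hS, hmax⟩ := exists_ext_rep hT (sylow_le_cent hT) (x := rep k) (rep_lt k)
    (rep_sq k (by omega)).1 (by rcases hk with rfl | rfl <;> [rw [r6]; rw [r7]] <;> norm_num)
  have hjk : CIn (centralizer ({f 8} : Set G)) (f (rep k)) (f (rep j)) := ⟨g, hg, e⟩
  have hj1' : j ≠ 1 := fun h1 => by
    subst h1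
    rw [r1] at e
    have hx : f (rep k) = f 8 := by
      calc f (rep k) = g⁻¹ * (g * f (rep k) * g⁻¹) * g := by group
        _ = g⁻¹ * (g * f 8 * g⁻¹) * g := by rw [e, cent_fix hT hg]
        _ = f 8 := by group
    rw [hT.eq_iff (rep_lt k) (by norm_num)] at hx
    rcases hk with rfl | rfl
    · rw [r6] at hx; omega
    · rw [r7] at hx; omega
  have hj5 : j ≠ 5 := fun h5 => by
    subst h5
    rcases hi with rfl | rfl | rfl | rfl | rfl
    iterate 4 exact not_five hT (by omega) (by omega) (hK (hjk.symm.trans h))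
    exact not_eight_five hT (hK (h.symm.trans hjk))
  rcases Nat.lt_or_ge j 5 with hlt | hge
  · rcases hk with rfl | rfl <;> [rw [r6] at e hS; rw [r7] at e hS] <;> interval_cases j
    all_goals try omega
    · rw [r2] at e; exact ok_sepC_64_2.use2 hT rfl (fun a => com a 64) (by decide +kernel) hg e hS rfl rfl rfl
    · rw [r3] at e; exact ok_sepC_64_32.use2 hT rfl (fun a => com a 64) (by decide +kernel) hg e hS rfl rfl rfl
    · rw [r4] at e; exact ok_sepC_64_448.use2 hT rfl (fun a => com a 64) (by decide +kernel) hg e hS rfl rfl rfl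
    · rw [r2] at e; exact ok_sepC_65_2.use2 hT rfl (fun a => com a 65) (by decide +kernel) hg e hS rfl rfl rfl
    · rw [r3] at e; exact ok_sepC_65_32.use2 hT rfl (fun a => com a 65) (by decide +kernel) hg e hS rfl rfl rfl
    · rw [r4] at e; exact ok_sepC_65_448.use2 hT rfl (fun a => com a 65) (by decide +kernel) hg e hS rfl rfl rfl
  · have hb : ∀ c, c < 10 → CIn (centralizer ({f 8} : Set G)) (f (rep k)) (f (rep c)) → num (rep c) ≤ 32 :=
      fun c _ hcc => by
        have := hmax _ (rep_lt c) hcc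
        rw [num_rep j hj] at this
        interval_cases j <;> simp_all
    have hi8 : i = 8 := by
      have := hb i (by omega) h
      rw [num_rep i (by omega)] at this
      rcases hi with rfl | rfl | rfl | rfl | rfl <;> simp at this ⊢
    subst hi8
    obtain ⟨g', hg', e', hS'⟩ := exists_to_rep hT (sylow_le_cent hT) (i := k) (k := 8) (by omega) (by omega)
      h fun c hc hcc => (hb c hc hcc).trans (le_of_eq (by rw [num_rep 8 (by omega)]; rfl))
    rw [r8] at e'
    rcases hk with rfl | rfl
    · rw [r6] at e' hS'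
      exact ok_sepC_64_128.use2 hT rfl (fun a => com a 64) (by decide +kernel) hg' e' hS' rfl rfl rfl
    · rw [r7] at e' hS'
      exact ok_sepC_65_128.use2 hT rfl (fun a => com a 65) (by decide +kernel) hg' e' hS' rfl rfl rfl

/-- The core `R` is strongly closed with respect to the centralizer of the root. -/
theorem R_closed {r d : Nat} (hr : r < 512) (hd : d < 512) (hrR : inR r = true) {k : G}
    (hk : k ∈ centralizer ({f 4} : Set G)) (e : k * f r * k⁻¹ = f d) : inR d = true := by
  have hkC := root_cent_le hT hk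
  have main : ∀ r d, r < 512 → d < 512 → inR r = true → mm r r = 0 → k * f r * k⁻¹ = f d → inR d = true := by
    intro r d hr hd hrR hrr e
    have hdd := mm_of_cin hT (H := ⊤) hr hrr hd ⟨k, mem_top k, e⟩
    have h1 := of_allC inR_facts r hr
    rw [Bool.and_eq_true, show Nat.beq (mm r r) 0 = true by rw [hrr]; rfl, cond_true, hrR, cond_true] at h1
    obtain ⟨i, hi, hie⟩ := anyL_iff.1 h1.1
    have hie := Nat.eq_of_beq_eq_true hie
    by_contra hdR
    have h2 := of_allC inR_facts d hd
    rw [Bool.and_eq_true, show Nat.beq (mm d d) 0 = true by rw [hdd]; rfl, cond_true,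
      Bool.eq_false_iff.2 hdR, Bool.cond_false] at h2
    obtain ⟨j, hj, hje⟩ := anyL_iff.1 h2.1
    have hje := Nat.eq_of_beq_eq_true hje
    simp only [List.mem_cons, List.not_mem_nil, or_false] at hi hj
    have hcr := cls_conj hT (sylow_le_cent hT) hr (by omega)
    have hcd := cls_conj hT (sylow_le_cent hT) hd (by omega)
    have hh : CIn (centralizer ({f 8} : Set G)) (f (rep (cls d))) (f (rep (cls r))) :=
      hcd.symm.trans ((CIn.symm ⟨k, hkC, e⟩).trans hcr)
    have hK : IsConj (f (rep (cls d))) (f (rep (cls r))) := by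
      obtain ⟨g, -, eg⟩ := hh
      exact isConj_iff.2 ⟨g, eg⟩
    rw [hie, hje] at hh hK
    have hi0 : i ≠ 0 := fun h0 => by
      subst h0
      rw [rep_vals.1, hT.map_zero] at hK
      obtain ⟨u, hu⟩ := isConj_iff.1 hK
      rw [mul_inv_eq_one, mul_eq_left, hT.eq_one_iff (rep_lt j)] at hu
      rcases hj with rfl | rfl | rfl | rfl <;> exact absurd hu (by decide +kernel)
    rcases hj with rfl | rfl | rfl | rfl
    · rcases (by omega : (1 ≤ i ∧ i ≤ 4) ∨ i = 8) with h | rfl
      · exact not_five hT h.1 h.2 hK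
      · exact not_eight_five hT hK.symm
    · exact sep_core hT (by omega) (by omega) hh
    · exact sep_core hT (by omega) (by omega) hh
    · exact not_nine hT (by omega) (by omega) hK
  have h1 := of_allC inR_facts r hr
  rw [Bool.and_eq_true] at h1
  cases hrr : Nat.beq (mm r r) 0 with
  | true => exact main r d hr hd hrR (Nat.eq_of_beq_eq_true hrr) e
  | false =>
    rw [hrr, Bool.cond_false, hrR, cond_true] at h1
    obtain ⟨hsq, hR4⟩ := cond_false.1 h1.1
    have e4 : k * f (mm r 4) * k⁻¹ = f (mm d 4) := by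
      rw [hT.mul _ _ hr (by norm_num), hT.mul _ _ hd (by norm_num), ← e,
        show k * (f r * f 4) * k⁻¹ = k * f r * k⁻¹ * (k * f 4 * k⁻¹) by group,
        mem_centralizer_singleton_iff.1 hk, mul_inv_cancel_right]
    have hd4 := main _ _ (mm_lt _ _) (mm_lt _ _) hR4 (Nat.eq_of_beq_eq_true hsq) e4
    have h2 := of_allC inR_facts d hd
    rw [Bool.and_eq_true, hd4, cond_true] at h2
    exact h2.2

end CfsgLib.HSSylow
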