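import Cfsg.Agent.HSSylow.QuotNormal

/-!
The centralizer of the central involution is its odd core times the normalizer of `R`, and the centralizer of `R`
in it is the odd core times the centre of `R`.
-/

set_option autoImplicit false
set_option maxRecDepth 100000
set_option linter.unusedSectionVars false
set_option linter.style.haveILetI false

namespace CfsgLib.HSSylow

open Subgroup CfsgLib.SylL34 CfsgLib.Coset

theorem central_Z : allC (fun z => cond (inZ z) (anyL [0, 4, 8, 12] (Nat.beq z)) true) = true := by decide +kernel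

variable {G : Type*} [Group G] [Finite G] {S : Sylow 2 G} {f : Nat → G} (hT : Tab (S : Subgroup G) f)
include hT

theorem Z_central {z : Nat} (hz : z < 512) (pz : inZ z = true) (k : centralizer ({f 4} : Set G)) :
    k * fk f z = fk f z * k := by
  refine Subtype.ext ?_
  push_cast
  rw [coe_fk hT hz (root_of_Z hT hz pz).1]
  have hz' := of_allC central_Z z hz
  rw [pz, cond_true] at hz'
  obtain ⟨w, hw, e⟩ := anyL_iff.1 hz'
  have e' := Nat.eq_of_beq_eq_true e
  subst e'
  have h4 : (k : G) * f 4 = f 4 * k := mem_centralizer_singleton_iff.1 k.2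
  have h8 : (k : G) * f 8 = f 8 * k := mem_centralizer_singleton_iff.1 (root_cent_le hT k.2)
  simp only [List.mem_cons, List.not_mem_nil, or_false] at hw
  rcases hw with rfl | rfl | rfl | rfl
  · rw [hT.map_zero, mul_one, one_mul]
  · exact h4
  · exact h8
  · rw [show f 12 = f 4 * f 8 by
      rw [← hT.mul _ _ (by norm_num) (by norm_num)]; exact congrArg f (by decide +kernel)]
    rw [← mul_assoc, h4, mul_assoc, h8, ← mul_assoc]

/-- The quotient by the odd core and the centre of `R` is a projection, without odd core. -/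
theorem exists_proj : ∃ N : Subgroup (centralizer ({f 4} : Set G)), ∃ _ : N.Normal,
    Proj f (QuotientGroup.mk' N) ∧ Cfsg.oddCore (centralizer ({f 4} : Set G) ⧸ N) = ⊥ := by
  classical
  haveI : Fact (Nat.Prime 2) := ⟨Nat.prime_two⟩
  haveI : (Cfsg.oddCore (centralizer ({f 4} : Set G))).Normal := ocore_normal
  set Z' := hT.sZ.subgroupOf (centralizer ({f 4} : Set G)) with hZ'
  have hZc : ∀ z ∈ Z', ∀ k : centralizer ({f 4} : Set G), k * z = z * k := by
    rintro z ⟨a, ha, pa, e⟩ k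
    rw [show z = fk f a from Subtype.ext (by rw [coe_fk hT ha (root_of_Z hT ha pa).1]; exact e.symm)]
    exact Z_central hT ha pa k
  haveI : Z'.Normal := ⟨fun z hz k => by rwa [hZc z hz k, mul_inv_cancel_right]⟩
  set N := Cfsg.oddCore (centralizer ({f 4} : Set G)) ⊔ Z' with hN
  have hker : ∀ x : centralizer ({f 4} : Set G), QuotientGroup.mk' N x = 1 ↔
      ∃ o ∈ Cfsg.oddCore (centralizer ({f 4} : Set G)), ∃ z, z < 512 ∧ inZ z = true ∧ (x : G) = (o : G) * f z := by
    intro x
    rw [QuotientGroup.mk'_apply, QuotientGroup.eq_one_iff, hN, ← SetLike.mem_coe, Subgroup.normal_mul]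
    constructor
    · rintro ⟨o, ho, w, ⟨z, hz, pz, ez⟩, rfl⟩
      exact ⟨o, ho, z, hz, pz, by rw [ez]; rfl⟩
    · rintro ⟨o, ho, z, hz, pz, e⟩
      obtain ⟨hzc, -⟩ := root_of_Z hT hz pz
      exact ⟨o, ho, fk f z, ⟨z, hz, pz, (coe_fk hT hz hzc).symm⟩,
        Subtype.ext (by push_cast; rw [coe_fk hT hz hzc, e])⟩
  have P : Proj f (QuotientGroup.mk' N) := ⟨QuotientGroup.mk'_surjective N, hker⟩
  refine ⟨N, inferInstance, P, ?_⟩
  rw [eq_bot_iff]
  intro q hq
  obtain ⟨x, rfl⟩ := QuotientGroup.mk'_surjective N q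
  rw [mem_bot]
  haveI : (Cfsg.oddCore (centralizer ({f 4} : Set G) ⧸ N)).Normal := ocore_normal
  set M := (Cfsg.oddCore (centralizer ({f 4} : Set G) ⧸ N)).comap (QuotientGroup.mk' N) with hM
  haveI : M.Normal := Normal.comap inferInstance _
  obtain ⟨T⟩ : Nonempty (Sylow 2 M) := inferInstance
  have hTZ : ∀ y ∈ (T : Subgroup M), ∀ k : centralizer ({f 4} : Set G), k * (y : centralizer ({f 4} : Set G)) =
      (y : centralizer ({f 4} : Set G)) * k := by
    intro y hy
    obtain ⟨i, hi⟩ := T.2 ⟨y, hy⟩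
    have hi' : (y : centralizer ({f 4} : Set G)) ^ 2 ^ i = 1 :=
      congrArg (fun t : (T : Subgroup M) => ((t : M) : centralizer ({f 4} : Set G))) hi
    have h1 : QuotientGroup.mk' N (y : centralizer ({f 4} : Set G)) = 1 :=
      eq_one_odd_two (k := i) (odd_orderOf_of_mem ocore_odd y.2) (by rw [← map_pow, hi', map_one])
    obtain ⟨o, ho, z, hz, pz, e⟩ := (hker _).1 h1
    obtain ⟨hzc, -⟩ := root_of_Z hT hz pz
    have he : (y : centralizer ({f 4} : Set G)) = o * fk f z :=
      Subtype.ext (by push_cast; rw [coe_fk hT hz hzc, e])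
    have ho1 : o = 1 := by
      refine eq_one_odd_two (k := i + 2) (odd_orderOf_of_mem ocore_odd ho) ?_
      have hy1 : (y : centralizer ({f 4} : Set G)) ^ 2 ^ (i + 2) = 1 := by
        rw [pow_add, pow_mul, hi', one_pow]
      have hz4 : fk f z ^ 2 ^ 2 = 1 := Subtype.ext (by
        push_cast
        rw [coe_fk hT hz hzc, show (4 : ℕ) = 2 * 2 by norm_num, pow_mul, pow_two, pow_two,
          ← hT.mul _ _ hz hz, ← hT.mul _ _ (mm_lt _ _) (mm_lt _ _), hT.eq_one_iff (mm_lt _ _)]
        have := of_allC (by decide +kernel : allC (fun z => cond (inZ z) (Nat.beq (mm (mm z z) (mm z z)) 0) true)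
          = true) z hz
        rw [pz, cond_true] at this
        exact Nat.eq_of_beq_eq_true this)
      rw [he, (show Commute o (fk f z) from Z_central hT hz pz o).mul_pow] at hy1
      rwa [show fk f z ^ 2 ^ (i + 2) = 1 by rw [pow_add, mul_comm, pow_mul, hz4, one_pow], mul_one] at hy1
    intro k
    rw [he, ho1, one_mul]
    exact Z_central hT hz pz k
  obtain ⟨h1, -⟩ := twoNil T fun n _ => mem_centralizer_iff.2 fun y hy => Subtype.ext (hTZ y hy n).symm
  obtain ⟨o, ho, p, hp, e⟩ := h1 ⟨x, hq⟩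
  have hle : (Cfsg.oddCore M).map M.subtype ≤ Cfsg.oddCore (centralizer ({f 4} : Set G)) := by
    refine le_ocore (normalizer_eq_top_iff.1 (top_le_iff.1 ?_))
      (by rw [card_map_of_injective M.subtype_injective]; exact ocore_odd)
    exact (normalizer_eq_top_iff.2 (inferInstance : M.Normal)).ge.trans
      (LocalBalance.normalizer_le_normalizer_core (p := 2) M)
  have e' : x = (o : centralizer ({f 4} : Set G)) * (p : centralizer ({f 4} : Set G)) := congrArg Subtype.val e
  obtain ⟨i, hi⟩ := T.2 ⟨p, hp⟩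
  have hi' : (p : centralizer ({f 4} : Set G)) ^ 2 ^ i = 1 :=
    congrArg (fun t : (T : Subgroup M) => ((t : M) : centralizer ({f 4} : Set G))) hi
  have hoO : (o : centralizer ({f 4} : Set G)) ∈ Cfsg.oddCore _ := hle ⟨o, ho, rfl⟩
  rw [e', map_mul, odd_to_one hT P hoO, one_mul]
  exact eq_one_odd_two (k := i) (odd_orderOf_of_mem ocore_odd p.2) (by rw [← map_pow, hi', map_one])

variable [IsSimpleGroup G]

/-- The centralizer of the root is its odd core times the normalizer of `R`. -/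
theorem root_dec {k : G} (hk : k ∈ centralizer ({f 4} : Set G)) : ∃ o ∈ Oc (f 4), ∃ n ∈
    centralizer ({f 4} : Set G), n ∈ normalizer (hT.sR : Set G) ∧ k = o * n := by
  obtain ⟨N, hN, P, hO⟩ := exists_proj hT
  obtain ⟨htop, -⟩ := normal_Vq hT P hO
  obtain ⟨n, hn, en⟩ := exists_lift hT P (q := QuotientGroup.mk' N ⟨k, hk⟩) (htop ▸ mem_top _)
  obtain ⟨o, ho, z, hz, pz, e⟩ := (P.ker (⟨k, hk⟩ * n⁻¹)).1 (by rw [map_mul, map_inv, en, mul_inv_cancel])
  obtain ⟨hzc, hzR⟩ := root_of_Z hT hz pz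
  refine ⟨o, mem_Oc_iff.2 ⟨o.2, ho⟩, f z * n, mul_mem (mem_root hT hz hzc) n.2,
    mul_mem (le_normalizer (show f z ∈ hT.sR from ⟨z, hz, hzR, rfl⟩)) hn, ?_⟩
  push_cast at e
  rw [← mul_assoc, ← e]
  group

/-- The centralizer of the central involution is its odd core times the normalizer of `R`. -/
theorem cent_core {g : G} (hg : g ∈ centralizer ({f 8} : Set G)) : ∃ o ∈ Oc (f 8), ∃ n ∈
    centralizer ({f 8} : Set G) ⊓ normalizer (hT.sR : Set G), g = o * n := by
  obtain ⟨o, ho, n, hn, hn4, rfl⟩ := cent_decomp hT hg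
  rcases hn4 with e | e
  · obtain ⟨o', ho', n', hn', hn'R, rfl⟩ := root_dec hT (k := n)
      (mem_centralizer_singleton_iff.2 (mul_inv_eq_iff_eq_mul.1 e))
    exact ⟨o * o', mul_mem ho (core_root_le hT ho'), n', ⟨root_cent_le hT hn', hn'R⟩, (mul_assoc o o' n').symm⟩
  · obtain ⟨s, hs, -, hs12⟩ := swap_root
    have hsC : f s ∈ centralizer ({f 8} : Set G) := sylow_le_cent hT (hT.mem s hs)
    have hsn : f s * n ∈ centralizer ({f 4} : Set G) := by
      refine mem_centralizer_singleton_iff.2 (mul_inv_eq_iff_eq_mul.1 ?_)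
      rw [show f s * n * f 4 * (f s * n)⁻¹ = f s * (n * f 4 * n⁻¹) * (f s)⁻¹ by group, e,
        ← hT.map_cnj hs (by norm_num), hs12]
    obtain ⟨o', ho', n', hn', hn'R, e'⟩ := root_dec hT hsn
    have h1 : (f s)⁻¹ * n' ∈ centralizer ({f 8} : Set G) := mul_mem (inv_mem hsC) (root_cent_le hT hn')
    have h2 : (f s)⁻¹ * n' ∈ normalizer (hT.sR : Set G) :=
      mul_mem (inv_mem (hT.le_normalizer_subs.2.2 (hT.mem s hs))) hn'R
    refine ⟨o * ((f s)⁻¹ * o' * f s), mul_mem ho ?_, (f s)⁻¹ * n', mem_inf.2 ⟨h1, h2⟩, ?_⟩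
    · have := conj_mem_of_normalizer (cent_le_normalizer_Oc _ (inv_mem hsC)) (core_root_le hT ho')
      rwa [inv_inv] at this
    · rw [show n = (f s)⁻¹ * (f s * n) by group, e']
      group

/-- The centralizer of `R` in that of the central involution. -/
theorem cent_R {x : G} (hxR : x ∈ centralizer (hT.sR : Set G)) :
    ∃ o ∈ Oc (f 8), ∃ z ∈ hT.sZ, x = o * z := by
  obtain ⟨N, hN, P, hO⟩ := exists_proj hT
  obtain ⟨-, hcV⟩ := normal_Vq hT P hO
  have hxc : ∀ {a : Nat}, a < 512 → inR a = true → x * f a = f a * x := fun ha pa =>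
    (mem_centralizer_iff.1 hxR _ ⟨_, ha, pa, rfl⟩).symm
  have hx : x ∈ centralizer ({f 4} : Set G) :=
    mem_centralizer_singleton_iff.2 (hxc (a := 4) (by norm_num) (by decide +kernel))
  have hq : QuotientGroup.mk' N ⟨x, hx⟩ ∈ centralizer (Vq hT (QuotientGroup.mk' N) : Set _) := by
    refine mem_centralizer_iff.2 fun v hv => ?_
    obtain ⟨r, hr, pr, rfl⟩ := (mem_Vq hT P).1 hv
    rw [← map_mul, ← map_mul]
    exact congrArg _ (Subtype.ext (by push_cast; rw [coe_fk hT hr (root_of_R hT hr pr).1]; exact (hxc hr pr).symm))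
  obtain ⟨r, hr, pr, er⟩ := (mem_Vq hT P).1 (hcV hq)
  obtain ⟨hrc, -⟩ := root_of_R hT hr pr
  obtain ⟨o, ho, z, hz, pz, e⟩ := (P.ker (⟨x, hx⟩ * (fk f r)⁻¹)).1 (by rw [map_mul, map_inv, er, mul_inv_cancel])
  obtain ⟨hzc, hzR⟩ := root_of_Z hT hz pz
  push_cast at e
  rw [coe_fk hT hr hrc, mul_inv_eq_iff_eq_mul, mul_assoc, ← hT.mul _ _ hz hr] at e
  set d := mm z r with hd
  have hdR : inR d = true := mm_mem_R hT hz hr hzR pr
  have hdc : com d 4 = true := (root_of_R hT (mm_lt _ _) hdR).1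
  have hoN : (o : G) ∈ normalizer (hT.sR : Set G) := by
    rw [show (o : G) = x * (f d)⁻¹ by rw [e]; group]
    exact mul_mem (centralizer_le_normalizer (hT.sR : Set G) hxR)
      (inv_mem (le_normalizer (show f d ∈ hT.sR from ⟨d, mm_lt _ _, hdR, rfl⟩)))
  have hoC : ∀ q, q < 512 → inR q = true → (o : G) * f q = f q * o := by
    intro q hq pq
    haveI : (Cfsg.oddCore (centralizer ({f 4} : Set G))).Normal := ocore_normal
    have hqK : f q ∈ centralizer ({f 4} : Set G) := R_le_root hT ⟨q, hq, pq, rfl⟩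
    have h1 : o * ⟨f q, hqK⟩ * o⁻¹ * (⟨f q, hqK⟩ : centralizer ({f 4} : Set G))⁻¹ = 1 := by
      refine inf_eq_bot_of_odd (P := hT.sR.subgroupOf (centralizer ({f 4} : Set G))) ocore_odd
        ((S.2.to_le (sR_le_S hT)).of_equiv (subgroupOfEquivOfLe (R_le_root hT)).symm) ?_ ?_
      · rw [show o * ⟨f q, hqK⟩ * o⁻¹ * (⟨f q, hqK⟩ : centralizer ({f 4} : Set G))⁻¹ =
          o * (⟨f q, hqK⟩ * o⁻¹ * ⟨f q, hqK⟩⁻¹) by group]
        exact mul_mem ho (Normal.conj_mem inferInstance _ (inv_mem ho) _)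
      · show (o : G) * f q * (o : G)⁻¹ * (f q)⁻¹ ∈ hT.sR
        exact mul_mem (conj_mem_of_normalizer hoN ⟨q, hq, pq, rfl⟩) (inv_mem ⟨q, hq, pq, rfl⟩)
    exact mul_inv_eq_iff_eq_mul.1 (mul_inv_eq_one.1 (congrArg Subtype.val h1))
  have hdZ : inZ d = true := by
    have h1 := of_allC center_R d (mm_lt _ _)
    rw [hdR, cond_true, show (allL (List.range 512) fun q => cond (inR q) (com d q) true) = true from
      allL_iff.2 fun q hq => by
        rw [List.mem_range] at hq
        cases pq : inR q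
        · rfl
        · rw [cond_true, hT.com_iff (mm_lt _ _) hq]
          have h2 := hxc hq pq
          rw [e, mul_assoc] at h2
          rw [← mul_assoc (f q), ← hoC q hq pq, mul_assoc] at h2
          exact mul_left_cancel h2, cond_true] at h1
    exact h1
  exact ⟨o, core_root_le hT (mem_Oc_iff.2 ⟨o.2, ho⟩), f d, ⟨d, mm_lt _ _, hdZ, rfl⟩, e⟩

end CfsgLib.HSSylow
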