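import Cfsg.Agent.HSSylow.Sound

/-!
The searches behind the fusion in a group with a Sylow 2-subgroup of Higman–Sims type.
-/

set_option autoImplicit false
set_option maxRecDepth 100000
set_option maxHeartbeats 0

namespace CfsgLib.HSSylow

/-- A search problem with its test is right. -/
def Good (j : Job) (t : Test) : Prop :=
  cond (cond j.check (t.check j.ws) false) (search j.lv t.run (j.fixd.map Prod.snd)) false = true

noncomputable instance (j : Job) (t : Test) : Decidable (Good j t) := inferInstanceAs (Decidable (_ = _))

end CfsgLib.HSSylow
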