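import Cfsg.Agent.HSSylow.Table
import Cfsg.Agent.SylL34.Tools

/-!
Working with a parametrisation by the codes of a Sylow 2-subgroup of the Higman–Sims group.
-/

set_option autoImplicit false
set_option linter.unusedSectionVars false
set_option linter.style.haveILetI false

namespace CfsgLib.HSSylow

open Subgroup CfsgLib.Coset

namespace Tab

variable {G : Type*} [Group G] {T : Subgroup G} {f : Nat → G} (hT : Tab T f)
include hT

theorem map_zero : f 0 = 1 := by
  have := hT.mul 0 0 (by norm_num) (by norm_num)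
  rw [(mm_zero (a := 0) (by norm_num)).1] at this
  exact left_eq_mul.1 this

theorem map_iv {a : Nat} (ha : a < 512) : f (iv a) = (f a)⁻¹ :=
  eq_inv_of_mul_eq_one_left (by rw [← hT.mul _ _ (mm_zero ha).2.2.1 ha, (mm_zero ha).2.2.2.2, hT.map_zero])

theorem eq_iff {a b : Nat} (ha : a < 512) (hb : b < 512) : f a = f b ↔ a = b :=
  ⟨hT.inj a b ha hb, fun h => by rw [h]⟩

theorem eq_one_iff {a : Nat} (ha : a < 512) : f a = 1 ↔ a = 0 := by
  rw [← hT.map_zero, hT.eq_iff ha (by norm_num)]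

theorem map_cnj {h a : Nat} (hh : h < 512) (ha : a < 512) : f (cnj h a) = f h * f a * (f h)⁻¹ := by
  rw [cnj, hT.mul _ _ (mm_lt _ _) (mm_zero hh).2.2.1, hT.mul _ _ hh ha, hT.map_iv hh]

theorem com_iff {a b : Nat} (ha : a < 512) (hb : b < 512) : com a b = true ↔ f a * f b = f b * f a := by
  rw [← hT.mul _ _ ha hb, ← hT.mul _ _ hb ha, hT.eq_iff (mm_lt _ _) (mm_lt _ _), com, Nat.beq_eq]

theorem sq_eq_iff {a b : Nat} (ha : a < 512) (hb : b < 512) : f a * f a = f b ↔ mm a a = b := by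
  rw [← hT.mul _ _ ha ha, hT.eq_iff (mm_lt _ _) hb]

theorem sq_eq_one_iff {a : Nat} (ha : a < 512) : f a * f a = 1 ↔ mm a a = 0 := by
  rw [← hT.map_zero, hT.sq_eq_iff ha (by norm_num)]

/-- The subgroup given by a test on codes. -/
def sub (p : Nat → Bool) (h0 : p 0 = true)
    (hm : allC (fun a => cond (p a) (allC fun b => cond (p b) (p (mm a b)) true) true) = true)
    (hi : allC (fun a => cond (p a) (p (iv a)) true) = true) : Subgroup G where
  carrier := {x | ∃ a, a < 512 ∧ p a = true ∧ f a = x}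
  one_mem' := ⟨0, by norm_num, h0, hT.map_zero⟩
  mul_mem' := by
    rintro _ _ ⟨a, ha, pa, rfl⟩ ⟨b, hb, pb, rfl⟩
    refine ⟨mm a b, mm_lt a b, ?_, hT.mul a b ha hb⟩
    have h1 := of_allC hm a ha
    rw [pa, cond_true] at h1
    have h2 := of_allC h1 b hb
    rwa [pb, cond_true] at h2
  inv_mem' := by
    rintro _ ⟨a, ha, pa, rfl⟩
    refine ⟨iv a, (mm_zero ha).2.2.1, ?_, hT.map_iv ha⟩
    have h1 := of_allC hi a ha
    rwa [pa, cond_true] at h1

theorem mem_sub {p : Nat → Bool} {h0 hm hi} {x : G} :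
    x ∈ hT.sub p h0 hm hi ↔ ∃ a, a < 512 ∧ p a = true ∧ f a = x := Iff.rfl

theorem sub_le {p : Nat → Bool} {h0 hm hi} : hT.sub p h0 hm hi ≤ T := by
  rintro _ ⟨a, ha, -, rfl⟩
  exact hT.mem a ha

theorem card_sub (p : Nat → Bool) (h0 hm hi) :
    Nat.card (hT.sub p h0 hm hi) = ((List.range 512).filter p).length := by
  have e : (Nat.card (hT.sub p h0 hm hi)) = Nat.card {a : Nat // a ∈ (((List.range 512).filter p).toFinset)} := by
    refine (Nat.card_congr (Equiv.ofBijective (fun a : {a : Nat // a ∈ (((List.range 512).filter p).toFinset)} =>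
      (⟨f a, a, ?_, ?_, rfl⟩ : hT.sub p h0 hm hi)) ⟨?_, ?_⟩)).symm
    · exact List.mem_range.1 (List.mem_filter.1 (List.mem_toFinset.1 a.2)).1
    · exact (List.mem_filter.1 (List.mem_toFinset.1 a.2)).2
    · intro x y h
      exact Subtype.ext (hT.inj x y (List.mem_range.1 (List.mem_filter.1 (List.mem_toFinset.1 x.2)).1)
        (List.mem_range.1 (List.mem_filter.1 (List.mem_toFinset.1 y.2)).1) (congrArg Subtype.val h :))
    · rintro ⟨_, a, ha, pa, rfl⟩
      exact ⟨⟨a, List.mem_toFinset.2 (List.mem_filter.2 ⟨List.mem_range.2 ha, pa⟩)⟩, rfl⟩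
  rw [e, Nat.card_eq_fintype_card, Fintype.card_coe, List.toFinset_card_of_nodup (List.nodup_range.filter _)]

theorem card_eq : Nat.card T = 512 := by
  refine (Nat.card_congr (Equiv.ofBijective (fun a : Fin 512 => (⟨f a, hT.mem a a.2⟩ : T)) ⟨?_, ?_⟩)).symm.trans
    (Nat.card_fin 512)
  · exact fun x y h => Fin.ext (hT.inj x y x.2 y.2 (congrArg Subtype.val h :))
  · rintro ⟨x, hx⟩
    obtain ⟨a, ha, rfl⟩ := hT.surj x hx
    exact ⟨⟨a, ha⟩, rfl⟩

end Tab

end CfsgLib.HSSylow
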