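import Cfsg.Agent.HSSylow.Codes

/-!
A search showing that an element conjugating a subgroup of the Sylow 2-subgroup into it induces one of
finitely many maps on codes.
-/

set_option autoImplicit false
set_option maxRecDepth 100000
set_option linter.unusedSectionVars false

namespace CfsgLib.HSSylow

open CfsgLib.Coset

/-- All members of a list pass. -/
noncomputable def allL {α : Type} (l : List α) (p : α → Bool) : Bool :=
  List.rec true (fun a _ ih => cond (p a) ih false) l

/-- Some member of a list passes. -/
noncomputable def anyL {α : Type} (l : List α) (p : α → Bool) : Bool :=
  List.rec false (fun a _ ih => cond (p a) true ih) l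

theorem allL_iff {α : Type} {l : List α} {p : α → Bool} : allL l p = true ↔ ∀ a ∈ l, p a = true := by
  induction l with
  | nil => simp [allL]
  | cons a l ih =>
    show cond (p a) (allL l p) false = true ↔ _
    cases h : p a <;> simp [h, ih]

theorem anyL_iff {α : Type} {l : List α} {p : α → Bool} : anyL l p = true ↔ ∃ a ∈ l, p a = true := by
  induction l with
  | nil => simp [anyL]
  | cons a l ih =>
    show cond (p a) true (anyL l p) = true ↔ _
    cases h : p a <;> simp [h, ih]

/-- The entry of a list of numbers. -/
noncomputable def nth (l : List Nat) (i : Nat) : Nat :=
  List.rec (fun _ => 0) (fun a _ ih i => cond (Nat.beq i 0) a (ih (Nat.sub i 1))) l i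

theorem nth_zero (a : Nat) (l : List Nat) : nth (a :: l) 0 = a := rfl

theorem nth_succ (a : Nat) (l : List Nat) (i : Nat) : nth (a :: l) (i + 1) = nth l i := rfl

/-- The value of a word in a list of codes. -/
noncomputable def evc (ys : List Nat) (w : List Nat) : Nat :=
  List.rec (fun r => r) (fun i _ ih r => ih (mm r (nth ys i))) w 0

/-- A relation between words: they agree, or a word is not the identity. -/
structure Cons where
  eqs : Bool
  lhs : List Nat
  rhs : List Nat

/-- A relation holds for a list of codes. -/
noncomputable def Cons.holds (c : Cons) (ys : List Nat) : Bool :=
  cond c.eqs (Nat.beq (evc ys c.lhs) (evc ys c.rhs)) (cond (Nat.beq (evc ys c.lhs) (evc ys c.rhs)) false true)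

/-- A level of the search: a generator, the candidates for its image, and relations. -/
structure Lev where
  gen : Nat
  cands : List Nat
  cons : List Cons

/-- The search. -/
noncomputable def search (lv : List Lev) (leaf : List Nat → Bool) (ys : List Nat) : Bool :=
  List.rec (fun ys => leaf ys)
    (fun l _ ih ys => allL l.cands fun y => cond (allL l.cons fun c => c.holds (ys ++ [y])) (ih (ys ++ [y])) true)
    lv ys

/-- The order of a code, as an exponent of two. -/
noncomputable def od (a : Nat) : Nat :=
  cond (Nat.beq a 0) 0 (cond (Nat.beq (mm a a) 0) 1 (cond (Nat.beq (mm (mm a a) (mm a a)) 0) 2 3))

/-- The image of `w` may be `a`: the same order, and the same commutation with the fixed elements. -/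
noncomputable def mayBe (fixd : List (Nat × Nat)) (w a : Nat) : Bool :=
  cond (Nat.beq (od a) (od w))
    (allL fixd fun q => cond (com w q.1) (com a q.2) (cond (com a q.2) false true)) false

/-- A search problem: the fixed images, the levels, and the reduction of the first candidates. -/
structure Job where
  fixd : List (Nat × Nat)
  lv : List Lev
  wit : Nat

/-- The sources of the variables. -/
def Job.ws (j : Job) : List Nat := j.fixd.map Prod.fst ++ j.lv.map Lev.gen

/-- The side conditions of the levels after the first. -/
noncomputable def checkRest (fixd : List (Nat × Nat)) (lv : List Lev) : Bool :=
  allL lv fun l => allC fun a => cond (mayBe fixd l.gen a) (anyL l.cands fun b => Nat.beq a b) true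

/-- The relations hold for the sources. -/
noncomputable def checkSrc (lv : List Lev) (ws : List Nat) : Bool :=
  List.rec (fun _ => true)
    (fun l _ ih ws => cond (allL l.cons fun c => c.holds (ws ++ [l.gen])) (ih (ws ++ [l.gen])) false) lv ws

/-- The relations only use the variables introduced so far. -/
noncomputable def checkIdx (lv : List Lev) (k : Nat) : Bool :=
  List.rec (fun _ => true)
    (fun l _ ih k => cond (allL l.cons fun c => allL (c.lhs ++ c.rhs) fun i => Nat.ble i k) (ih (Nat.add k 1)) false)
    lv k

/-- The side conditions on the first level. -/
noncomputable def checkFirst (j : Job) : Bool :=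
  match j.lv with
  | [] => true
  | l :: _ => allC fun a => cond (mayBe j.fixd l.gen a)
      (cond (allL j.fixd fun q => com (Nat.land (Nat.shiftRight j.wit (Nat.mul 9 a)) 511) q.2)
        (anyL l.cands fun b => Nat.beq (cnj (Nat.land (Nat.shiftRight j.wit (Nat.mul 9 a)) 511) a) b) false) true

/-- All side conditions. -/
noncomputable def Job.check (j : Job) : Bool :=
  cond (allL j.fixd fun q => cond (Nat.blt q.1 512) (Nat.blt q.2 512) false)
    (cond (allL j.lv fun l => Nat.blt l.gen 512)
      (cond (checkFirst j)
        (cond (checkRest j.fixd j.lv.tail)
          (cond (checkIdx j.lv j.fixd.length) (checkSrc j.lv (j.fixd.map Prod.fst)) false) false) false) false) false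

/-- The class of a code among the classes of involutions; `15` otherwise. -/
noncomputable def cls (a : Nat) : Nat :=
  Nat.land (Nat.shiftRight 32317006071311007299540085445813289798742472141223648693462789797055427671064752623850091116822127245371655399653800561846633548031715218805659095226465691116935113288231835016698839941459860865642967946651733461427203218880651866129922933908480228186296818143113745471281868266991883569051075249541036871200166904984206595815403311854987414733903528451764698385219382376377643705115773233574636471684694315098131983446641743798941317137914420251404742818225833990030567173430616079365763782402133984917343561763117391697786783260155703527351439862948199821654085215290050472827291895689187297360868504180248908133104 (Nat.mul 4 a)) 15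

/-- Representatives of the classes. -/
def clsRep : List Nat := [0, 8, 2, 32, 448, 449, 64, 65, 128, 145]

/-- The representative of a class. -/
noncomputable def rep (i : Nat) : Nat := nth clsRep i

theorem cls_check : allC (fun a => cond (Nat.blt (cls a) 10)
    (Nat.beq (cnj (Nat.land (Nat.shiftRight 19660738645988127006399045457485348957076581474847422458612303040267672615664762390893147659926180964321224771353595008665695057705017608925480328406409319926892139546601548106016518867295144239954850551287415980436817668768898423750610892356040227681529736287006778488617025622613978070026490925590232325401190782360012351395238170121959871099078014191504424744384020732708080056960149177258481719452264033159656306655025652925204009870077261440639155408758181233146868814170672037572960651950350096448986984285536812499139016190346087553688180218139495027665631157507200877512297740415577111527974102530715246664488575453826553973342389312556217848347618179525336945301932164654858718355849088381052310947133221192970936299072123473989486705567112704053702018218038956247163214947486833207190310214723651592810819287037723804593251935821516661690714697529856369243235091347019182564180769395063138398092467372197765181223672928941800358060987081188030542835949357943511832557770204351872357362807832805083903227171393264395049675105530835886306589084542699139652247504780224745143250208488400479848093937961884254696978931643601153843424504014306589397422279025814961610217267496634276947592515136982267252674705670073159847352138507601186444830685856956467497376190869328725191905485522888702787228703948828480662502839641052777535678447616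 (Nat.mul 9 a)) 511) a) (rep (cls a))) true) = true := by
  decide +kernel

theorem exists_cnj_rep {a : Nat} (ha : a < 512) (h : cls a < 10) : ∃ k, k < 512 ∧ cnj k a = rep (cls a) := by
  have h1 := of_allC cls_check a ha
  rw [Nat.blt_eq.mpr h, cond_true] at h1
  exact ⟨_, Nat.lt_succ_of_le Nat.and_le_right, Nat.eq_of_beq_eq_true h1⟩

theorem rep_lt (i : Nat) : rep i < 512 := by
  rcases Nat.lt_or_ge i 10 with h | h
  · exact (by decide +kernel : ∀ i < 10, rep i < 512) i h
  · obtain ⟨k, rfl⟩ : ∃ k, i = k + 10 := ⟨i - 10, by omega⟩
    rw [show rep (k + 10) = 0 from rfl]
    norm_num

/-- Merge the labels of two classes. -/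
noncomputable def merge (lab : List Nat) (a b : Nat) : List Nat :=
  cond (cond (Nat.blt a 10) (Nat.blt b 10) false)
    (List.map (fun c => cond (Nat.beq c (nth lab b)) (nth lab a) c) lab) lab

/-- Merge along a list of pairs. -/
noncomputable def mergeAll (lab : List Nat) (l : List (Nat × Nat)) : List Nat :=
  List.rec (fun lab => lab) (fun q _ ih lab => ih (merge lab q.1 q.2)) l lab

/-- A test at a leaf: the partition forces a goal, or a word has image in a given class. -/
structure Test where
  init : List (Nat × Nat)
  words : List (List Nat × Nat)
  goals : List (Nat × Nat)
  extra : List (List Nat)
  target : List Nat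

/-- The value of a test. -/
noncomputable def Test.run (t : Test) (ys : List Nat) : Bool :=
  cond (anyL t.extra fun w => anyL t.target fun i => Nat.beq (cls (evc ys w)) i) true
    (cond (allL t.goals fun q => cond (Nat.blt q.1 10) (Nat.blt q.2 10) false)
      ((fun lab => anyL t.goals fun q => Nat.beq (nth lab q.1) (nth lab q.2))
        (mergeAll [0, 1, 2, 3, 4, 5, 6, 7, 8, 9] (t.init ++ t.words.map fun w => (w.2, cls (evc ys w.1)))))
      false)

/-- The sources of a test are right. -/
noncomputable def Test.check (t : Test) (ws : List Nat) : Bool :=
  cond (allL t.words fun w => cond (Nat.beq (cls (evc ws w.1)) w.2) (allL w.1 fun i => Nat.blt i ws.length) false)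
    (allL t.extra fun w => allL w fun i => Nat.blt i ws.length) false

end CfsgLib.HSSylow
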