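import Cfsg.Agent.HSSylow.CertDefs

/-!
Extremal conjugation: a conjugating element can be chosen to carry the centralizer in the Sylow subgroup into it.
-/

set_option autoImplicit false
set_option maxRecDepth 100000
set_option linter.unusedSectionVars false
set_option linter.style.haveILetI false

namespace CfsgLib.HSSylow

open Subgroup CfsgLib.SylL34 CfsgLib.Coset

/-- The order of the centralizer of a code in the Sylow subgroup. -/
noncomputable def num (x : Nat) : Nat := ((List.range 512).filter fun a => com a x).length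

theorem cls_invol : allC (fun a => cond (Nat.beq (mm a a) 0) (cond (Nat.blt (cls a) 10)
    (Nat.beq (num a) (num (rep (cls a)))) false) true) = true := by decide +kernel

theorem cls_lt {a : Nat} (ha : a < 512) (h : mm a a = 0) :
    cls a < 10 ∧ num a = num (rep (cls a)) := by
  have h1 := of_allC cls_invol a ha
  rw [show Nat.beq (mm a a) 0 = true by rw [h]; rfl, cond_true] at h1
  obtain ⟨h2, h3⟩ := cond_false.1 h1
  exact ⟨Nat.le_of_ble_eq_true h2, Nat.eq_of_beq_eq_true h3⟩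

theorem num_rep : ∀ i < 10, num (rep i) = [512, 512, 256, 128, 64, 64, 32, 32, 32, 32].getD i 0 := by
  decide +kernel

theorem rep_sq : ∀ i < 10, mm (rep i) (rep i) = 0 ∧ cls (rep i) = i := by decide +kernel

variable {G : Type*} [Group G] [Finite G] {S : Sylow 2 G} {f : Nat → G}

/-- Conjugate under an element of `H`. -/
def CIn (H : Subgroup G) (a b : G) : Prop := ∃ g ∈ H, g * a * g⁻¹ = b

theorem CIn.symm {H : Subgroup G} {a b : G} : CIn H a b → CIn H b a := by
  rintro ⟨g, hg, rfl⟩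
  exact ⟨g⁻¹, inv_mem hg, by group⟩

theorem CIn.trans {H : Subgroup G} {a b c : G} : CIn H a b → CIn H b c → CIn H a c := by
  rintro ⟨g, hg, rfl⟩ ⟨k, hk, rfl⟩
  exact ⟨k * g, mul_mem hk hg, by group⟩

theorem cIn_top {a b : G} : CIn (⊤ : Subgroup G) a b ↔ IsConj a b := by
  rw [isConj_iff]
  exact ⟨fun ⟨g, _, h⟩ => ⟨g, h⟩, fun ⟨g, h⟩ => ⟨g, mem_top g, h⟩⟩

variable (hT : Tab (S : Subgroup G) f)
include hT

theorem card_cent {x : Nat} (hx : x < 512) :
    Nat.card ((S : Subgroup G) ⊓ centralizer ({f x} : Set G) : Subgroup G) = num x := by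
  classical
  refine (Nat.card_congr (Equiv.ofBijective
    (fun a : {a : Nat // a ∈ ((List.range 512).filter fun a => com a x).toFinset} =>
      (⟨f a, ?_, ?_⟩ : ((S : Subgroup G) ⊓ centralizer ({f x} : Set G) : Subgroup G))) ⟨?_, ?_⟩)).symm.trans ?_
  · exact hT.mem _ (List.mem_range.1 (List.mem_filter.1 (List.mem_toFinset.1 a.2)).1)
  · obtain ⟨h1, h2⟩ := List.mem_filter.1 (List.mem_toFinset.1 a.2)
    exact mem_centralizer_singleton_iff.2 ((hT.com_iff (List.mem_range.1 h1) hx).1 h2)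
  · intro a b h
    exact Subtype.ext (hT.inj a b (List.mem_range.1 (List.mem_filter.1 (List.mem_toFinset.1 a.2)).1)
      (List.mem_range.1 (List.mem_filter.1 (List.mem_toFinset.1 b.2)).1) (congrArg Subtype.val h :))
  · rintro ⟨y, hy1, hy2⟩
    obtain ⟨a, ha, rfl⟩ := hT.surj y hy1
    exact ⟨⟨a, List.mem_toFinset.2 (List.mem_filter.2 ⟨List.mem_range.2 ha,
      (hT.com_iff ha hx).2 (mem_centralizer_singleton_iff.1 hy2)⟩)⟩, rfl⟩
  · rw [Nat.card_eq_fintype_card, Fintype.card_coe, List.toFinset_card_of_nodup (List.nodup_range.filter _), num]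

theorem cls_conj {H : Subgroup G} (hSH : (S : Subgroup G) ≤ H) {a : Nat} (ha : a < 512) (h : cls a < 10) :
    CIn H (f a) (f (rep (cls a))) := by
  obtain ⟨k, hk, e⟩ := exists_cnj_rep ha h
  exact ⟨f k, hSH (hT.mem k hk), by rw [← e, hT.map_cnj hk ha]⟩

/-- An extremal conjugate. -/
theorem exists_extremal {H : Subgroup G} (hSH : (S : Subgroup G) ≤ H) {x : Nat} (hx : x < 512) :
    ∃ g ∈ H, ∃ z, z < 512 ∧ g * f x * g⁻¹ = f z ∧
      (∀ a, a < 512 → com a x = true → g * f a * g⁻¹ ∈ (S : Subgroup G)) ∧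
      ∀ w, w < 512 → CIn H (f x) (f w) → num w ≤ num z := by
  haveI : Fact (Nat.Prime 2) := ⟨Nat.prime_two⟩
  set C := H ⊓ centralizer ({f x} : Set G) with hC
  set U := (S : Subgroup G) ⊓ centralizer ({f x} : Set G) with hU
  have hUC : U ≤ C := inf_le_inf_right _ hSH
  obtain ⟨R, hR⟩ := ((S.2.to_le inf_le_left).of_equiv (subgroupOfEquivOfLe hUC).symm :
    IsPGroup 2 (U.subgroupOf C)).exists_le_sylow
  obtain ⟨g, hg⟩ := exists_cj_le (S.subtype hSH) (P := ((R : Subgroup C).map C.subtype).subgroupOf H)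
    ((R.2.map _).comap_subtype)
  set R' := (R : Subgroup C).map C.subtype
  have hR'H : R' ≤ H := (map_subtype_le _).trans inf_le_left
  have hin : ∀ r ∈ R', (g : G) * r * (g : G)⁻¹ ∈ (S : Subgroup G) := fun r hr => by
    have := hg (conj_mem_cj.2 (show (⟨r, hR'H hr⟩ : H) ∈ R'.subgroupOf H from hr))
    exact this
  have hUR : U ≤ R' := fun y hy => ⟨⟨y, hUC hy⟩, hR hy, rfl⟩
  have hxU : f x ∈ U := ⟨hT.mem x hx, mem_centralizer_singleton_iff.2 rfl⟩
  obtain ⟨z, hz, ez⟩ := hT.surj _ (hin _ (hUR hxU))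
  refine ⟨g, g.2, z, hz, ez.symm, fun a ha hax => hin _ (hUR ⟨hT.mem a ha,
    mem_centralizer_singleton_iff.2 ((hT.com_iff ha hx).1 hax)⟩), fun w hw hcw => ?_⟩
  obtain ⟨k, hk, ek⟩ := hcw
  rw [← card_cent hT hw, ← card_cent hT hz]
  set W := (S : Subgroup G) ⊓ centralizer ({f w} : Set G)
  have hWC : cj k⁻¹ W ≤ C := by
    intro y hy
    rw [mem_cj, inv_inv] at hy
    refine ⟨?_, mem_centralizer_singleton_iff.2 ?_⟩
    · have := mul_mem (mul_mem (inv_mem hk) (hSH hy.1)) hk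
      rwa [show k⁻¹ * (k * y * k⁻¹) * k = y by group] at this
    · have h1 := mem_centralizer_singleton_iff.1 hy.2
      rw [← ek] at h1
      calc y * f x = k⁻¹ * (k * y * k⁻¹ * (k * f x * k⁻¹)) * k := by group
        _ = k⁻¹ * (k * f x * k⁻¹ * (k * y * k⁻¹)) * k := by rw [h1]
        _ = f x * y := by group
  obtain ⟨c, hc⟩ := exists_cj_le R (P := (cj k⁻¹ W).subgroupOf C)
    (((S.2.to_le inf_le_left).map _).comap_subtype)
  have h1 : cj ((g : G) * c) (cj k⁻¹ W) ≤ (S : Subgroup G) ⊓ centralizer ({f z} : Set G) := by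
    intro y hy
    rw [mem_cj] at hy
    set y0 := ((g : G) * c)⁻¹ * y * ((g : G) * c) with hy0
    have hy0C : y0 ∈ C := hWC hy
    have hyR : (c : G) * y0 * (c : G)⁻¹ ∈ R' :=
      ⟨c * ⟨y0, hy0C⟩ * c⁻¹, hc (conj_mem_cj.2 (show (⟨y0, hy0C⟩ : C) ∈ (cj k⁻¹ W).subgroupOf C from hy)), rfl⟩
    have hy' : y = (g : G) * ((c : G) * y0 * (c : G)⁻¹) * (g : G)⁻¹ := by rw [hy0]; group
    refine ⟨hy' ▸ hin _ hyR, mem_centralizer_singleton_iff.2 ?_⟩
    obtain ⟨y1, -, hy1⟩ := hyR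
    have h2 := mem_centralizer_singleton_iff.1 y1.2.2
    rw [hy', ← hy1, ez, C.coe_subtype]
    rw [show (g : G) * (y1 : G) * (g : G)⁻¹ * ((g : G) * f x * (g : G)⁻¹) = g * ((y1 : G) * f x) * (g : G)⁻¹ by
      group, h2]
    group
  have h2 := card_le_of_le h1
  rwa [card_cj, card_cj] at h2

/-- A conjugate with centralizer of maximal order may be prescribed. -/
theorem exists_to {H : Subgroup G} (hSH : (S : Subgroup G) ≤ H) {x w : Nat} (hx : x < 512) (hw : w < 512)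
    (hxw : CIn H (f x) (f w)) (hmax : ∀ v, v < 512 → CIn H (f x) (f v) → num v ≤ num w) :
    ∃ g ∈ H, g * f x * g⁻¹ = f w ∧ ∀ a, a < 512 → com a x = true → g * f a * g⁻¹ ∈ (S : Subgroup G) := by
  obtain ⟨g, hg, z, hz, ez, hgS, hgmax⟩ := exists_extremal hT hSH hx
  obtain ⟨k, hk, z', hz', ez', hkS, -⟩ := exists_extremal hT hSH hw
  have hz'x : CIn H (f x) (f z') := hxw.trans ⟨k, hk, ez'⟩
  have hzz : CIn H (f z') (f z) := hz'x.symm.trans ⟨g, hg, ez⟩
  obtain ⟨m, hm, em⟩ := hzz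
  -- move the centralizer of `w` onto that of `z`
  set W := (S : Subgroup G) ⊓ centralizer ({f w} : Set G)
  set Z := (S : Subgroup G) ⊓ centralizer ({f z} : Set G)
  have hWZ : Nat.card W = Nat.card Z := by
    rw [card_cent hT hw, card_cent hT hz]
    exact le_antisymm (hgmax w hw hxw) (hmax z hz ⟨g, hg, ez⟩)
  set k' := m * k with hk'
  have ekw : k' * f w * k'⁻¹ = f z := by
    rw [hk', show m * k * f w * (m * k)⁻¹ = m * (k * f w * k⁻¹) * m⁻¹ by group, ez', em]
  set K := H ⊓ centralizer ({f z} : Set G)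
  have hWK : cj k' W ≤ K := by
    rintro _ ⟨y, hy, rfl⟩
    show k' * y * k'⁻¹ ∈ H ⊓ centralizer ({f z} : Set G)
    refine mem_inf.2 ⟨mul_mem (mul_mem (mul_mem hm hk) (hSH hy.1)) (inv_mem (mul_mem hm hk)),
      mem_centralizer_singleton_iff.2 ?_⟩
    show k' * y * k'⁻¹ * f z = f z * (k' * y * k'⁻¹)
    rw [← ekw, show k' * y * k'⁻¹ * (k' * f w * k'⁻¹) = k' * (y * f w) * k'⁻¹ by group,
      mem_centralizer_singleton_iff.1 hy.2]
    group
  -- `Z` is a Sylow subgroup of `K`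
  haveI : Fact (Nat.Prime 2) := ⟨Nat.prime_two⟩
  have hZK : Z ≤ K := inf_le_inf_right _ hSH
  obtain ⟨R, hR⟩ := ((S.2.to_le inf_le_left).of_equiv (subgroupOfEquivOfLe hZK).symm :
    IsPGroup 2 (Z.subgroupOf K)).exists_le_sylow
  have hRZ : (R : Subgroup K).map K.subtype = Z := by
    have hZR : Z ≤ (R : Subgroup K).map K.subtype := fun y hy => ⟨⟨y, hZK hy⟩, hR hy, rfl⟩
    refine (eq_of_le_of_card_ge hZR ?_).symm
    obtain ⟨l, hl⟩ := exists_cj_le (S.subtype hSH) (P := ((R : Subgroup K).map K.subtype).subgroupOf H)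
      ((R.2.map _).comap_subtype)
    have hRH : (R : Subgroup K).map K.subtype ≤ H := (map_subtype_le _).trans inf_le_left
    have hfz : f z ∈ Z := ⟨hT.mem z hz, mem_centralizer_singleton_iff.2 rfl⟩
    have hfzR : f z ∈ (R : Subgroup K).map K.subtype := ⟨⟨_, hZK hfz⟩, hR hfz, rfl⟩
    have hin : ∀ r ∈ (R : Subgroup K).map K.subtype, (l : G) * r * (l : G)⁻¹ ∈ (S : Subgroup G) := fun r hr => by
      have := hl (conj_mem_cj.2 (show (⟨r, hRH hr⟩ : H) ∈ ((R : Subgroup K).map K.subtype).subgroupOf H from hr))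
      exact this
    obtain ⟨v, hv, ev⟩ := hT.surj _ (hin _ hfzR)
    have hle : cj (l : G) ((R : Subgroup K).map K.subtype) ≤ (S : Subgroup G) ⊓ centralizer ({f v} : Set G) := by
      intro y hy
      obtain ⟨y0, hy0, rfl⟩ := hy
      show (l : G) * y0 * (l : G)⁻¹ ∈ (S : Subgroup G) ⊓ centralizer ({f v} : Set G)
      refine mem_inf.2 ⟨hin _ hy0, mem_centralizer_singleton_iff.2 ?_⟩
      obtain ⟨y1, -, rfl⟩ := hy0
      have h2 : (y1 : G) * f z = f z * (y1 : G) := mem_centralizer_singleton_iff.1 y1.2.2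
      rw [ev, K.coe_subtype, show (l : G) * (y1 : G) * (l : G)⁻¹ * ((l : G) * f z * (l : G)⁻¹) =
        l * ((y1 : G) * f z) * (l : G)⁻¹ by group, h2]
      group
    have h3 := card_le_of_le hle
    rw [card_cj, card_cent hT hv] at h3
    refine h3.trans ?_
    rw [← hWZ, card_cent hT hw]
    exact hmax v hv (CIn.trans ⟨g, hg, ez⟩ ⟨l, l.2, ev.symm⟩)
  obtain ⟨c, hc⟩ := exists_cj_le R (P := (cj k' W).subgroupOf K) (((S.2.to_le inf_le_left).map _).comap_subtype)
  have heq : cj ((c : G) * k') W = Z := by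
    refine eq_of_le_of_card_ge (fun y hy => ?_) (by rw [card_cj, hWZ])
    rw [mem_cj] at hy
    rw [← hRZ]
    have hy0 : (c : G)⁻¹ * y * c ∈ cj k' W := by
      rw [mem_cj]
      rwa [show k'⁻¹ * ((c : G)⁻¹ * y * c) * k' = ((c : G) * k')⁻¹ * y * ((c : G) * k') by group]
    exact ⟨c * ⟨_, hWK hy0⟩ * c⁻¹, hc (conj_mem_cj.2 (show (⟨_, hWK hy0⟩ : K) ∈ (cj k' W).subgroupOf K from hy0)),
      by show (c : G) * ((c : G)⁻¹ * y * c) * (c : G)⁻¹ = y; group⟩
  have hkH : (c : G) * k' ∈ H := mul_mem c.2.1 (mul_mem hm hk)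
  have hce : (c : G) * k' * f w * ((c : G) * k')⁻¹ = f z := by
    rw [show (c : G) * k' * f w * ((c : G) * k')⁻¹ = c * (k' * f w * k'⁻¹) * (c : G)⁻¹ by group, ekw,
      mem_centralizer_singleton_iff.1 c.2.2, mul_inv_cancel_right]
  refine ⟨((c : G) * k')⁻¹ * g, mul_mem (inv_mem hkH) hg, ?_, fun a ha hax => ?_⟩
  · calc ((c : G) * k')⁻¹ * g * f x * (((c : G) * k')⁻¹ * g)⁻¹
        = ((c : G) * k')⁻¹ * (g * f x * g⁻¹) * ((c : G) * k') := by group
      _ = f w := by rw [ez, ← hce]; group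
  · have h1 : g * f a * g⁻¹ ∈ Z := by
      refine ⟨hgS a ha hax, mem_centralizer_singleton_iff.2 ?_⟩
      rw [← ez, show g * f a * g⁻¹ * (g * f x * g⁻¹) = g * (f a * f x) * g⁻¹ by group, (hT.com_iff ha hx).1 hax]
      group
    rw [← heq, mem_cj] at h1
    rw [show ((c : G) * k')⁻¹ * g * f a * (((c : G) * k')⁻¹ * g)⁻¹ =
      ((c : G) * k')⁻¹ * (g * f a * g⁻¹) * ((c : G) * k') by group]
    exact h1.1

end CfsgLib.HSSylow
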