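import Cfsg.Agent.HSSylow.Subs
import Cfsg.Agent.HSUniq.Main
import Cfsg.Agent.HSUniq.Classes

/-!
The recognition of the Higman–Sims group from the centralizer of the central involution and the fusion of
the first layer of the homocyclic subgroup, in a group with Sylow 2-subgroups of Higman–Sims type.
-/

set_option autoImplicit false
set_option maxRecDepth 100000
set_option linter.unusedSectionVars false
set_option linter.style.haveILetI false

namespace CfsgLib.HSSylow

open Subgroup CfsgLib.Coset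

/-- Checks on the core. -/
theorem core_check : allC (fun a => cond (inR a)
    (com a 8 && (Nat.beq (mm a a) 0 || Nat.beq (mm a a) 8) &&
      allC (fun b => cond (inR b) (Nat.beq (mm (mm (mm a b) (iv a)) (iv b)) 0 ||
        Nat.beq (mm (mm (mm a b) (iv a)) (iv b)) 8) true)) true) = true := by decide +kernel

/-- The centre of the core. -/
theorem core_centre_check : allC (fun a => cond (inR a && allC (fun b => cond (inR b) (com a b) true))
    (Nat.beq a 0 || Nat.beq a 8 || Nat.beq a 4 || Nat.beq a 12) true) = true := by decide +kernel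

/-- Checks on the homocyclic subgroup and its layer. -/
theorem layer_check : allC (fun a => cond (inV a) (inR a && inA a && Nat.beq (mm a a) 0) true &&
    cond (inA a) (inV (mm a a) && (cond (Nat.beq (mm a a) 0) (inV a) true) &&
      allC (fun b => cond (inV b) (com a b) true)) true &&
    cond (allC (fun b => cond (inV b) (com a b) true)) (inA a) true &&
    cond (inR a && inA a) (inV a || inV (mm 12 a)) true &&
    cond (inR a && allC (fun b => cond (inR b && inA b) (com a b) true)) (inA a) true) = true := by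
  decide +kernel

/-- Some codes. -/
theorem point_check : inR 8 = true ∧ inV 8 = true ∧ inR 4 = true ∧ inA 4 = true ∧ mm 4 4 = 8 ∧
    mm 4 8 = 12 ∧ mm 12 4 = 0 := by decide +kernel

/-- The code of a triple of digits. -/
def digits (x : ZMod 4 × ZMod 4 × ZMod 4) : Nat := x.1.val + 4 * x.2.1.val + 16 * x.2.2.val

theorem digits_check : (∀ x y : ZMod 4 × ZMod 4 × ZMod 4, mm (digits x) (digits y) = digits (x + y)) ∧
    (∀ x : ZMod 4 × ZMod 4 × ZMod 4, inA (digits x) = true ∧ digits x < 512) ∧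
    (∀ x y : ZMod 4 × ZMod 4 × ZMod 4, digits x = digits y → x = y) := by decide +kernel

/-- No transitive group of degree seven has order `56`. -/
theorem no_transitive_56 {Ω : Type*} [Finite Ω] (hΩ : Nat.card Ω = 7) (K : Subgroup (Equiv.Perm Ω))
    (htr : ∀ a b : Ω, ∃ k ∈ K, k a = b) : Nat.card K ≠ 56 := by
  classical
  intro hK
  haveI h7 : Fact (Nat.Prime 7) := ⟨by norm_num⟩
  haveI : Fact (Nat.Prime 2) := ⟨Nat.prime_two⟩
  haveI : Fintype Ω := Fintype.ofFinite Ω
  obtain ⟨g, hg⟩ := exists_prime_orderOf_dvd_card' (G := K) 7 (by rw [hK]; norm_num)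
  set g' : Equiv.Perm Ω := (g : Equiv.Perm Ω)
  have hg' : orderOf g' = 7 := by rw [← hg, Subgroup.orderOf_coe]
  have hcyc : g'.IsCycle := Equiv.Perm.isCycle_of_prime_order'' (by
    rw [← Nat.card_eq_fintype_card, hΩ]; norm_num) (by rw [← Nat.card_eq_fintype_card, hΩ, hg'])
  have hsupp : g'.support = Finset.univ := Finset.eq_univ_of_card _ (by
    rw [← hcyc.orderOf, hg', ← Nat.card_eq_fintype_card, hΩ])
  haveI : Nonempty Ω := (Nat.card_pos_iff.1 (by rw [hΩ]; norm_num)).1
  obtain ⟨o⟩ := ‹Nonempty Ω›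
  -- an element commuting with the cycle is determined by one value
  have hreach : ∀ b : Ω, ∃ i : ℤ, (g' ^ i) o = b := fun b => by
    obtain ⟨i, hi⟩ := hcyc.sameCycle (x := o) (y := b)
      (Equiv.Perm.mem_support.1 (hsupp ▸ Finset.mem_univ o))
      (Equiv.Perm.mem_support.1 (hsupp ▸ Finset.mem_univ b))
    exact ⟨i, hi⟩
  set Q := zpowers g
  have hQc : Nat.card Q = 7 := by rw [Nat.card_zpowers, hg]
  have hcent : centralizer (Q : Set K) ≤ Q := fun c hc => by
    obtain ⟨i, hi⟩ := hreach ((c : Equiv.Perm Ω) o)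
    refine ⟨i, Subtype.ext (Equiv.ext fun b => ?_)⟩
    obtain ⟨j, rfl⟩ := hreach b
    have h1 : Commute ((c : Equiv.Perm Ω)) (g' ^ j) :=
      ((show Commute c (g ^ j) from (mem_centralizer_iff.1 hc _ (zpow_mem (mem_zpowers g) j)).symm).map
        K.subtype)
    rw [SubgroupClass.coe_zpow]
    show (g' ^ i * g' ^ j) o = ((c : Equiv.Perm Ω) * g' ^ j) o
    rw [h1.eq, ← zpow_add, add_comm, zpow_add, Equiv.Perm.mul_apply, Equiv.Perm.mul_apply, hi]
  haveI : Fintype K := Fintype.ofFinite K
  let P : Sylow 7 K := Sylow.ofCard Q (by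
    rw [Nat.factorization_def _ h7.out, hK, hQc,
      show padicValNat 7 56 = 1 from by
        rw [show (56 : ℕ) = 7 ^ 1 * 8 from rfl, padicValNat.mul (by norm_num) (by norm_num),
          padicValNat.prime_pow, padicValNat.eq_zero_of_not_dvd (by norm_num)], pow_one])
  have hn := card_sylow_modEq_one 7 K
  have hidx := P.card_eq_index_normalizer
  have hmul : Nat.card (normalizer ((P : Subgroup K) : Set K)) * Nat.card (Sylow 7 K) = 56 := by
    rw [hidx, ← hK]
    exact card_mul_index _
  have hle : Nat.card Q ∣ Nat.card (normalizer ((P : Subgroup K) : Set K)) :=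
    card_dvd_of_le le_normalizer
  rw [hQc] at hle
  obtain ⟨k, hk⟩ := hle
  rw [hk, mul_assoc] at hmul
  have hk8 : k * Nat.card (Sylow 7 K) = 8 := Nat.eq_of_mul_eq_mul_left (by norm_num : 0 < 7) hmul
  have hcases : Nat.card (Sylow 7 K) = 1 ∨ Nat.card (Sylow 7 K) = 8 := by
    have hd : Nat.card (Sylow 7 K) ∣ 8 := ⟨k, by rw [mul_comm]; exact hk8.symm⟩
    have := Nat.le_of_dvd (by norm_num) hd
    unfold Nat.ModEq at hn
    omega
  rcases hcases with h1 | h8
  · -- the cycle would be normal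
    rw [h1, mul_one] at hk8
    have htop : normalizer ((P : Subgroup K) : Set K) = ⊤ := eq_top_of_card_eq _ (by rw [hk, hk8, hK])
    haveI : Q.Normal := normalizer_eq_top_iff.1 htop
    let θ : K →* MulAut Q := MulAut.conjNormal
    have hker : θ.ker ≤ Q := fun c hc => hcent (mem_centralizer_iff.2 fun q hq => by
      have := congrArg Subtype.val (DFunLike.congr_fun (MonoidHom.mem_ker.1 hc) ⟨q, hq⟩)
      rw [MulAut.conjNormal_apply] at this
      exact (mul_inv_eq_iff_eq_mul.1 this).symm)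
    haveI : IsCyclic Q := isCyclic_of_prime_card (p := 7) hQc
    have hA : Nat.card (MulAut Q) = 6 := by
      rw [IsCyclic.card_mulAut, hQc, Nat.totient_prime h7.out]
    have h2 : Nat.card K ≤ 7 * 6 := by
      rw [← card_mul_index θ.ker, index_ker]
      exact Nat.mul_le_mul ((Subgroup.card_le_of_le hker).trans hQc.le)
        ((Nat.le_of_dvd Nat.card_pos θ.range.card_subgroup_dvd_card).trans hA.le)
    omega
  · -- the cycle would be self-normalising
    rw [h8] at hk8
    have hk1 : k = 1 := by omega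
    have hNQ : normalizer ((P : Subgroup K) : Set K) = (P : Subgroup K) :=
      (eq_of_le_of_card_ge le_normalizer (by rw [hk, hk1, mul_one]; exact hQc.ge)).symm
    haveI : IsCyclic Q := isCyclic_of_prime_card (p := 7) hQc
    have hP : normalizer ((P : Subgroup K) : Set K) ≤ centralizer ((P : Subgroup K) : Set K) := by
      rw [hNQ]
      intro c hc
      exact mem_centralizer_iff.2 fun q hq =>
        congrArg Subtype.val ((IsCyclic.commutative (α := Q)).is_comm.comm ⟨q, hq⟩ ⟨c, hc⟩)
    set N := (MonoidHom.transferSylow P hP).ker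
    have hN : Nat.card N = 8 := by
      have := (MonoidHom.ker_transferSylow_isComplement' P hP).card_mul
      rw [hK, show Nat.card (P : Subgroup K) = 7 from hQc] at this
      change Nat.card N * 7 = 56 at this
      omega
    have hN2 : IsPGroup 2 N := IsPGroup.of_card (n := 3) (by rw [hN]; norm_num)
    obtain ⟨a, ha⟩ := hN2.nonempty_fixed_point_of_prime_not_dvd_card Ω (by rw [hΩ]; norm_num)
    have hall : ∀ n : N, ((n : K) : Equiv.Perm Ω) = 1 := fun n => Equiv.ext fun b => by
      obtain ⟨k, hkK, rfl⟩ := htr a b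
      have hc : (⟨k, hkK⟩ : K)⁻¹ * (n : K) * ⟨k, hkK⟩ ∈ N := by
        simpa using (inferInstance : N.Normal).conj_mem _ n.2 (⟨k, hkK⟩ : K)⁻¹
      have h1 : (k⁻¹ * ((n : K) : Equiv.Perm Ω) * k) a = a := ha ⟨_, hc⟩
      rw [Equiv.Perm.mul_apply, Equiv.Perm.mul_apply] at h1
      have h2 := congrArg k h1
      rw [← Equiv.Perm.mul_apply k k⁻¹, mul_inv_cancel] at h2
      simpa using h2
    have : Subsingleton N := ⟨fun m n => Subtype.ext (Subtype.ext ((hall m).trans (hall n).symm))⟩
    rw [Nat.card_of_subsingleton (1 : N)] at hN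
    norm_num at hN

namespace Tab

variable {G : Type*} [Group G] {T : Subgroup G} {f : Nat → G} (hT : Tab T f)
include hT

theorem core_facts {a b : Nat} (ha : a < 512) (hb : b < 512) (pa : inR a = true) (pb : inR b = true) :
    f a * f 8 = f 8 * f a ∧ (f a * f a = 1 ∨ f a * f a = f 8) ∧
      (f a * f b * (f a)⁻¹ * (f b)⁻¹ = 1 ∨ f a * f b * (f a)⁻¹ * (f b)⁻¹ = f 8) := by
  have h := of_allC core_check a ha
  rw [pa, cond_true] at h
  simp only [Bool.and_eq_true, Bool.or_eq_true] at h
  obtain ⟨⟨h1, h2⟩, h3⟩ := h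
  have h4 := of_allC h3 b hb
  rw [pb, cond_true, Bool.or_eq_true] at h4
  have e : f (mm (mm (mm a b) (iv a)) (iv b)) = f a * f b * (f a)⁻¹ * (f b)⁻¹ := by
    rw [hT.mul _ _ (mm_lt _ _) (mm_zero hb).2.2.1, hT.mul _ _ (mm_lt _ _) (mm_zero ha).2.2.1,
      hT.mul _ _ ha hb, hT.map_iv ha, hT.map_iv hb]
  refine ⟨(hT.com_iff ha (by norm_num)).1 h1, ?_, ?_⟩
  · rw [← hT.mul _ _ ha ha]
    exact h2.imp (fun h => by rw [Nat.eq_of_beq_eq_true h, hT.map_zero])
      (fun h => by rw [Nat.eq_of_beq_eq_true h])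
  · rw [← e]
    exact h4.imp (fun h => by rw [Nat.eq_of_beq_eq_true h, hT.map_zero])
      (fun h => by rw [Nat.eq_of_beq_eq_true h])

theorem mem_sV_sR {x : G} (hx : x ∈ hT.sV) : x ∈ hT.sR ∧ x ∈ hT.sA ∧ x * x = 1 := by
  obtain ⟨a, ha, pa, rfl⟩ := hx
  have h := of_allC layer_check a ha
  simp only [pa, cond_true, Bool.and_eq_true] at h
  exact ⟨⟨a, ha, h.1.1.1.1.1.1, rfl⟩, ⟨a, ha, h.1.1.1.1.1.2, rfl⟩,
    (hT.sq_eq_one_iff ha).2 (Nat.eq_of_beq_eq_true h.1.1.1.1.2)⟩

theorem sA_facts {x : G} (hx : x ∈ hT.sA) :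
    x * x ∈ hT.sV ∧ (x * x = 1 → x ∈ hT.sV) ∧ ∀ v ∈ hT.sV, x * v = v * x := by
  obtain ⟨a, ha, pa, rfl⟩ := hx
  have h := of_allC layer_check a ha
  simp only [pa, cond_true, Bool.and_eq_true] at h
  obtain ⟨⟨h1, h2⟩, h3⟩ := h.1.1.1.2
  refine ⟨⟨mm a a, mm_lt _ _, h1, hT.mul _ _ ha ha⟩, fun e => ⟨a, ha, ?_, rfl⟩, ?_⟩
  · rw [(hT.sq_eq_one_iff ha).1 e] at h2
    simpa using h2
  · rintro _ ⟨b, hb, pb, rfl⟩
    have h4 := of_allC h3 b hb
    rw [pb, cond_true] at h4
    exact (hT.com_iff ha hb).1 h4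

theorem mem_sA_of_cent {x : G} (hx : x ∈ T) (hc : ∀ v ∈ hT.sV, x * v = v * x) : x ∈ hT.sA := by
  obtain ⟨a, ha, rfl⟩ := hT.surj x hx
  have h := of_allC layer_check a ha
  simp only [Bool.and_eq_true] at h
  have h1 : allC (fun b => cond (inV b) (com a b) true) = true := by
    refine allBelow_of (n := 512) (d := 9) (by norm_num) fun b hb => ?_
    cases pb : inV b
    · rfl
    · exact (hT.com_iff ha hb).2 (hc _ ⟨b, hb, pb, rfl⟩)
  have h2 := h.1.1.2
  rw [h1, cond_true] at h2
  exact ⟨a, ha, h2, rfl⟩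

/-- `R ⊓ A` is generated by the layer and the centre of the core. -/
theorem mem_inter {x : G} (hR : x ∈ hT.sR) (hA : x ∈ hT.sA) :
    ∃ v ∈ hT.sV, x = v ∨ x = f 4 * v := by
  obtain ⟨a, ha, pa, rfl⟩ := hR
  have h := of_allC layer_check a ha
  simp only [Bool.and_eq_true] at h
  have h2 := h.1.2
  simp only [pa, hT.mem_of_code ha hA, cond_true, Bool.and_true, Bool.or_eq_true] at h2
  rcases h2 with h2 | h2
  · exact ⟨f a, ⟨a, ha, h2, rfl⟩, Or.inl rfl⟩
  · refine ⟨f (mm 12 a), ⟨_, mm_lt _ _, h2, rfl⟩, Or.inr ?_⟩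
    have h12 : f 12 * f 4 = 1 := by
      rw [← hT.mul _ _ (by norm_num) (by norm_num), point_check.2.2.2.2.2.2, hT.map_zero]
    rw [hT.mul _ _ (by norm_num) ha, eq_inv_of_mul_eq_one_left h12, mul_inv_cancel_left]

theorem mem_sA_of_cent_inter {x : G} (hx : x ∈ hT.sR)
    (hc : ∀ u ∈ hT.sR, u ∈ hT.sA → x * u = u * x) : x ∈ hT.sA := by
  obtain ⟨a, ha, pa, rfl⟩ := hx
  have h := of_allC layer_check a ha
  simp only [Bool.and_eq_true] at h
  have h1 : allC (fun b => cond (inR b && inA b) (com a b) true) = true := by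
    refine allBelow_of (n := 512) (d := 9) (by norm_num) fun b hb => ?_
    cases pb : inR b && inA b
    · rfl
    · rw [Bool.and_eq_true] at pb
      exact (hT.com_iff ha hb).2 (hc _ ⟨b, hb, pb.1, rfl⟩ ⟨b, hb, pb.2, rfl⟩)
  have h2 := h.2
  rw [h1, pa, Bool.and_self, cond_true] at h2
  exact ⟨a, ha, h2, rfl⟩

end Tab

variable {G : Type*} [Group G] [Finite G] (S : Sylow 2 G) {f : Nat → G} (hT : Tab (S : Subgroup G) f)
  (hRn : centralizer ({f tc} : Set G) ≤ normalizer (hT.sR : Set G))
  (hcR : centralizer ({f tc} : Set G) ⊓ centralizer (hT.sR : Set G) ≤ hT.sR)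

include hRn hcR

/-- The centralizer of the layer is the homocyclic subgroup. -/
theorem centralizer_sV : centralizer (hT.sV : Set G) = hT.sA := by
  haveI : Fact (Nat.Prime 2) := ⟨Nat.prime_two⟩
  have htV : f tc ∈ hT.sV := ⟨8, by norm_num, point_check.2.1, rfl⟩
  have hodd : ∀ y ∈ centralizer (hT.sV : Set G), Odd (orderOf y) → y = 1 := by
    intro y hy ho
    have hyV : ∀ v ∈ hT.sV, Commute y v := fun v hv => (mem_centralizer_iff.1 hy v hv).symm
    have hyC : y ∈ centralizer ({f tc} : Set G) := mem_centralizer_singleton_iff.2 (hyV _ htV).eq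
    have hconj : ∀ r ∈ hT.sR, y * r * y⁻¹ ∈ hT.sR := fun r hr =>
      (mem_normalizer_iff.1 (hRn hyC) r).1 hr
    have h4 : f 4 ∈ hT.sR := ⟨4, by norm_num, point_check.2.2.1, rfl⟩
    have hc4 : ∀ r ∈ hT.sR, Commute (f 4) r := by
      rintro _ ⟨a, ha, pa, rfl⟩
      refine (hT.com_iff (by norm_num) ha).1 ?_
      revert pa
      have : allC (fun a => cond (inR a) (com 4 a) true) = true := by decide +kernel
      intro pa
      have h := of_allC this a ha
      rwa [pa, cond_true] at h
    -- the centre of the core is fixed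
    have hy4 : Commute y (f 4) := by
      obtain ⟨a, ha, pa, hae⟩ := hconj _ h4
      have hz : ∀ r ∈ hT.sR, Commute (y * f 4 * y⁻¹) r := fun r hr => by
        have hr' : y⁻¹ * r * y ∈ hT.sR := by
          simpa using (mem_normalizer_iff.1 (inv_mem (hRn hyC)) r).1 hr
        simpa [mul_assoc] using (hc4 _ hr').map (MulAut.conj y).toMonoidHom
      have h1 := of_allC core_centre_check a ha
      have h2 : allC (fun b => cond (inR b) (com a b) true) = true := allBelow_of (n := 512) (d := 9) (by norm_num) fun b hb => by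
        cases pb : inR b
        · rfl
        · exact (hT.com_iff ha hb).2 (by rw [hae]; exact hz _ ⟨b, hb, pb, rfl⟩)
      rw [pa, h2, Bool.and_self, cond_true] at h1
      simp only [Bool.or_eq_true, Nat.beq_eq] at h1
      have h44 : f 4 * f 4 = f 8 := by
        rw [← hT.mul _ _ (by norm_num) (by norm_num), point_check.2.2.2.2.1]
      have hsq : (y * f 4 * y⁻¹) * (y * f 4 * y⁻¹) = f 8 := by
        calc y * f 4 * y⁻¹ * (y * f 4 * y⁻¹) = y * (f 4 * f 4) * y⁻¹ := by group
          _ = f 8 := by rw [h44, show y * f 8 = f 8 * y from (hyV _ htV).eq, mul_inv_cancel_right]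
      have h80 : f 8 ≠ 1 := fun e => by
        rw [hT.eq_one_iff (by norm_num)] at e; exact absurd e (by norm_num)
      rcases h1 with ((e | e) | e) | e <;> subst e
      · rw [← hae, hT.map_zero, one_mul] at hsq
        exact absurd hsq.symm h80
      · rw [← hae, ← hT.mul _ _ (by norm_num) (by norm_num)] at hsq
        exact absurd (hT.inj _ _ (mm_lt _ _) (by norm_num) hsq) (by decide +kernel)
      · exact mul_inv_eq_iff_eq_mul.1 hae.symm
      · -- an element of odd order does not swap the two generators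
        have h12 : f 12 = f 4 * f tc := by
          rw [← hT.mul _ _ (by norm_num) (by norm_num [tc])]
          exact (congrArg f point_check.2.2.2.2.2.1).symm
        have e12 : y * f 4 * y⁻¹ = f 4 * f tc := hae.symm.trans h12
        have h2y : Commute (y ^ 2) (f 4) := by
          rw [pow_two]
          refine mul_inv_eq_iff_eq_mul.1 ?_
          calc y * y * f 4 * (y * y)⁻¹ = y * (y * f 4 * y⁻¹) * y⁻¹ := by group
            _ = y * (f 4 * f tc) * y⁻¹ := by rw [e12]
            _ = y * f 4 * y⁻¹ * (y * f tc * y⁻¹) := by group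
            _ = f 4 := by
              rw [e12, (hyV _ htV).eq, mul_inv_cancel_right, mul_assoc,
                show f tc * f tc = 1 from (hT.mem_sV_sR htV).2.2, mul_one]
        obtain ⟨k, hk⟩ := ho
        have hy' : y = (y ^ 2)⁻¹ ^ k := by
          have h := pow_orderOf_eq_one y
          rw [hk, pow_succ, pow_mul] at h
          rw [inv_pow]
          exact eq_inv_of_mul_eq_one_right h
        rw [hy']
        exact h2y.inv_left.pow_left k
    have hyU : ∀ u ∈ hT.sR, u ∈ hT.sA → Commute y u := fun u hu huA => by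
      obtain ⟨v, hv, rfl | rfl⟩ := hT.mem_inter hu huA
      · exact hyV _ hv
      · exact hy4.mul_right (hyV _ hv)
    -- the core is centralised
    refine by_contra fun hne => ?_
    have hyR : y ∈ hT.sR := hcR ⟨hyC, mem_centralizer_iff.2 fun r hr => by
      set u := r⁻¹ * (y * r * y⁻¹) with hu
      have hur : u ∈ hT.sR := mul_mem (inv_mem hr) (hconj r hr)
      have hrn : r ∈ normalizer (hT.sA : Set G) := hT.le_normalizer_subs.1 (hT.sub_le hr)
      have huA : u ∈ hT.sA := hT.mem_sA_of_cent_inter hur fun w hw hwA => by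
        have hw' : r * w * r⁻¹ ∈ hT.sR ∧ r * w * r⁻¹ ∈ hT.sA :=
          ⟨mul_mem (mul_mem hr hw) (inv_mem hr), (mem_normalizer_iff.1 hrn w).1 hwA⟩
        have e : y * r * y⁻¹ * w * (y * r * y⁻¹)⁻¹ = r * w * r⁻¹ := by
          calc y * r * y⁻¹ * w * (y * r * y⁻¹)⁻¹ = y * (r * (y⁻¹ * w * y) * r⁻¹) * y⁻¹ := by group
            _ = y * (r * w * r⁻¹) * y⁻¹ := by
              rw [show y⁻¹ * w * y = w by
                rw [mul_assoc, ← (hyU w hw hwA).eq, inv_mul_cancel_left]]
            _ = r * w * r⁻¹ := by rw [(hyU _ hw'.1 hw'.2).eq, mul_inv_cancel_right]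
        calc u * w = r⁻¹ * (y * r * y⁻¹ * w * (y * r * y⁻¹)⁻¹) * (y * r * y⁻¹) := by rw [hu]; group
          _ = r⁻¹ * (r * w * r⁻¹) * (y * r * y⁻¹) := by rw [e]
          _ = w * u := by rw [hu]; group
      have hk : ∀ k : ℕ, y ^ k * r * (y ^ k)⁻¹ = r * u ^ k := by
        intro k
        induction k with
        | zero => simp
        | succ k ih =>
          rw [pow_succ', show y * y ^ k * r * (y * y ^ k)⁻¹ = y * (y ^ k * r * (y ^ k)⁻¹) * y⁻¹ by group,
            ih, show y * (r * u ^ k) * y⁻¹ = y * r * y⁻¹ * (y * u ^ k * y⁻¹) by group,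
            ((hyU u hur huA).pow_right k).eq, mul_inv_cancel_right, pow_succ' u, ← mul_assoc r u,
            show r * u = y * r * y⁻¹ by rw [hu, mul_inv_cancel_left]]
      have h1 := hk (orderOf y)
      rw [pow_orderOf_eq_one, one_mul, inv_one, mul_one, eq_comm, mul_eq_left] at h1
      have h4' : u ^ 4 = 1 := by
        have := (hT.mem_sV_sR (hT.sA_facts huA).1).2.2
        rw [show u ^ 4 = u * u * (u * u) by rw [← pow_two, ← pow_two, ← pow_mul], this]
      have hu1 : orderOf u = 1 := Nat.eq_one_of_dvd_coprimes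
        ((Nat.coprime_two_left.2 ho).pow_left 2) (orderOf_dvd_of_pow_eq_one h4')
        (orderOf_dvd_of_pow_eq_one h1)
      rw [orderOf_eq_one_iff] at hu1
      have h := hk 1
      rw [pow_one, pow_one, hu1, mul_one] at h
      exact (mul_inv_eq_iff_eq_mul.1 h).symm⟩
    obtain ⟨a, ha, -, rfl⟩ := hyR
    have hp := S.2 ⟨f a, hT.mem a ha⟩
    obtain ⟨k, hk⟩ := hp
    have hdvd : orderOf (f a) ∣ 2 ^ k := orderOf_dvd_of_pow_eq_one (congrArg Subtype.val hk :)
    exact hne (orderOf_eq_one_iff.1 (Nat.eq_one_of_dvd_coprimes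
      ((Nat.coprime_two_left.2 ho).pow_left k).symm dvd_rfl hdvd))
  -- so it is a 2-group, hence in the Sylow subgroup
  have hp : IsPGroup 2 (centralizer (hT.sV : Set G)) := fun ⟨x, hx⟩ => by
    obtain ⟨k, r, hr, hkr⟩ := Nat.exists_eq_two_pow_mul_odd (orderOf_pos x).ne'
    refine ⟨k, Subtype.ext (hodd _ (pow_mem hx _) ?_)⟩
    rw [SubgroupClass.coe_pow, orderOf_pow' _ (pow_ne_zero k two_ne_zero), hkr, Nat.gcd_eq_right (dvd_mul_right _ _),
      Nat.mul_div_cancel_left _ (pow_pos two_pos k)]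
    exact hr
  have hnorm : (S : Subgroup G) ≤ normalizer (centralizer (hT.sV : Set G) : Set G) := fun s hs =>
    mem_normalizer_fintype fun c hc => mem_centralizer_iff.2 fun v hv => by
      have hv' := (mem_normalizer_iff.1 (inv_mem (hT.le_normalizer_subs.2.1 hs)) v).1 hv
      rw [inv_inv] at hv'
      have := (show Commute (s⁻¹ * v * s) c from mem_centralizer_iff.1 hc _ hv').map
        (MulAut.conj s).toMonoidHom
      simpa [mul_assoc] using this.eq
  have hS : (S : Subgroup G) ⊔ centralizer (hT.sV : Set G) = (S : Subgroup G) :=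
    S.3 (S.2.to_sup_of_normal_right' hp hnorm) le_sup_left
  refine le_antisymm (fun x hx => hT.mem_sA_of_cent (hS ▸ mem_sup_right hx) fun v hv =>
    (mem_centralizer_iff.1 hx v hv).symm) fun x hx => mem_centralizer_iff.2 fun v hv =>
    ((hT.sA_facts hx).2.2 v hv).symm

theorem isoHS_of_local
    (π : centralizer ({f tc} : Set G) →* Equiv.Perm (Fin 5)) (hπ : Function.Surjective π)
    (hker : π.ker = hT.sR.subgroupOf (centralizer ({f tc} : Set G)))
    (hV : ∀ a, a < 512 → inV a = true → a ≠ 0 → ∃ n ∈ normalizer (hT.sA : Set G), n * f a * n⁻¹ = f tc) :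
    Cfsg.Spor.IsoHS G := by
  classical
  haveI : Fact (Nat.Prime 2) := ⟨Nat.prime_two⟩
  have hA := centralizer_sV S hT hRn hcR
  have ht1 : f tc ≠ 1 := fun e => by
    rw [tc, hT.eq_one_iff (by norm_num)] at e; exact absurd e (by norm_num)
  have htV : f tc ∈ hT.sV := ⟨8, by norm_num, point_check.2.1, rfl⟩
  have htR : f tc ∈ hT.sR := (hT.mem_sV_sR htV).1
  have hRle : hT.sR ≤ centralizer ({f tc} : Set G) := by
    rintro _ ⟨a, ha, pa, rfl⟩
    exact mem_centralizer_singleton_iff.2 (hT.core_facts ha (by norm_num) pa point_check.1).1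
  have hVA : hT.sV ≤ hT.sA := fun x hx => (hT.mem_sV_sR hx).2.1
  set M := normalizer (hT.sV : Set G) with hM
  have hNA : normalizer (hT.sA : Set G) ≤ M := fun n hn => mem_normalizer_fintype fun v hv => by
    refine (hT.sA_facts ((mem_normalizer_iff.1 hn v).1 (hVA hv))).2.1 ?_
    calc n * v * n⁻¹ * (n * v * n⁻¹) = n * (v * v) * n⁻¹ := by group
      _ = 1 := by rw [(hT.mem_sV_sR hv).2.2, mul_one, mul_inv_cancel]
  -- the order of the normalizer of the layer
  have hcard : Nat.card M = 10752 := by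
    let Ω := {v : hT.sV // v ≠ 1}
    haveI : Fintype hT.sV := Fintype.ofFinite _
    have hΩ : Nat.card Ω = 7 := by
      rw [Nat.card_eq_fintype_card, Fintype.card_subtype_compl, Fintype.card_subtype_eq,
        ← Nat.card_eq_fintype_card, hT.card_sV]
    have hmv : ∀ (n : M) (v : Ω), (n : G) * ((v.1 : hT.sV) : G) * (n : G)⁻¹ ∈ hT.sV := fun n v =>
      (mem_normalizer_iff.1 n.2 _).1 v.1.2
    have hne : ∀ (n : M) (v : Ω), (⟨_, hmv n v⟩ : hT.sV) ≠ 1 := fun n v e => v.2
      (Subtype.ext (conj_eq_one_iff.1 (congrArg Subtype.val e)))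
    letI : MulAction M Ω :=
      { smul := fun n v => ⟨⟨_, hmv n v⟩, hne n v⟩
        one_smul := fun v => by
          apply Subtype.ext; apply Subtype.ext
          show ((1 : M) : G) * _ * ((1 : M) : G)⁻¹ = _
          simp
        mul_smul := fun n n' v => by
          apply Subtype.ext; apply Subtype.ext
          show ((n * n' : M) : G) * _ * ((n * n' : M) : G)⁻¹ = (n : G) * (_ * _ * _) * (n : G)⁻¹
          simp [mul_assoc] }
    set ρ : M →* Equiv.Perm Ω := MulAction.toPermHom M Ω
    have hρker : ρ.ker = hT.sA.subgroupOf M := by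
      ext n
      rw [MonoidHom.mem_ker, mem_subgroupOf, ← hA, mem_centralizer_iff]
      constructor
      · intro hn v hv
        by_cases h1 : (⟨v, hv⟩ : hT.sV) = 1
        · rw [show v = 1 from congrArg Subtype.val h1, one_mul, mul_one]
        · have := congrArg (fun w : Ω => ((w.1 : hT.sV) : G)) (Equiv.ext_iff.1 hn ⟨⟨v, hv⟩, h1⟩)
          exact (mul_inv_eq_iff_eq_mul.1 this).symm
      · intro hn
        refine Equiv.ext fun v => Subtype.ext (Subtype.ext ?_)
        show (n : G) * _ * (n : G)⁻¹ = _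
        rw [← hn _ v.1.2, mul_inv_cancel_right]
        rfl
    have hAM : hT.sA ≤ M := hT.sub_le.trans hT.le_normalizer_subs.2.1
    have hcardker : Nat.card ρ.ker = 64 := by
      rw [hρker, Nat.card_congr (subgroupOfEquivOfLe hAM).toEquiv, hT.card_sA]
    have hrange : Nat.card M = 64 * Nat.card ρ.range := by
      rw [← card_mul_index ρ.ker, index_ker, hcardker]
    haveI : Fintype Ω := Fintype.ofFinite Ω
    have htop : Nat.card ρ.range ∣ 5040 := by
      have h := ρ.range.card_subgroup_dvd_card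
      rwa [Nat.card_perm, hΩ, show Nat.factorial 7 = 5040 from rfl] at h
    have hS' : Nat.card (S : Subgroup G) ∣ Nat.card M := card_dvd_of_le hT.le_normalizer_subs.2.1
    rw [hT.card_eq, hrange, show 512 = 64 * 8 from rfl] at hS'
    have h8 : 8 ∣ Nat.card ρ.range := Nat.dvd_of_mul_dvd_mul_left (by norm_num) hS'
    have htr : ∀ v w : Ω, ∃ k ∈ ρ.range, k v = w := by
      have hto : ∀ v : Ω, ∃ k ∈ ρ.range, k v = (⟨⟨f tc, htV⟩, fun e => ht1 (congrArg Subtype.val e)⟩ : Ω) := by
        rintro ⟨⟨_, a, ha, pa, rfl⟩, hv⟩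
        obtain ⟨n, hn, hne'⟩ := hV a ha pa fun e => hv (Subtype.ext (by
          show f a = 1
          rw [e, hT.map_zero]))
        exact ⟨ρ ⟨n, hNA hn⟩, ⟨_, rfl⟩, Subtype.ext (Subtype.ext hne')⟩
      intro v w
      obtain ⟨k, hk, hkv⟩ := hto v
      obtain ⟨k', hk', hkw⟩ := hto w
      exact ⟨k'⁻¹ * k, mul_mem (inv_mem hk') hk, by
        rw [Equiv.Perm.mul_apply, hkv, Equiv.Perm.inv_def, Equiv.symm_apply_eq, hkw]⟩
    have h7 : 7 ∣ Nat.card ρ.range := by
      haveI : MulAction.IsPretransitive ρ.range Ω := ⟨fun v w => by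
        obtain ⟨k, hk, hkv⟩ := htr v w
        exact ⟨⟨k, hk⟩, hkv⟩⟩
      obtain ⟨v⟩ : Nonempty Ω := ⟨⟨⟨f tc, htV⟩, fun e => ht1 (congrArg Subtype.val e)⟩⟩
      have h := MulAction.index_stabilizer_of_transitive ρ.range v
      rw [hΩ] at h
      exact h ▸ index_dvd_card _
    -- a permutation in the image is determined by three points
    have hpt : ∀ i : Fin 3, inV (2 * 4 ^ (i : ℕ)) = true ∧ 2 * 4 ^ (i : ℕ) ≠ 0 ∧ 2 * 4 ^ (i : ℕ) < 512 := by
      decide +kernel
    let B : Fin 3 → Ω := fun i => ⟨⟨f (2 * 4 ^ (i : ℕ)), _, (hpt i).2.2, (hpt i).1, rfl⟩, fun e =>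
      (hpt i).2.1 ((hT.eq_one_iff (hpt i).2.2).1 (congrArg Subtype.val e))⟩
    have hBi : Function.Injective B := fun i i' e => by
      have h := hT.inj _ _ (hpt i).2.2 (hpt i').2.2 (congrArg (fun w : Ω => ((w.1 : hT.sV) : G)) e)
      exact Fin.ext (Nat.pow_right_injective (by norm_num) (Nat.eq_of_mul_eq_mul_left two_pos h))
    let Φ : ρ.range → (Fin 3 ↪ Ω) := fun k => ⟨fun i => k.1 (B i), k.1.injective.comp hBi⟩
    have hΦ : Function.Injective Φ := by
      rintro ⟨_, n, rfl⟩ ⟨_, n', rfl⟩ e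
      have hg : ∀ i : Fin 3, (n : G) * f (2 * 4 ^ (i : ℕ)) * (n : G)⁻¹ =
          (n' : G) * f (2 * 4 ^ (i : ℕ)) * (n' : G)⁻¹ := fun i =>
        congrArg (fun w : Ω => ((w.1 : hT.sV) : G)) (DFunLike.congr_fun e i)
      refine Subtype.ext (Equiv.ext fun v => ?_)
      apply Subtype.ext; apply Subtype.ext
      obtain ⟨⟨x, a, ha, pa, rfl⟩, hv⟩ := v
      show (n : G) * f a * (n : G)⁻¹ = (n' : G) * f a * (n' : G)⁻¹
      have hchk : allC (fun a => cond (inV a)
          (Nat.beq (mm (mm (Nat.land a 2) (Nat.land a 8)) (Nat.land a 32)) a &&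
            (Nat.beq (Nat.land a 2) 0 || Nat.beq (Nat.land a 2) 2) &&
            (Nat.beq (Nat.land a 8) 0 || Nat.beq (Nat.land a 8) 8) &&
            (Nat.beq (Nat.land a 32) 0 || Nat.beq (Nat.land a 32) 32)) true) = true := by
        decide +kernel
      have h := of_allC hchk a ha
      rw [pa, cond_true] at h
      simp only [Bool.and_eq_true, Bool.or_eq_true, Nat.beq_eq] at h
      obtain ⟨⟨⟨he, h2⟩, h8⟩, h32⟩ := h
      have key : ∀ (b c : Nat), (b = 0 ∨ b = c) → ((n : G) * f c * (n : G)⁻¹ =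
          (n' : G) * f c * (n' : G)⁻¹) → (n : G) * f b * (n : G)⁻¹ = (n' : G) * f b * (n' : G)⁻¹ := by
        rintro b c (rfl | rfl) h
        · rw [hT.map_zero]; group
        · exact h
      have lt2 : Nat.land a 2 < 512 := lt_of_le_of_lt Nat.and_le_right (by norm_num)
      have lt8 : Nat.land a 8 < 512 := lt_of_le_of_lt Nat.and_le_right (by norm_num)
      have lt32 : Nat.land a 32 < 512 := lt_of_le_of_lt Nat.and_le_right (by norm_num)
      have hfa : f a = f (Nat.land a 2) * f (Nat.land a 8) * f (Nat.land a 32) := by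
        rw [← hT.mul _ _ lt2 lt8, ← hT.mul _ _ (mm_lt _ _) lt32, he]
      have k2 := key _ _ h2 (hg 0)
      have k8 := key _ _ h8 (hg 1)
      have k32 := key _ _ h32 (hg 2)
      calc (n : G) * f a * (n : G)⁻¹
          = ((n : G) * f (Nat.land a 2) * (n : G)⁻¹) * ((n : G) * f (Nat.land a 8) * (n : G)⁻¹) *
              ((n : G) * f (Nat.land a 32) * (n : G)⁻¹) := by rw [hfa]; group
        _ = ((n' : G) * f (Nat.land a 2) * (n' : G)⁻¹) * ((n' : G) * f (Nat.land a 8) * (n' : G)⁻¹) *
              ((n' : G) * f (Nat.land a 32) * (n' : G)⁻¹) := by rw [k2, k8, k32]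
        _ = _ := by rw [hfa]; group
    have h210 : Nat.card ρ.range ≤ 210 := by
      refine (Nat.card_le_card_of_injective Φ hΦ).trans ?_
      rw [Nat.card_eq_fintype_card, Fintype.card_embedding_eq, ← Nat.card_eq_fintype_card (α := Ω), hΩ,
        Fintype.card_fin]
      decide
    have h56 : 56 ∣ Nat.card ρ.range := Nat.Coprime.mul_dvd_of_dvd_of_dvd (by norm_num) h8 h7
    have hne56 : Nat.card ρ.range ≠ 56 := no_transitive_56 hΩ ρ.range htr
    obtain ⟨j, hj⟩ := h56
    have h16 : ¬ 16 ∣ Nat.card ρ.range := fun h16 => by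
      have hM2 : 2 ^ 10 ∣ Nat.card M := by
        rw [hrange, show (2 : ℕ) ^ 10 = 64 * 16 from rfl]; exact Nat.mul_dvd_mul_left _ h16
      obtain ⟨P, hP⟩ := Sylow.exists_subgroup_card_pow_prime 2 hM2
      have hPp : IsPGroup 2 (P.map M.subtype) := (IsPGroup.of_card hP).map _
      obtain ⟨T, hT'⟩ := hPp.exists_le_sylow
      have h := Subgroup.card_le_of_le hT'
      rw [card_map_of_injective M.subtype_injective, hP, Nat.card_congr (Sylow.equiv T S).toEquiv,
        hT.card_eq] at h
      norm_num at h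
    rw [hrange, hj]
    have hj3 : j ≤ 3 := by omega
    interval_cases j
    · simp only [mul_zero] at hj
      exact absurd hj Nat.card_pos.ne'
    · exact absurd hj hne56
    · exact absurd (hj ▸ (by norm_num : 16 ∣ 56 * 2)) h16
    · rfl
  -- the hypotheses of the recognition theorem
  have hAconj : ∀ g ∈ M, ∀ x ∈ hT.sA, g * x * g⁻¹ ∈ hT.sA := by
    intro g hg x hx
    rw [← hA] at hx ⊢
    refine mem_centralizer_iff.2 fun v hv => ?_
    have h1 : g⁻¹ * v * g ∈ hT.sV := by simpa using (mem_normalizer_iff.1 (inv_mem hg) v).1 hv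
    have := (show Commute (g⁻¹ * v * g) x from mem_centralizer_iff.1 hx _ h1).map
      (MulAut.conj g).toMonoidHom
    simpa [mul_assoc] using this.eq
  let ψ : Multiplicative (ZMod 4 × ZMod 4 × ZMod 4) →* hT.sA :=
    { toFun := fun x => ⟨f (digits x.toAdd), _, (digits_check.2.1 _).2, (digits_check.2.1 _).1, rfl⟩
      map_one' := Subtype.ext (by
        show f (digits 0) = 1
        rw [show digits 0 = 0 from rfl, hT.map_zero])
      map_mul' := fun x y => Subtype.ext (by
        show f (digits (x.toAdd + y.toAdd)) = f (digits x.toAdd) * f (digits y.toAdd)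
        rw [← digits_check.1, hT.mul _ _ (digits_check.2.1 _).2 (digits_check.2.1 _).2]) }
  have hψ : Function.Bijective ψ := (Nat.bijective_iff_injective_and_card ψ).2
    ⟨fun x y e => Multiplicative.toAdd.injective (digits_check.2.2 _ _ (hT.inj _ _
      (digits_check.2.1 _).2 (digits_check.2.1 _).2 (congrArg Subtype.val e))), by
      rw [hT.card_sA, Nat.card_congr Multiplicative.toAdd, Nat.card_prod, Nat.card_prod, Nat.card_zmod]⟩
  refine CfsgLib.HSUniq.isoHS_of_hyp CfsgLib.HSUniq.exists_second_class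
    (t := f tc) (R := hT.sR) (V := hT.sV) (A := hT.sA)
    { ord_t := orderOf_eq_prime (by rw [pow_two]; exact (hT.mem_sV_sR htV).2.2) ht1
      t_mem := htR
      R_le := hRle
      card_R := hT.card_sR
      card_H := ?_
      R_conj := fun h hh r hr => (mem_normalizer_iff.1 (hRn hh) r).1 hr
      R_comm := ?_
      R_sq := ?_
      R_centre := ?_
      R_proj := ⟨π, hπ, fun x => by rw [← MonoidHom.mem_ker, hker, mem_subgroupOf]⟩
      V_le := fun x hx => (hT.mem_sV_sR hx).1
      t_V := htV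
      V_sq := fun v hv => (hT.mem_sV_sR hv).2.2
      card_V := hT.card_sV
      A_le := hT.sub_le.trans hT.le_normalizer_subs.2.1
      A_conj := hAconj
      A_two := fun x hx => (hT.sA_facts hx).1
      V_le_A := hVA
      A_Omega := fun x hx => (hT.sA_facts hx).2.1
      A_basis := ⟨(MulEquiv.ofBijective ψ hψ).symm, trivial⟩
      card_M := hcard
      A_faithful := fun g _ hg => hA ▸ mem_centralizer_iff.2 fun v hv =>
        (mul_inv_eq_iff_eq_mul.1 (hg v hv)).symm }
  · rw [← card_mul_index π.ker, index_ker, MonoidHom.range_eq_top.2 hπ, card_top, hker,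
      Nat.card_congr (subgroupOfEquivOfLe hRle).toEquiv, hT.card_sR, Nat.card_perm, Nat.card_fin]
    rfl
  · rintro _ ⟨a, ha, pa, rfl⟩ _ ⟨b, hb, pb, rfl⟩
    exact (hT.core_facts ha hb pa pb).2.2
  · rintro _ ⟨a, ha, pa, rfl⟩
    exact (hT.core_facts ha ha pa pa).2.1
  · refine ⟨f 4, ⟨4, by norm_num, point_check.2.2.1, rfl⟩, ?_, ?_, ?_⟩
    · rw [← hT.mul _ _ (by norm_num) (by norm_num), point_check.2.2.2.2.1]; rfl
    · rintro _ ⟨a, ha, pa, rfl⟩
      have hchk : allC (fun a => cond (inR a) (com 4 a) true) = true := by decide +kernel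
      have h := of_allC hchk a ha
      rw [pa, cond_true] at h
      exact (hT.com_iff (by norm_num) ha).1 h
    · rintro _ ⟨a, ha, pa, rfl⟩ hc
      have h1 := of_allC core_centre_check a ha
      have h2 : allC (fun b => cond (inR b) (com a b) true) = true := allBelow_of (n := 512) (d := 9) (by norm_num) fun b hb => by
        cases pb : inR b
        · rfl
        · exact (hT.com_iff ha hb).2 (hc _ ⟨b, hb, pb, rfl⟩)
      rw [pa, h2, Bool.and_self, cond_true] at h1
      simp only [Bool.or_eq_true, Nat.beq_eq] at h1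
      rcases h1 with ((e | e) | e) | e <;> subst e
      · exact Or.inl hT.map_zero
      · exact Or.inr (Or.inl rfl)
      · exact Or.inr (Or.inr (Or.inl rfl))
      · refine Or.inr (Or.inr (Or.inr ?_))
        rw [tc, ← hT.mul _ _ (by norm_num) (by norm_num), point_check.2.2.2.2.2.1]

end CfsgLib.HSSylow
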