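import Cfsg.Agent.HSSylow.Codes

/-!
The distinguished subgroups of a Sylow 2-subgroup of Higman–Sims type, by tests on codes: the homocyclic
subgroup `A`, its first layer `V`, the core `R` of the centralizer of the central involution and the centre
of `R`.
-/

set_option autoImplicit false
set_option maxRecDepth 100000
set_option linter.unusedSectionVars false
set_option linter.style.haveILetI false

namespace CfsgLib.HSSylow

open Subgroup CfsgLib.Coset

/-- The homocyclic subgroup of order 64. -/
noncomputable def inA (a : Nat) : Bool := Nat.blt a 64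

/-- The involutions of the homocyclic subgroup, and one. -/
noncomputable def inV (a : Nat) : Bool := Nat.beq (Nat.land a 42) a

/-- The core of the centralizer of the central involution. -/
noncomputable def inR (a : Nat) : Bool :=
  Nat.beq (Nat.land a 17) 0 && (Nat.beq (Nat.land a 320) 0 || Nat.beq (Nat.land a 320) 320)

/-- The centre of the core. -/
noncomputable def inZ (a : Nat) : Bool := Nat.beq (Nat.land a 12) a

/-- A test is closed under products and inverses and holds at the unit code. -/
noncomputable def closedC (p : Nat → Bool) : Bool :=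
  p 0 && allC (fun a => cond (p a) (allC fun b => cond (p b) (p (mm a b)) true) true) &&
    allC (fun a => cond (p a) (p (iv a)) true)

theorem closedC_spec {p : Nat → Bool} (h : closedC p = true) : p 0 = true ∧
    allC (fun a => cond (p a) (allC fun b => cond (p b) (p (mm a b)) true) true) = true ∧
    allC (fun a => cond (p a) (p (iv a)) true) = true := by
  simp only [closedC, Bool.and_eq_true] at h
  exact ⟨h.1.1, h.1.2, h.2⟩

theorem closed_A : closedC inA = true := by decide +kernel

theorem closed_V : closedC inV = true := by decide +kernel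

theorem closed_R : closedC inR = true := by decide +kernel

theorem closed_Z : closedC inZ = true := by decide +kernel

theorem count_subs : ((List.range 512).filter inA).length = 64 ∧ ((List.range 512).filter inV).length = 8 ∧
    ((List.range 512).filter inR).length = 64 ∧ ((List.range 512).filter inZ).length = 4 := by decide +kernel

theorem normal_subs : allC (fun h => allC fun a => cond (inA a) (inA (cnj h a)) true &&
    cond (inV a) (inV (cnj h a)) true && cond (inR a) (inR (cnj h a)) true) = true := by decide +kernel

namespace Tab

variable {G : Type*} [Group G] {T : Subgroup G} {f : Nat → G} (hT : Tab T f)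
include hT

/-- The subgroup `A`. -/
noncomputable def sA : Subgroup G := hT.sub inA (closedC_spec closed_A).1 (closedC_spec closed_A).2.1 (closedC_spec closed_A).2.2

/-- The subgroup `V`. -/
noncomputable def sV : Subgroup G := hT.sub inV (closedC_spec closed_V).1 (closedC_spec closed_V).2.1 (closedC_spec closed_V).2.2

/-- The subgroup `R`. -/
noncomputable def sR : Subgroup G := hT.sub inR (closedC_spec closed_R).1 (closedC_spec closed_R).2.1 (closedC_spec closed_R).2.2

/-- The centre of `R`. -/
noncomputable def sZ : Subgroup G := hT.sub inZ (closedC_spec closed_Z).1 (closedC_spec closed_Z).2.1 (closedC_spec closed_Z).2.2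

theorem card_sA : Nat.card hT.sA = 64 := (hT.card_sub _ _ _ _).trans count_subs.1

theorem card_sV : Nat.card hT.sV = 8 := (hT.card_sub _ _ _ _).trans count_subs.2.1

theorem card_sR : Nat.card hT.sR = 64 := (hT.card_sub _ _ _ _).trans count_subs.2.2.1

theorem card_sZ : Nat.card hT.sZ = 4 := (hT.card_sub _ _ _ _).trans count_subs.2.2.2

theorem mem_of_code {p : Nat → Bool} {h0 hm hi} {a : Nat} (ha : a < 512) (h : f a ∈ hT.sub p h0 hm hi) : p a = true := by
  obtain ⟨b, hb, pb, e⟩ := h
  rwa [(hT.eq_iff hb ha).1 e] at pb

theorem le_normalizer_subs : T ≤ normalizer (hT.sA : Set G) ∧ T ≤ normalizer (hT.sV : Set G) ∧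
    T ≤ normalizer (hT.sR : Set G) := by
  have key : ∀ p h0 hm hi, (∀ h, h < 512 → ∀ a, a < 512 → p a = true → p (cnj h a) = true) →
      T ≤ normalizer ((hT.sub p h0 hm hi : Subgroup G) : Set G) := by
    intro p h0 hm hi hp x hx
    obtain ⟨h, hh, rfl⟩ := hT.surj x hx
    refine mem_normalizer_iff.2 fun y => ⟨?_, ?_⟩
    · rintro ⟨a, ha, pa, rfl⟩
      exact ⟨cnj h a, mm_lt _ _, hp h hh a ha pa, hT.map_cnj hh ha⟩
    · rintro ⟨a, ha, pa, e⟩
      refine ⟨cnj (iv h) a, mm_lt _ _, hp _ (mm_zero hh).2.2.1 a ha pa, ?_⟩
      rw [hT.map_cnj (mm_zero hh).2.2.1 ha, hT.map_iv hh, e]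
      group
  have hc := fun h (hh : h < 512) a (ha : a < 512) => of_allC (of_allC normal_subs h hh) a ha
  refine ⟨key _ _ _ _ fun h hh a ha pa => ?_, key _ _ _ _ fun h hh a ha pa => ?_, key _ _ _ _ fun h hh a ha pa => ?_⟩
  · have := hc h hh a ha
    simp only [Bool.and_eq_true] at this
    simpa [pa] using this.1.1
  · have := hc h hh a ha
    simp only [Bool.and_eq_true] at this
    simpa [pa] using this.1.2
  · have := hc h hh a ha
    simp only [Bool.and_eq_true] at this
    simpa [pa] using this.2

end Tab

end CfsgLib.HSSylow
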