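import Cfsg.Agent.HSSylow.Extremal
import Cfsg.Agent.HSSylow.Subs
import Cfsg.Agent.HSSylow.CertsA
import Cfsg.Agent.HSSylow.CertsB
import Cfsg.Agent.HSSylow.CertsC
import Cfsg.Agent.HSSylow.CertsD
import Cfsg.Agent.ZStar.Final
import Cfsg.Agent.Invol.ThompsonTransfer

/-!
Fusion of involutions in a simple group with a Sylow 2-subgroup of Higman–Sims type: the central involution is
fused to the classes inside `A`, the class of `449` stays apart, and `A` is weakly closed.
-/

set_option autoImplicit false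
set_option maxRecDepth 100000
set_option linter.unusedSectionVars false
set_option linter.style.haveILetI false

namespace CfsgLib.HSSylow

open Subgroup CfsgLib.SylL34 CfsgLib.Coset

/-- The test for the maximal subgroup used in the transfer. -/
noncomputable def inM (a : Nat) : Bool := Nat.beq (Nat.land a 16) 0

theorem closed_M : closedC inM = true := by decide +kernel

theorem count_M : ((List.range 512).filter inM).length = 256 ∧ inM 145 = false := by decide +kernel

theorem cls_notM : allC (fun a => cond (Nat.beq (cls a) 9) (!inM a) true) = true := by decide +kernel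

theorem rep_vals : rep 0 = 0 ∧ rep 1 = 8 ∧ rep 2 = 2 ∧ rep 3 = 32 ∧ rep 4 = 448 ∧ rep 5 = 449 ∧ rep 6 = 64 ∧
    rep 7 = 65 ∧ rep 8 = 128 ∧ rep 9 = 145 := by decide +kernel

theorem cA_small : ((List.range 7).all fun i =>
    Nat.ble ((List.range 64).filter fun a => com a (64 * (i + 1))).length 8) = true := by decide +kernel

theorem dm_noncomm : dm 1 2 ≠ dm 2 1 ∨ dm 1 4 ≠ dm 4 1 := by decide +kernel

variable {G : Type*} [Group G] [Finite G] {S : Sylow 2 G} {f : Nat → G}

/-- Two classes of involutions are fused. -/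
def K (f : Nat → G) (i k : Nat) : Prop := IsConj (f (rep i)) (f (rep k))

theorem K.symm {i k : Nat} (h : K f i k) : K f k i := IsConj.symm h

theorem K.trans {i k l : Nat} (h : K f i k) (h' : K f k l) : K f i l := IsConj.trans h h'

variable (hT : Tab (S : Subgroup G) f)
include hT

theorem mm_of_cin {H : Subgroup G} {x v : Nat} (hx : x < 512) (hxx : mm x x = 0) (hv : v < 512)
    (h : CIn H (f x) (f v)) : mm v v = 0 := by
  obtain ⟨g, -, e⟩ := h
  rw [← hT.sq_eq_one_iff hv, ← e]
  rw [show g * f x * g⁻¹ * (g * f x * g⁻¹) = g * (f x * f x) * g⁻¹ by group, (hT.sq_eq_one_iff hx).2 hxx]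
  group

/-- An extremal conjugate that is a representative. -/
theorem exists_ext_rep {H : Subgroup G} (hSH : (S : Subgroup G) ≤ H) {x : Nat} (hx : x < 512)
    (hxx : mm x x = 0) (hx0 : x ≠ 0) :
    ∃ g ∈ H, ∃ i, 1 ≤ i ∧ i < 10 ∧ g * f x * g⁻¹ = f (rep i) ∧
      (∀ a, a < 512 → com a x = true → g * f a * g⁻¹ ∈ (S : Subgroup G)) ∧
      ∀ w, w < 512 → CIn H (f x) (f w) → num w ≤ num (rep i) := by
  obtain ⟨g, hg, z, hz, ez, hgS, hmax⟩ := exists_extremal hT hSH hx
  obtain ⟨hc, hn⟩ := cls_lt hz (mm_of_cin hT hx hxx hz ⟨g, hg, ez⟩)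
  obtain ⟨k, hk, ek⟩ := exists_cnj_rep hz hc
  have e : f k * g * f x * (f k * g)⁻¹ = f (rep (cls z)) := by
    rw [← ek, hT.map_cnj hk hz, ← ez]
    group
  refine ⟨f k * g, mul_mem (hSH (hT.mem k hk)) hg, cls z, Nat.pos_of_ne_zero fun h0 => hx0 ?_, hc, e,
    fun a ha hax => ?_, fun w hw hcw => hn ▸ hmax w hw hcw⟩
  · rw [h0, rep_vals.1, hT.map_zero] at e
    rw [← hT.eq_one_iff hx]
    calc f x = (f k * g)⁻¹ * (f k * g * f x * (f k * g)⁻¹) * (f k * g) := by group
      _ = 1 := by rw [e]; group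
  · rw [show f k * g * f a * (f k * g)⁻¹ = f k * (g * f a * g⁻¹) * (f k)⁻¹ by group]
    exact mul_mem (mul_mem (hT.mem k hk) (hgS a ha hax)) (inv_mem (hT.mem k hk))

/-- Conjugation onto a given representative, when its centralizer is largest in the class. -/
theorem exists_to_rep {H : Subgroup G} (hSH : (S : Subgroup G) ≤ H) {i k : Nat} (hi : i < 10)
    (_hk : k < 10) (hik : CIn H (f (rep i)) (f (rep k)))
    (hmax : ∀ c, c < 10 → CIn H (f (rep i)) (f (rep c)) → num (rep c) ≤ num (rep k)) :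
    ∃ g ∈ H, g * f (rep i) * g⁻¹ = f (rep k) ∧
      ∀ a, a < 512 → com a (rep i) = true → g * f a * g⁻¹ ∈ (S : Subgroup G) := by
  refine exists_to hT hSH (rep_lt i) (rep_lt k) hik fun v hv hcv => ?_
  obtain ⟨hc, hn⟩ := cls_lt hv (mm_of_cin hT (rep_lt i) (rep_sq i hi).1 hv hcv)
  rw [hn]
  exact hmax _ hc (hcv.trans (cls_conj hT hSH hv hc))

/-- A search used at a conjugating element. -/
theorem Good.use1 {j : Job} {t : Test} (hG : Good j t) {x z : Nat} (hj : j.fixd = [(x, z)])
    (hc : allL j.lv (fun l => cond (Nat.blt l.gen 512) (com l.gen x) false) = true) {g : G}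
    (e : g * f x * g⁻¹ = f z) (hS : ∀ a, a < 512 → com a x = true → g * f a * g⁻¹ ∈ (S : Subgroup G))
    (hinit : ∀ q ∈ t.init, K f q.1 q.2) :
    (∃ q ∈ t.goals, K f q.1 q.2) ∨ ∃ g' : G, ∃ w ∈ t.extra, ∃ y, y < 512 ∧ evc j.ws w < 512 ∧
      g' * f (evc j.ws w) * g'⁻¹ = f y ∧ cls y ∈ t.target := by
  obtain ⟨h1, h2⟩ := cond_false.1 (hG : cond _ _ false = true)
  obtain ⟨h1, h1'⟩ := cond_false.1 h1
  obtain ⟨h, -, -, ys, hm, hl⟩ := j.exists_leaf hT h1 h2 g (fun q hq => by
    rw [hj, List.mem_singleton] at hq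
    subst hq
    exact e) (fun l hl => by
    obtain ⟨a, b⟩ := cond_false.1 (allL_iff.1 hc l hl)
    exact hS _ (Nat.le_of_ble_eq_true a) b)
  rcases t.sound hT hm h1' hl hinit with hq | ⟨w, hw, a1, a2, a3, a4⟩
  · exact Or.inl hq
  · exact Or.inr ⟨f h * g, w, hw, evc ys w, a2, a1, a3, a4⟩

omit hT in
theorem cin_top_of {i k : Nat} (h : K f i k) : CIn (⊤ : Subgroup G) (f (rep i)) (f (rep k)) := cIn_top.2 h

theorem no_sepB {k : Nat} (hk : k = 1 ∨ k = 2 ∨ k = 3 ∨ k = 4) {g : G}
    (e : g * f 449 * g⁻¹ = f (rep k))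
    (hS : ∀ a, a < 512 → com a 449 = true → g * f a * g⁻¹ ∈ (S : Subgroup G)) : False := by
  obtain ⟨r0, r1, r2, r3, r4, -⟩ := rep_vals
  rcases hk with rfl | rfl | rfl | rfl
  · rw [r1] at e
    rcases ok_sepB_449_8.use1 hT rfl (by decide +kernel) e hS (by simp [test_sepB_449_8]) with
      ⟨q, hq, -⟩ | ⟨-, w, hw, -⟩
    · simp [test_sepB_449_8] at hq
    · simp [test_sepB_449_8] at hw
  · rw [r2] at e
    rcases ok_sepB_449_2.use1 hT rfl (by decide +kernel) e hS (by simp [test_sepB_449_2]) with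
      ⟨q, hq, -⟩ | ⟨-, w, hw, -⟩
    · simp [test_sepB_449_2] at hq
    · simp [test_sepB_449_2] at hw
  · rw [r3] at e
    rcases ok_sepB_449_32.use1 hT rfl (by decide +kernel) e hS (by simp [test_sepB_449_32]) with
      ⟨q, hq, -⟩ | ⟨-, w, hw, -⟩
    · simp [test_sepB_449_32] at hq
    · simp [test_sepB_449_32] at hw
  · rw [r4] at e
    rcases ok_sepB_449_448.use1 hT rfl (by decide +kernel) e hS (by simp [test_sepB_449_448]) with
      ⟨q, hq, -⟩ | ⟨-, w, hw, -⟩
    · simp [test_sepB_449_448] at hq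
    · simp [test_sepB_449_448] at hw

/-- The class of `449` is not fused to one with a larger or equal centralizer. -/
theorem not_five {k : Nat} (hk1 : 1 ≤ k) (hk4 : k ≤ 4) : ¬ K f 5 k := by
  intro h5
  obtain ⟨r0, r1, r2, r3, r4, r5, -⟩ := rep_vals
  obtain ⟨g, -, i, hi1, hi, e, hS, hmax⟩ := exists_ext_rep hT (H := ⊤) le_top (x := rep 5) (rep_lt 5)
    (rep_sq 5 (by omega)).1 (by rw [r5]; norm_num)
  have h1 : num (rep k) ≤ num (rep i) := hmax _ (rep_lt k) (cin_top_of h5)
  rw [num_rep k (by omega), num_rep i hi] at h1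
  have hi5 : i ≤ 5 := by
    by_contra hh
    interval_cases k <;> interval_cases i <;> simp at h1
  rcases Nat.lt_or_ge i 5 with hlt | hge
  · rw [r5] at e hS
    exact no_sepB hT (by omega) e hS
  obtain rfl : i = 5 := by omega
  have hk : k = 4 := by
    interval_cases k <;> simp at h1 ⊢
  subst hk
  obtain ⟨g', -, e', hS'⟩ := exists_to_rep hT (H := ⊤) le_top (i := 4) (k := 5) (by omega) (by omega)
    (cin_top_of h5.symm) fun c hc hcc => hmax _ (rep_lt c) ((cin_top_of h5).trans hcc)
  rw [r4, r5] at e'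
  rw [r4] at hS'
  rcases ok_sepB_448_449.use1 hT rfl (by decide +kernel) e' hS' (by simp [test_sepB_448_449]) with
    ⟨q, hq, -⟩ | ⟨-, w, hw, -⟩
  · simp [test_sepB_448_449] at hq
  · simp [test_sepB_448_449] at hw

/-- A forbidden goal is absurd. -/
theorem forb {q : Nat × Nat} (hq : q ∈ [(5, 1), (5, 2), (5, 3), (5, 4)]) : ¬ K f q.1 q.2 := by
  simp only [List.mem_cons, List.not_mem_nil, or_false] at hq
  rcases hq with rfl | rfl | rfl | rfl <;> exact not_five hT (by norm_num) (by norm_num)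

omit [Finite G] hT in
theorem shift_lt {a : Nat} (ha : a < 512) : Nat.shiftRight a 6 < 8 := by
  show a >>> 6 < 8
  rw [Nat.shiftRight_eq_div_pow]
  omega

/-- The homocyclic subgroup is the only abelian subgroup of order 64 of the Sylow subgroup. -/
theorem eq_sA {B : Subgroup G} (hB : B ≤ (S : Subgroup G)) (hab : ∀ x ∈ B, ∀ y ∈ B, x * y = y * x)
    (hcard : Nat.card B = 64) : B = hT.sA := by
  classical
  refine eq_of_le_of_card_ge (fun x hx => ?_) (by rw [hT.card_sA, hcard])
  by_contra hxA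
  obtain ⟨c, hc, rfl⟩ := hT.surj x (hB hx)
  have hc64 : 64 ≤ c := by
    by_contra h
    exact hxA ⟨c, hc, Nat.ble_eq_true_of_le (by omega : c + 1 ≤ 64), rfl⟩
  set Bc := ((Finset.range 512).filter fun a => f a ∈ B) with hBc
  have hBcard : Bc.card = 64 := by
    rw [← hcard, ← Fintype.card_coe, ← Nat.card_eq_fintype_card]
    refine Nat.card_congr (Equiv.ofBijective (fun a : Bc => (⟨f a.1, (Finset.mem_filter.1 a.2).2⟩ : B)) ⟨?_, ?_⟩)
    · intro a b h
      exact Subtype.ext (hT.inj _ _ (Finset.mem_range.1 (Finset.mem_filter.1 a.2).1)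
        (Finset.mem_range.1 (Finset.mem_filter.1 b.2).1) (congrArg Subtype.val h :))
    · rintro ⟨y, hy⟩
      obtain ⟨b, hb, rfl⟩ := hT.surj y (hB hy)
      exact ⟨⟨b, Finset.mem_filter.2 ⟨Finset.mem_range.2 hb, hy⟩⟩, rfl⟩
  have hfib : ∀ a ∈ Bc, a < 512 ∧ f a ∈ B := fun a ha =>
    ⟨Finset.mem_range.1 (Finset.mem_filter.1 ha).1, (Finset.mem_filter.1 ha).2⟩
  -- every fibre over a coset of `A` has at most eight points
  have hle : ∀ i ∈ Finset.range 8, (Bc.filter fun a => Nat.shiftRight a 6 = i).card ≤ 8 := by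
    intro i hi
    rcases Finset.eq_empty_or_nonempty (Bc.filter fun a => Nat.shiftRight a 6 = i) with h | ⟨b, hb⟩
    · rw [h, Finset.card_empty]; exact Nat.zero_le _
    obtain ⟨hbB, hbi⟩ := Finset.mem_filter.1 hb
    obtain ⟨hb512, hbm⟩ := hfib b hbB
    have hcs := shift_lt hc
    have hsm : ((List.range 64).filter fun a => com a (64 * Nat.shiftRight c 6)).length ≤ 8 := by
      have h := List.all_eq_true.1 cA_small (Nat.shiftRight c 6 - 1) (List.mem_range.2 (by
        show c >>> 6 - 1 < 7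
        rw [Nat.shiftRight_eq_div_pow]; omega))
      rw [Nat.ble_eq, show Nat.shiftRight c 6 - 1 + 1 = Nat.shiftRight c 6 by
        show c >>> 6 - 1 + 1 = c >>> 6
        rw [Nat.shiftRight_eq_div_pow]; omega] at h
      exact h
    refine le_trans ?_ hsm
    rw [← List.toFinset_card_of_nodup (List.nodup_range.filter _)]
    refine Finset.card_le_card_of_injOn (fun a => mm (iv b) a) (fun a ha => ?_) (fun a ha a' ha' h => ?_)
    · obtain ⟨haB, hai⟩ := Finset.mem_filter.1 ha
      obtain ⟨ha512, ham⟩ := hfib a haB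
      have hlt : mm (iv b) a < 64 := by
        have := of_allC (of_allC (by decide +kernel : allC (fun b => allC fun a =>
          cond (Nat.beq (Nat.shiftRight a 6) (Nat.shiftRight b 6)) (Nat.blt (mm (iv b) a) 64) true) = true) b hb512) a ha512
        rw [show Nat.beq (Nat.shiftRight a 6) (Nat.shiftRight b 6) = true by rw [Nat.beq_eq, hai, hbi], cond_true] at this
        exact Nat.le_of_ble_eq_true this
      have hm : f (mm (iv b) a) ∈ B := by
        rw [hT.mul _ _ (mm_zero hb512).2.2.1 ha512, hT.map_iv hb512]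
        exact mul_mem (inv_mem hbm) ham
      have h1 : com (mm (iv b) a) c = true :=
        (hT.com_iff (by omega) hc).2 (hab _ hm _ hx)
      have h2 := of_allC (of_allC (by decide +kernel : allC (fun c => allC fun d =>
        cond (cond (Nat.blt d 64) (com d c) false) (com d (64 * Nat.shiftRight c 6)) true) = true) c hc) (mm (iv b) a) (mm_lt _ _)
      rw [show Nat.blt (mm (iv b) a) 64 = true from Nat.ble_eq_true_of_le hlt, cond_true, h1, cond_true] at h2
      exact List.mem_toFinset.2 (List.mem_filter.2 ⟨List.mem_range.2 hlt, h2⟩)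
    · obtain ⟨ha512, -⟩ := hfib a (Finset.mem_filter.1 (Finset.mem_coe.1 ha)).1
      obtain ⟨ha512', -⟩ := hfib a' (Finset.mem_filter.1 (Finset.mem_coe.1 ha')).1
      refine hT.inj _ _ ha512 ha512' ?_
      have := congrArg f (h : mm (iv b) a = mm (iv b) a')
      rw [hT.mul _ _ (mm_zero hb512).2.2.1 ha512, hT.mul _ _ (mm_zero hb512).2.2.1 ha512'] at this
      exact mul_left_cancel this
  have hmaps : ∀ a ∈ Bc, Nat.shiftRight a 6 ∈ Finset.range 8 := fun a ha =>
    Finset.mem_range.2 (shift_lt (hfib a ha).1)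
  -- hence every coset is met
  have hne : ∀ i, i < 8 → ∃ a, a ∈ Bc ∧ Nat.shiftRight a 6 = i := by
    intro i hi
    by_contra hno
    push Not at hno
    have hsum := Finset.card_eq_sum_card_fiberwise hmaps
    have hzero : (Bc.filter fun a => Nat.shiftRight a 6 = i).card = 0 := by
      rw [Finset.card_eq_zero, Finset.filter_eq_empty_iff]
      exact fun a ha => hno a ha
    rw [hBcard, Finset.range_eq_Ico, ← Finset.add_sum_erase _ _ (Finset.mem_Ico.2 ⟨Nat.zero_le i, hi⟩), hzero,
      zero_add] at hsum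
    have h56 := Finset.sum_le_card_nsmul ((Finset.Ico 0 8).erase i) _ 8 fun j hj =>
      hle j (by rw [Finset.range_eq_Ico]; exact Finset.mem_of_mem_erase hj)
    rw [Finset.card_erase_of_mem (Finset.mem_Ico.2 ⟨Nat.zero_le i, hi⟩), Nat.card_Ico, smul_eq_mul, ← hsum] at h56
    norm_num at h56
  -- so `S / A` would be abelian
  have hdm : ∀ i j, i < 8 → j < 8 → dm i j = dm j i := by
    intro i j hi hj
    obtain ⟨a, ha, rfl⟩ := hne i hi
    obtain ⟨b, hb, rfl⟩ := hne j hj
    obtain ⟨ha512, ham⟩ := hfib a ha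
    obtain ⟨hb512, hbm⟩ := hfib b hb
    have e : mm a b = mm b a := by
      refine hT.inj _ _ (mm_lt _ _) (mm_lt _ _) ?_
      rw [hT.mul _ _ ha512 hb512, hT.mul _ _ hb512 ha512]
      exact hab _ ham _ hbm
    have e' := congrArg (fun x => x / 64) e
    simp only [mm] at e'
    have h1 := vad_lt (Nat.land a 63) (act (Nat.shiftRight a 6) (Nat.land b 63))
    have h2 := vad_lt (Nat.land b 63) (act (Nat.shiftRight b 6) (Nat.land a 63))
    simp only [Nat.add_eq, Nat.mul_eq] at e'
    omega
  rcases dm_noncomm with h | h <;> exact h (hdm _ _ (by norm_num) (by norm_num))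

/-- The homocyclic subgroup is commutative. -/
theorem sA_comm : ∀ x ∈ hT.sA, ∀ y ∈ hT.sA, x * y = y * x := by
  rintro _ ⟨a, ha, pa, rfl⟩ _ ⟨b, hb, pb, rfl⟩
  have h := of_allC (of_allC (by decide +kernel : allC (fun a => allC fun b =>
    cond (inA a) (cond (inA b) (com a b) true) true) = true) a ha) b hb
  rw [pa, cond_true, pb, cond_true] at h
  exact (hT.com_iff ha hb).1 h

/-- An element carrying `A` into `S` normalizes it. -/
theorem mem_normalizer_sA {g : G} (h : ∀ x ∈ hT.sA, g * x * g⁻¹ ∈ (S : Subgroup G)) :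
    g ∈ normalizer (hT.sA : Set G) := by
  have he : cj g hT.sA = hT.sA := by
    refine eq_sA hT ?_ ?_ (by rw [card_cj, hT.card_sA])
    · rintro _ ⟨x, hx, rfl⟩
      exact h x hx
    · rintro _ ⟨x, hx, rfl⟩ _ ⟨y, hy, rfl⟩
      show g * x * g⁻¹ * (g * y * g⁻¹) = g * y * g⁻¹ * (g * x * g⁻¹)
      rw [show g * x * g⁻¹ * (g * y * g⁻¹) = g * (x * y) * g⁻¹ by group, sA_comm hT x hx y hy]
      group
  refine mem_normalizer_iff.2 fun x => ⟨fun hx => ?_, fun hx => ?_⟩
  · rw [← he]
    exact conj_mem_cj.2 hx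
  · rw [← he] at hx
    exact conj_mem_cj.1 hx

/-- Burnside: conjugate elements of `A` are conjugate in its normalizer. -/
theorem conj_in_normalizer {a b : Nat} (ha : a < 64) (hb : b < 64) (h : IsConj (f a) (f b)) :
    ∃ n ∈ normalizer (hT.sA : Set G), n * f a * n⁻¹ = f b := by
  obtain ⟨g, hg⟩ := isConj_iff.1 h
  haveI : Fact (Nat.Prime 2) := ⟨Nat.prime_two⟩
  set H := centralizer ({f b} : Set G) with hH
  have hAp : IsPGroup 2 hT.sA := S.2.to_le hT.sub_le
  have hAH : hT.sA ≤ H := fun x hx => mem_centralizer_singleton_iff.2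
    (sA_comm hT x hx _ ⟨b, by omega, Nat.ble_eq_true_of_le hb, rfl⟩)
  have hgH : cj g hT.sA ≤ H := by
    rintro _ ⟨x, hx, rfl⟩
    refine mem_centralizer_singleton_iff.2 ?_
    show g * x * g⁻¹ * f b = f b * (g * x * g⁻¹)
    rw [← hg, show g * x * g⁻¹ * (g * f a * g⁻¹) = g * (x * f a) * g⁻¹ by group,
      sA_comm hT x hx _ ⟨a, by omega, Nat.ble_eq_true_of_le ha, rfl⟩]
    group
  obtain ⟨P, hP⟩ := (hAp.of_equiv (subgroupOfEquivOfLe hAH).symm : IsPGroup 2 (hT.sA.subgroupOf H)).exists_le_sylow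
  obtain ⟨c, hc⟩ := exists_cj_le P (P := (cj g hT.sA).subgroupOf H)
    ((hAp.map _).of_equiv (subgroupOfEquivOfLe hgH).symm)
  obtain ⟨k, hk⟩ := exists_cj_le S (P := (P : Subgroup H).map H.subtype) (P.2.map _)
  have hkS : ∀ p ∈ (P : Subgroup H), k * (p : G) * k⁻¹ ∈ (S : Subgroup G) := fun p hp =>
    hk (conj_mem_cj.2 ⟨p, hp, rfl⟩)
  have h1 : k ∈ normalizer (hT.sA : Set G) := mem_normalizer_sA hT fun x hx => hkS ⟨x, hAH hx⟩ (hP hx)
  have h2 : k * (c : G) * g ∈ normalizer (hT.sA : Set G) := mem_normalizer_sA hT fun x hx => by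
    have h' := hkS _ (hc (conj_mem_cj.2 (show (⟨g * x * g⁻¹, hgH ⟨x, hx, rfl⟩⟩ : H) ∈ (cj g hT.sA).subgroupOf H
      from ⟨x, hx, rfl⟩)))
    rw [show k * (c : G) * g * x * (k * (c : G) * g)⁻¹ = k * ((c : G) * (g * x * g⁻¹) * (c : G)⁻¹) * k⁻¹ by group]
    exact h'
  refine ⟨(c : G) * g, by simpa [mul_assoc] using mul_mem (inv_mem h1) h2, ?_⟩
  rw [show (c : G) * g * f a * ((c : G) * g)⁻¹ = c * (g * f a * g⁻¹) * (c : G)⁻¹ by group, hg,
    mem_centralizer_singleton_iff.1 c.2, mul_inv_cancel_right]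

variable [IsSimpleGroup G]

theorem center_bot : Subgroup.center G = ⊥ := by
  rcases IsSimpleGroup.eq_bot_or_eq_top_of_normal (Subgroup.center G) inferInstance with h | h
  · exact h
  · exfalso
    obtain ⟨hne⟩ : PLift (mm 4 64 ≠ mm 64 4 ∨ mm 1 64 ≠ mm 64 1) := ⟨by decide +kernel⟩
    have hc : ∀ a b, a < 512 → b < 512 → mm a b = mm b a := fun a b ha hb => by
      apply hT.inj _ _ (mm_lt _ _) (mm_lt _ _)
      rw [hT.mul _ _ ha hb, hT.mul _ _ hb ha]
      exact ((mem_center_iff.1 (h ▸ mem_top (f a))) (f b)).symm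
    rcases hne with hne | hne <;> exact hne (hc _ _ (by norm_num) (by norm_num))

/-- The central involution is fused to the second class. -/
theorem one_two : K f 1 2 := by
  classical
  obtain ⟨r0, r1, r2, r3, r4, r5, r6, r7, r8, r9⟩ := rep_vals
  have ht2 : orderOf (f 8) = 2 := orderOf_eq_prime (by
    rw [pow_two, hT.sq_eq_one_iff (by norm_num)]; decide +kernel)
    fun h => by simp [(hT.eq_one_iff (a := 8) (by norm_num))] at h
  by_contra hcon
  have hiso : ∀ g : G, g * f 8 * g⁻¹ ∈ (S : Subgroup G) → g * f 8 * g⁻¹ = f 8 := by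
    intro g hg
    by_contra hne
    obtain ⟨a, ha, ea⟩ := hT.surj _ hg
    have hca : CIn (⊤ : Subgroup G) (f 8) (f a) := ⟨g, mem_top g, ea.symm⟩
    obtain ⟨hc, -⟩ := cls_lt ha (mm_of_cin hT (by norm_num) (by decide +kernel) ha hca)
    have hK : K f 1 (cls a) := by
      have := hca.trans (cls_conj hT le_top ha hc)
      rw [← r1] at this
      exact cIn_top.1 this
    have hc1 : cls a ≠ 1 := fun h => by
      have := of_allC (by decide +kernel : allC (fun a => cond (Nat.beq (cls a) 1) (Nat.beq a 8) true) = true) a ha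
      rw [h] at this
      exact hne (by rw [← ea, Nat.eq_of_beq_eq_true (this : Nat.beq a 8 = true)])
    have hc0 : cls a ≠ 0 := fun h => by
      rw [h] at hK
      unfold K at hK
      rw [r0, r1, hT.map_zero] at hK
      obtain ⟨u, hu⟩ := isConj_iff.1 hK.symm
      rw [mul_one, mul_inv_cancel] at hu
      exact absurd ((hT.eq_one_iff (by norm_num)).1 hu.symm) (by norm_num)
    obtain ⟨g', -, e', hS'⟩ := exists_to_rep hT (H := ⊤) le_top (i := cls a) (k := 1) hc (by omega)
      (cin_top_of hK.symm) fun c hc' _ => by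
        rw [num_rep 1 (by omega), num_rep c hc']
        interval_cases c <;> simp
    rw [r1] at e'
    interval_cases h : cls a
    · exact hc0 rfl
    · exact hc1 rfl
    · exact hcon hK
    · rw [r3] at e' hS'
      rcases ok_toV_32_8.use1 hT rfl (by decide +kernel) e' hS' (by simp [test_toV_32_8]) with
        ⟨q, hq, hKq⟩ | ⟨u, w, hw, y, hy, -, e, hy2⟩
      · exact forb hT hq hKq
      · have hw8 : evc job_toV_32_8.ws w = 8 := Nat.eq_of_beq_eq_true (allL_iff.1
          (by decide +kernel : allL test_toV_32_8.extra (fun w => Nat.beq (evc job_toV_32_8.ws w) 8) = true) w hw)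
        have hcy : cls y = 2 := List.mem_singleton.1 hy2
        exact hcon (IsConj.trans (b := f y) (isConj_iff.2 ⟨u, by rw [r1, ← hw8]; exact e⟩)
          (hcy ▸ isConj_rep hT hy (by omega)))
    · rw [r4] at e' hS'
      rcases ok_toV_448_8.use1 hT rfl (by decide +kernel) e' hS' (by simp [test_toV_448_8]) with
        ⟨q, hq, hKq⟩ | ⟨u, w, hw, y, hy, -, e, hy2⟩
      · exact forb hT hq hKq
      · have hw8 : evc job_toV_448_8.ws w = 8 := Nat.eq_of_beq_eq_true (allL_iff.1
          (by decide +kernel : allL test_toV_448_8.extra (fun w => Nat.beq (evc job_toV_448_8.ws w) 8) = true) w hw)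
        have hcy : cls y = 2 := List.mem_singleton.1 hy2
        exact hcon (IsConj.trans (b := f y) (isConj_iff.2 ⟨u, by rw [r1, ← hw8]; exact e⟩)
          (hcy ▸ isConj_rep hT hy (by omega)))
    · exact not_five hT le_rfl (by norm_num) hK.symm
    · rw [r6] at e' hS'
      rcases ok_toT_64_8.use1 hT rfl (by decide +kernel) e' hS' (by simp [test_toT_64_8]) with
        ⟨q, hq, hKq⟩ | ⟨-, w, hw, -⟩
      · rcases List.mem_append.1 (show q ∈ [(5, 1), (5, 2), (5, 3), (5, 4)] ++ [(1, 2)] from hq) with h' | h'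
        · exact forb hT h' hKq
        · rw [List.mem_singleton] at h'
          exact hcon (by rw [h'] at hKq; exact hKq)
      · simp [test_toT_64_8] at hw
    · rw [r7] at e' hS'
      rcases ok_toT_65_8.use1 hT rfl (by decide +kernel) e' hS' (by simp [test_toT_65_8]) with
        ⟨q, hq, hKq⟩ | ⟨-, w, hw, -⟩
      · rcases List.mem_append.1 (show q ∈ [(5, 1), (5, 2), (5, 3), (5, 4)] ++ [(1, 2)] from hq) with h' | h'
        · exact forb hT h' hKq
        · rw [List.mem_singleton] at h'
          exact hcon (by rw [h'] at hKq; exact hKq)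
      · simp [test_toT_65_8] at hw
    · rw [r8] at e' hS'
      rcases ok_toV_128_8.use1 hT rfl (by decide +kernel) e' hS' (by simp [test_toV_128_8]) with
        ⟨q, hq, hKq⟩ | ⟨u, w, hw, y, hy, -, e, hy2⟩
      · exact forb hT hq hKq
      · have hw8 : evc job_toV_128_8.ws w = 8 := Nat.eq_of_beq_eq_true (allL_iff.1
          (by decide +kernel : allL test_toV_128_8.extra (fun w => Nat.beq (evc job_toV_128_8.ws w) 8) = true) w hw)
        have hcy : cls y = 2 := List.mem_singleton.1 hy2
        exact hcon (IsConj.trans (b := f y) (isConj_iff.2 ⟨u, by rw [r1, ← hw8]; exact e⟩)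
          (hcy ▸ isConj_rep hT hy (by omega)))
    · rw [r9] at e' hS'
      rcases ok_toT_145_8.use1 hT rfl (by decide +kernel) e' hS' (by simp [test_toT_145_8]) with
        ⟨q, hq, hKq⟩ | ⟨-, w, hw, -⟩
      · rcases List.mem_append.1 (show q ∈ [(5, 1), (5, 2), (5, 3), (5, 4)] ++ [(1, 2)] from hq) with h' | h'
        · exact forb hT h' hKq
        · rw [List.mem_singleton] at h'
          exact hcon (by rw [h'] at hKq; exact hKq)
      · simp [test_toT_145_8] at hw
  obtain ⟨N, hN, hodd, hNc⟩ := ZStar.zstar_of_sylow S ht2 hiso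
  have hNbot : N = ⊥ := by
    rcases IsSimpleGroup.eq_bot_or_eq_top_of_normal N hN with h | h
    · exact h
    · exfalso
      rw [h, Nat.odd_iff, Subgroup.card_top] at hodd
      have : 2 ∣ Nat.card G := (dvd_trans (by norm_num : 2 ∣ 512) (hT.card_eq ▸ Subgroup.card_subgroup_dvd_card _))
      omega
  have hmem : f 8 ∈ Subgroup.center G := mem_center_iff.2 fun g => by
    have := hNc g
    rw [hNbot, mem_bot, mul_inv_eq_one, mul_inv_eq_iff_eq_mul] at this
    exact this.symm
  rw [center_bot hT, mem_bot, hT.eq_one_iff (by norm_num)] at hmem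
  exact absurd hmem (by norm_num)

theorem init_one_two : ∀ q ∈ [((1 : Nat), (2 : Nat))], K f q.1 q.2 := fun q hq => by
  rw [List.mem_singleton] at hq
  subst hq
  exact one_two hT

/-- A leaf with goals among forbidden ones and `(1, 3)`. -/
theorem three_of {q : Nat × Nat} (hq : q ∈ [(5, 1), (5, 2), (5, 3), (5, 4), (1, 3)]) (h : K f q.1 q.2) : K f 1 3 := by
  rcases List.mem_append.1 (show q ∈ [(5, 1), (5, 2), (5, 3), (5, 4)] ++ [(1, 3)] from hq) with h' | h'
  · exact absurd h (forb hT h')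
  · rw [List.mem_singleton] at h'
    subst h'
    exact h

/-- A transfer gives an involution of a class other than the last fused to the last one. -/
theorem transfer_nine : ∃ k, 1 ≤ k ∧ k < 9 ∧ K f 9 k := by
  obtain ⟨r0, r1, r2, r3, r4, r5, r6, r7, r8, r9⟩ := rep_vals
  set M := hT.sub inM (closedC_spec closed_M).1 (closedC_spec closed_M).2.1 (closedC_spec closed_M).2.2 with hM
  have hidx : M.relIndex (S : Subgroup G) = 2 := by
    have h := (M.subgroupOf (S : Subgroup G)).card_mul_index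
    rw [Nat.card_congr (subgroupOfEquivOfLe hT.sub_le).toEquiv, hT.card_sub, count_M.1, hT.card_eq] at h
    rw [relIndex]
    omega
  have h145 : (f 145) * (f 145) = 1 := (hT.sq_eq_one_iff (by norm_num)).2 (by decide +kernel)
  rcases ThompsonTransfer.thompson_transfer (S : Subgroup G) M
    (Nat.odd_iff.2 (Nat.two_dvd_ne_zero.1 S.not_dvd_index)) hidx h145 with ⟨N, hN, hNi, -⟩ | ⟨g, a, ha, pa, ea⟩
  · exfalso
    rcases IsSimpleGroup.eq_bot_or_eq_top_of_normal N hN with h | h
    · rw [h, Subgroup.index_bot] at hNi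
      have := hT.card_eq ▸ Subgroup.card_subgroup_dvd_card (S : Subgroup G)
      have := Nat.le_of_dvd Nat.card_pos this
      omega
    · rw [h, Subgroup.index_top] at hNi
      omega
  · have hca : CIn (⊤ : Subgroup G) (f 145) (f a) := ⟨g, mem_top g, ea.symm⟩
    obtain ⟨hc, -⟩ := cls_lt ha (mm_of_cin hT (by norm_num) (by decide +kernel) ha hca)
    have hK : K f 9 (cls a) := by
      have := hca.trans (cls_conj hT le_top ha hc)
      rw [← r9] at this
      exact cIn_top.1 this
    refine ⟨cls a, Nat.pos_of_ne_zero fun h0 => ?_, ?_, hK⟩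
    · rw [h0] at hK
      unfold K at hK
      rw [r0, r9, hT.map_zero] at hK
      obtain ⟨u, hu⟩ := isConj_iff.1 hK.symm
      rw [mul_one, mul_inv_cancel] at hu
      exact absurd ((hT.eq_one_iff (by norm_num)).1 hu.symm) (by norm_num)
    · refine Nat.lt_of_le_of_ne (by omega) fun h9 => ?_
      have := of_allC cls_notM a ha
      rw [h9, pa] at this
      exact absurd this (by decide)

/-- The second class is fused to the third. -/
theorem one_three : K f 1 3 := by
  obtain ⟨r0, r1, r2, r3, r4, r5, r6, r7, r8, r9⟩ := rep_vals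
  obtain ⟨k, hk1, hk9, hK⟩ := transfer_nine hT
  obtain ⟨g, -, i, hi1, hi, e, hS, hmax⟩ := exists_ext_rep hT (H := ⊤) le_top (x := rep 9) (rep_lt 9)
    (rep_sq 9 (by omega)).1 (by rw [r9]; norm_num)
  rw [r9] at e hS
  rcases Nat.lt_or_ge i 6 with hlt | hge
  · interval_cases i
    · rw [r1] at e
      rcases ok_tr145_145_8.use1 hT rfl (by decide +kernel) e hS (init_one_two hT) with ⟨q, hq, hq'⟩ | ⟨-, w, hw, -⟩
      · exact three_of hT hq hq'
      · simp [test_tr145_145_8] at hw
    · rw [r2] at e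
      rcases ok_tr145_145_2.use1 hT rfl (by decide +kernel) e hS (init_one_two hT) with ⟨q, hq, hq'⟩ | ⟨-, w, hw, -⟩
      · exact three_of hT hq hq'
      · simp [test_tr145_145_2] at hw
    · rw [r3] at e
      rcases ok_tr145_145_32.use1 hT rfl (by decide +kernel) e hS (init_one_two hT) with ⟨q, hq, hq'⟩ | ⟨-, w, hw, -⟩
      · exact three_of hT hq hq'
      · simp [test_tr145_145_32] at hw
    · rw [r4] at e
      rcases ok_tr145_145_448.use1 hT rfl (by decide +kernel) e hS (init_one_two hT) with ⟨q, hq, hq'⟩ | ⟨-, w, hw, -⟩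
      · exact three_of hT hq hq'
      · simp [test_tr145_145_448] at hw
    · rw [r5] at e
      rcases ok_tr145_145_449.use1 hT rfl (by decide +kernel) e hS (init_one_two hT) with ⟨q, hq, hq'⟩ | ⟨-, w, hw, -⟩
      · exact three_of hT hq hq'
      · simp [test_tr145_145_449] at hw
  · have hb : ∀ c, c < 10 → CIn (⊤ : Subgroup G) (f (rep 9)) (f (rep c)) → num (rep c) ≤ 32 := fun c hc hcc => by
      have := hmax _ (rep_lt c) hcc
      rw [num_rep i hi] at this
      interval_cases i <;> simpa using this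
    have hk6 : 6 ≤ k := by
      by_contra hh
      have := hb k (by omega) (cin_top_of hK)
      rw [num_rep k (by omega)] at this
      interval_cases k <;> simp at this
    obtain ⟨g', -, e', hS'⟩ := exists_to_rep hT (H := ⊤) le_top (i := 9) (k := k) (by omega) (by omega)
      (cin_top_of hK) fun c hc hcc => (hb c hc hcc).trans (le_of_eq (by
        rw [num_rep k (by omega)]; interval_cases k <;> rfl))
    rw [r9] at e' hS'
    interval_cases k
    · rw [r6] at e'
      rcases ok_tr145_145_64.use1 hT rfl (by decide +kernel) e' hS' (init_one_two hT) with ⟨q, hq, hq'⟩ | ⟨-, w, hw, -⟩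
      · exact three_of hT hq hq'
      · simp [test_tr145_145_64] at hw
    · rw [r7] at e'
      rcases ok_tr145_145_65.use1 hT rfl (by decide +kernel) e' hS' (init_one_two hT) with ⟨q, hq, hq'⟩ | ⟨-, w, hw, -⟩
      · exact three_of hT hq hq'
      · simp [test_tr145_145_65] at hw
    · rw [r8] at e'
      rcases ok_tr145_145_128.use1 hT rfl (by decide +kernel) e' hS' (init_one_two hT) with ⟨q, hq, hq'⟩ | ⟨-, w, hw, -⟩
      · exact three_of hT hq hq'
      · simp [test_tr145_145_128] at hw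

theorem init_two_three : ∀ q ∈ [((1 : Nat), (2 : Nat)), (2, 3)], K f q.1 q.2 := fun q hq => by
  simp only [List.mem_cons, List.not_mem_nil, or_false] at hq
  rcases hq with rfl | rfl
  · exact one_two hT
  · exact (one_two hT).symm.trans (one_three hT)

/-- The class of `128` is not fused to that of `449`. -/
theorem not_eight_five : ¬ K f 8 5 := by
  intro h85
  obtain ⟨r0, r1, r2, r3, r4, r5, r6, r7, r8, r9⟩ := rep_vals
  obtain ⟨g, -, e, hS⟩ := exists_to_rep hT (H := ⊤) le_top (i := 8) (k := 5) (by omega) (by omega)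
    (cin_top_of h85) fun c hc hcc => by
      by_contra hh
      rw [num_rep c hc, num_rep 5 (by omega)] at hh
      have hc4 : 1 ≤ c ∧ c ≤ 4 ∨ c = 0 := by interval_cases c <;> simp at hh ⊢
      rcases hc4 with hc4 | rfl
      · exact not_five hT hc4.1 hc4.2 (h85.symm.trans (cIn_top.1 hcc))
      · obtain ⟨u, -, hu⟩ := hcc
        rw [r0, r8, hT.map_zero, mul_inv_eq_one, mul_eq_left] at hu
        exact absurd ((hT.eq_one_iff (by norm_num)).1 hu) (by norm_num)
  rw [r5, r8] at e
  rw [r8] at hS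
  rcases ok_sep128_128_449.use1 hT rfl (by decide +kernel) e hS (by simp [test_sep128_128_449]) with
    ⟨q, hq, hq'⟩ | ⟨-, w, hw, -⟩
  · exact forb hT hq hq'
  · simp [test_sep128_128_449] at hw

/-- The last class is not fused to a class of the core. -/
theorem not_nine {k : Nat} (hk : 1 ≤ k) (hk8 : k ≤ 4 ∨ k = 8) : ¬ K f 9 k := by
  intro hK
  obtain ⟨r0, r1, r2, r3, r4, r5, r6, r7, r8, r9⟩ := rep_vals
  obtain ⟨g, -, i, hi1, hi, e, hS, hmax⟩ := exists_ext_rep hT (H := ⊤) le_top (x := rep 9) (rep_lt 9)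
    (rep_sq 9 (by omega)).1 (by rw [r9]; norm_num)
  have hKi : K f 9 i := isConj_iff.2 ⟨g, e⟩
  have hi5 : i ≠ 5 := fun h5 => by
    subst h5
    rcases hk8 with h4 | rfl
    · exact not_five hT hk h4 (hKi.symm.trans hK)
    · exact not_eight_five hT (hK.symm.trans hKi)
  rw [r9] at e hS
  rcases Nat.lt_or_ge i 5 with hlt | hge
  · interval_cases i
    · rw [r1] at e
      rcases ok_sep145_145_8.use1 hT rfl (by decide +kernel) e hS (init_two_three hT) with ⟨q, hq, hq'⟩ | ⟨-, w, hw, -⟩
      · exact forb hT hq hq'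
      · simp [test_sep145_145_8] at hw
    · rw [r2] at e
      rcases ok_sep145_145_2.use1 hT rfl (by decide +kernel) e hS (init_two_three hT) with ⟨q, hq, hq'⟩ | ⟨-, w, hw, -⟩
      · exact forb hT hq hq'
      · simp [test_sep145_145_2] at hw
    · rw [r3] at e
      rcases ok_sep145_145_32.use1 hT rfl (by decide +kernel) e hS (init_two_three hT) with ⟨q, hq, hq'⟩ | ⟨-, w, hw, -⟩
      · exact forb hT hq hq'
      · simp [test_sep145_145_32] at hw
    · rw [r4] at e
      rcases ok_sep145_145_448.use1 hT rfl (by decide +kernel) e hS (init_two_three hT) with ⟨q, hq, hq'⟩ | ⟨-, w, hw, -⟩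
      · exact forb hT hq hq'
      · simp [test_sep145_145_448] at hw
  · have hb : ∀ c, c < 10 → CIn (⊤ : Subgroup G) (f (rep 9)) (f (rep c)) → num (rep c) ≤ 32 := fun c hc hcc => by
      have := hmax _ (rep_lt c) hcc
      rw [num_rep i hi] at this
      interval_cases i <;> simp_all
    have hk' : k = 8 := by
      rcases hk8 with h4 | h
      · have := hb k (by omega) (cin_top_of hK)
        rw [num_rep k (by omega)] at this
        interval_cases k <;> simp at this
      · exact h
    subst hk'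
    obtain ⟨g', -, e', hS'⟩ := exists_to_rep hT (H := ⊤) le_top (i := 9) (k := 8) (by omega) (by omega)
      (cin_top_of hK) fun c hc hcc => (hb c hc hcc).trans (le_of_eq (by rw [num_rep 8 (by omega)]; rfl))
    rw [r9, r8] at e'
    rw [r9] at hS'
    rcases ok_sep145_145_128.use1 hT rfl (by decide +kernel) e' hS' (init_two_three hT) with ⟨q, hq, hq'⟩ | ⟨-, w, hw, -⟩
    · exact forb hT hq hq'
    · simp [test_sep145_145_128] at hw

/-- All involutions of `V` are fused to the central one in the normalizer of `A`. -/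
theorem fused_V (a : Nat) (ha : a < 512) (hV : inV a = true) (h0 : a ≠ 0) :
    ∃ n ∈ normalizer (hT.sA : Set G), n * f a * n⁻¹ = f tc := by
  have h := of_allC (by decide +kernel : allC (fun a => cond (cond (inV a) (!Nat.beq a 0) false)
    (cond (Nat.blt a 64) (cond (Nat.ble 1 (cls a)) (Nat.ble (cls a) 3) false) false) true) = true) a ha
  rw [hV, cond_true, show (!Nat.beq a 0) = true by
    rw [Bool.not_eq_true', Bool.eq_false_iff]; exact fun h => h0 (Nat.eq_of_beq_eq_true h), cond_true] at h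
  obtain ⟨h1, h⟩ := cond_false.1 h
  obtain ⟨h2, h3⟩ := cond_false.1 h
  have h2' := Nat.le_of_ble_eq_true h2
  have h3' := Nat.le_of_ble_eq_true h3
  refine conj_in_normalizer hT (Nat.le_of_ble_eq_true h1) (by norm_num [tc]) ?_
  refine (isConj_rep hT ha (by omega)).trans (show IsConj (f (rep (cls a))) (f tc) from ?_)
  interval_cases hc : cls a
  · rw [rep_vals.2.1]; exact IsConj.refl _
  · have := one_two hT
    unfold K at this
    rw [rep_vals.2.1] at this
    exact this.symm
  · have := one_three hT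
    unfold K at this
    rw [rep_vals.2.1] at this
    exact this.symm

end CfsgLib.HSSylow
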