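import Cfsg.Agent.HSSylow.Model
import Cfsg.Agent.HSSylow.CentCore
import Cfsg.Agent.HSSylow.Balance
import Cfsg.Agent.HSSylow.Finish

/-!
A simple group with a Sylow 2-subgroup of the type of that of the Higman–Sims group is the Higman–Sims group.
-/

set_option autoImplicit false
set_option maxRecDepth 100000
set_option linter.unusedSectionVars false
set_option linter.style.haveILetI false

namespace CfsgLib.HSSylow

open Subgroup CfsgLib.SylL34

/-- A simple group with a parametrised Sylow 2-subgroup of Higman–Sims type. -/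
theorem isoHS_of_tab {G : Type*} [Group G] [Finite G] [IsSimpleGroup G] (S : Sylow 2 G) {f : Nat → G}
    (hT : Tab (S : Subgroup G) f) : Cfsg.Spor.IsoHS G := by
  have hO : Oc (f 8) = ⊥ :=
    core_bot hT (fun g hg => cent_core hT hg) fun x _ hx => cent_R hT hx
  have hRn : centralizer ({f tc} : Set G) ≤ normalizer (hT.sR : Set G) := fun g hg => by
    obtain ⟨o, ho, n, hn, rfl⟩ := cent_core hT (g := g) hg
    rw [hO, mem_bot] at ho
    rw [ho, one_mul]
    exact hn.2
  have hcR : centralizer ({f tc} : Set G) ⊓ centralizer (hT.sR : Set G) ≤ hT.sR := fun x hx => by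
    obtain ⟨o, ho, z, ⟨a, ha, pa, rfl⟩, rfl⟩ := cent_R hT hx.2
    rw [hO, mem_bot] at ho
    rw [ho, one_mul]
    exact ⟨a, ha, (root_of_Z hT ha pa).2, rfl⟩
  have hmove : ∃ g ∈ centralizer ({f tc} : Set G), g ∉ normalizer (hT.sV : Set G) := by
    by_contra h
    push Not at h
    have htop := top_of_local hT (M := normalizer (hT.sV : Set G)) h le_rfl
    rcases IsSimpleGroup.eq_bot_or_eq_top_of_normal hT.sV (normalizer_eq_top_iff.1 htop) with e | e
    · have := hT.card_sV
      rw [e, Subgroup.card_bot] at this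
      omega
    · have h1 : Nat.card hT.sV ≤ 8 := hT.card_sV.le
      rw [e, Subgroup.card_top] at h1
      have h2 := Nat.le_of_dvd Nat.card_pos (hT.card_eq ▸ Subgroup.card_subgroup_dvd_card (S : Subgroup G))
      omega
  obtain ⟨π, hπ, hker⟩ := exists_hom hT hRn hcR hmove
  exact isoHS_of_local S hT hRn hcR π hπ hker fun a ha hV h0 => fused_V hT a ha hV h0

end CfsgLib.HSSylow
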