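import Cfsg.Agent.HSSylow.Table
import Cfsg.Agent.HSUniq.Classes

/-!
A group isomorphic to a Sylow 2-subgroup of the Higman–Sims group is parametrised by the code table.
-/

set_option autoImplicit false
set_option maxRecDepth 100000
set_option linter.style.haveILetI false

namespace CfsgLib.HSSylow

open Cfsg CfsgLib.Coset CfsgLib.HSUniq.Cls

/-- The nodes of the vectors. -/
def vecNodes : List Nat := [0, 211, 3180, 130, 4018, 17, 4, 561, 34, 204, 849, 136, 4024, 566, 3, 26, 2, 846, 2482, 36, 891, 6, 25, 1501, 203, 843, 142, 44, 924, 277, 24, 121, 13, 135, 1689, 205, 284, 27, 120, 888, 842, 129, 51, 212, 337, 1309, 119, 16, 1, 43, 2265, 844, 1312, 122, 15, 276, 128, 35, 216, 847, 1348, 1093, 14, 5]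

/-- The nodes of the complement. -/
def dihNodes : List Nat := [0, 297, 636, 6355, 6075, 4716, 48, 278]

/-- The node of a vector. -/
noncomputable def vn (v : Nat) : Nat := vecNodes.getD v 0

/-- The node of an element of the complement. -/
noncomputable def dn (i : Nat) : Nat := dihNodes.getD i 0

/-- The node of a code. -/
noncomputable def cn (a : Nat) : Nat := mulC (vn (Nat.land a 63)) (dn (Nat.shiftRight a 6))

theorem vn_ok : allBelow 6 64 (fun v => Nat.blt (vn v) 7680 &&
    allBelow 6 64 (fun w => Nat.beq (mulC (vn v) (vn w)) (vn (vad v w)))) = true := by decide +kernel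

theorem dn_ok : allBelow 3 8 (fun i => Nat.blt (dn i) 7680 &&
    allBelow 3 8 (fun j => Nat.beq (mulC (dn i) (dn j)) (dn (dm i j))) &&
    allBelow 6 64 (fun w => Nat.beq (mulC (dn i) (vn w)) (mulC (vn (act i w)) (dn i)))) = true := by
  decide +kernel

theorem cn_sep : allC (fun a => Nat.beq a 0 || !Nat.beq (cn a) 0) = true := by decide +kernel

theorem split_code {a : Nat} (ha : a < 512) : Nat.land a 63 < 64 ∧ Nat.shiftRight a 6 < 8 := by
  constructor
  · exact Nat.lt_succ_of_le Nat.and_le_right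
  · show a >>> 6 < 8
    rw [Nat.shiftRight_eq_div_pow]
    omega

theorem join_code (v i : Nat) (hv : v < 64) :
    Nat.land (v + 64 * i) 63 = v ∧ Nat.shiftRight (v + 64 * i) 6 = i := by
  constructor
  · show (v + 64 * i) &&& (2 ^ 6 - 1) = v
    rw [Nat.and_two_pow_sub_one_eq_mod]
    omega
  · show (v + 64 * i) >>> 6 = i
    rw [Nat.shiftRight_eq_div_pow]
    omega

/-- The element of a code. -/
noncomputable def fM (a : Nat) : M := el (vn (Nat.land a 63)) * el (dn (Nat.shiftRight a 6))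

theorem vn_spec {v w : Nat} (hv : v < 64) (hw : w < 64) :
    vn v < 7680 ∧ el (vn v) * el (vn w) = el (vn (vad v w)) := by
  have h1 := of_allBelow vn_ok v hv
  have h2 := of_allBelow vn_ok w hw
  simp only [Bool.and_eq_true, Nat.blt_eq] at h1 h2
  refine ⟨h1.1, ?_⟩
  rw [el_mul h1.1 h2.1, Nat.eq_of_beq_eq_true (of_allBelow h1.2 w hw)]

theorem act_lt (i w : Nat) : act i w < 64 := Nat.lt_succ_of_le Nat.and_le_right

theorem dn_spec {i j w : Nat} (hi : i < 8) (hj : j < 8) (hw : w < 64) :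
    dn i < 7680 ∧ el (dn i) * el (dn j) = el (dn (dm i j)) ∧
      el (dn i) * el (vn w) = el (vn (act i w)) * el (dn i) := by
  have h1 := of_allBelow dn_ok i hi
  have h2 := of_allBelow dn_ok j hj
  simp only [Bool.and_eq_true, Nat.blt_eq] at h1 h2
  refine ⟨h1.1.1, ?_, ?_⟩
  · rw [el_mul h1.1.1 h2.1.1, Nat.eq_of_beq_eq_true (of_allBelow h1.1.2 j hj)]
  · rw [el_mul h1.1.1 (vn_spec hw hw).1, el_mul (vn_spec (act_lt i w) hw).1 h1.1.1,
      Nat.eq_of_beq_eq_true (of_allBelow h1.2 w hw)]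

theorem fM_mul {a b : Nat} (ha : a < 512) (hb : b < 512) : fM (mm a b) = fM a * fM b := by
  obtain ⟨hv, hi⟩ := split_code ha
  obtain ⟨hw, hj⟩ := split_code hb
  set v := Nat.land a 63
  set i := Nat.shiftRight a 6
  set w := Nat.land b 63
  set j := Nat.shiftRight b 6
  have e : mm a b = vad v (act i w) + 64 * dm i j := rfl
  obtain ⟨e1, e2⟩ := join_code (vad v (act i w)) (dm i j) (vad_lt _ _)
  rw [fM, e, e1, e2, fM, fM, ← (vn_spec hv (act_lt i w)).2, ← (dn_spec hi hj hw).2.1]
  show el (vn v) * el (vn (act i w)) * (el (dn i) * el (dn j)) =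
    el (vn v) * el (dn i) * (el (vn w) * el (dn j))
  rw [mul_assoc, ← mul_assoc (el (vn (act i w))), ← (dn_spec hi hj hw).2.2]
  group

theorem fM_eq {a : Nat} (ha : a < 512) : fM a = el (cn a) :=
  el_mul (vn_spec (split_code ha).1 (split_code ha).1).1 (dn_spec (split_code ha).2 (split_code ha).2 (split_code ha).1).1

theorem fM_one : fM 0 = 1 := by
  have h := fM_mul (a := 0) (b := 0) (by norm_num) (by norm_num)
  rw [(mm_zero (a := 0) (by norm_num)).1] at h
  exact left_eq_mul.1 h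

theorem fM_inv {a : Nat} (ha : a < 512) : fM (iv a) = (fM a)⁻¹ :=
  eq_inv_of_mul_eq_one_left (by
    rw [← fM_mul (mm_zero ha).2.2.1 ha, (mm_zero ha).2.2.2.2, fM_one])

theorem fM_ne_one {a : Nat} (ha : a < 512) (h : fM a = 1) : a = 0 := by
  have hs := of_allC cn_sep a ha
  rw [Bool.or_eq_true] at hs
  rcases hs with hs | hs
  · exact Nat.eq_of_beq_eq_true hs
  · rw [fM_eq ha, ← el_zero] at h
    have hlt : cn a < 7680 := mulC_lt (vn_spec (split_code ha).1 (split_code ha).1).1
      (dn_spec (split_code ha).2 (split_code ha).2 (split_code ha).1).1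
    rw [el_inj hlt (by norm_num) h] at hs
    exact absurd hs (by decide)

theorem cancel_check : (allBelow 6 64 (fun v => allBelow 6 64 (fun x =>
    cond (Nat.beq (vad v x) 0) (Nat.beq x (iv v)) true)) &&
    allBelow 3 8 (fun i => allBelow 6 64 (fun w => Nat.beq (act (Nat.shiftRight (iv (Nat.mul 64 i)) 6) (act i w)) w)) &&
    allBelow 3 8 (fun i => allBelow 3 8 (fun j =>
      cond (Nat.beq (dm i j) 0) (Nat.beq j (Nat.shiftRight (iv (Nat.mul 64 i)) 6)) true))) = true := by
  decide +kernel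

theorem cancel_zero {c x y : Nat} (hc : c < 512) (hx : x < 512) (hy : y < 512) (h1 : mm c x = 0)
    (h2 : mm c y = 0) : x = y := by
  obtain ⟨hv, hi⟩ := split_code hc
  have hk := cancel_check
  simp only [Bool.and_eq_true] at hk
  set v := Nat.land c 63
  set i := Nat.shiftRight c 6
  have key : ∀ z, z < 512 → mm c z = 0 → Nat.shiftRight z 6 = Nat.shiftRight (iv (Nat.mul 64 i)) 6 ∧
      Nat.land z 63 = act (Nat.shiftRight (iv (Nat.mul 64 i)) 6) (iv v) := by
    intro z hz h
    obtain ⟨hw, hj⟩ := split_code hz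
    have h' : vad v (act i (Nat.land z 63)) + 64 * dm i (Nat.shiftRight z 6) = 0 := h
    have hA := of_allBelow (of_allBelow hk.1.1 v hv) (act i (Nat.land z 63)) (act_lt _ _)
    rw [show vad v (act i (Nat.land z 63)) = 0 by omega] at hA
    have hD := of_allBelow (of_allBelow hk.2 i hi) (Nat.shiftRight z 6) hj
    rw [show dm i (Nat.shiftRight z 6) = 0 by omega] at hD
    refine ⟨Nat.eq_of_beq_eq_true hD, ?_⟩
    conv_lhs => rw [← Nat.eq_of_beq_eq_true (of_allBelow (of_allBelow hk.1.2 i hi) (Nat.land z 63) hw)]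
    rw [Nat.eq_of_beq_eq_true hA]
  obtain ⟨a1, a2⟩ := key x hx h1
  obtain ⟨b1, b2⟩ := key y hy h2
  have hxy : ∀ z : Nat, z < 512 → z = Nat.land z 63 + 64 * Nat.shiftRight z 6 := fun z hz => by
    show z = (z &&& (2 ^ 6 - 1)) + 64 * (z >>> 6)
    rw [Nat.and_two_pow_sub_one_eq_mod, Nat.shiftRight_eq_div_pow]
    omega
  rw [hxy x hx, hxy y hy, a1, a2, b1, b2]

/-- The subgroup of the codes in the model. -/
def modelSylow : Subgroup M where
  carrier := {x | ∃ a, a < 512 ∧ fM a = x}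
  one_mem' := ⟨0, by norm_num, fM_one⟩
  mul_mem' := by
    rintro _ _ ⟨a, ha, rfl⟩ ⟨b, hb, rfl⟩
    exact ⟨mm a b, mm_lt a b, fM_mul ha hb⟩
  inv_mem' := by
    rintro _ ⟨a, ha, rfl⟩
    exact ⟨iv a, (mm_zero ha).2.2.1, fM_inv ha⟩

theorem modelTab : Tab modelSylow fM where
  mem a ha := ⟨a, ha, rfl⟩
  surj _ hx := hx
  inj a b ha hb h := by
    obtain ⟨-, -, hl, -, hcancel⟩ := mm_zero ha
    have h1 : fM (mm (iv a) b) = 1 := by rw [fM_mul hl hb, fM_inv ha, h, inv_mul_cancel]
    exact cancel_zero hl ha hb hcancel (fM_ne_one (mm_lt _ _) h1)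
  mul _ _ ha hb := fM_mul ha hb

theorem card_modelSylow : Nat.card modelSylow = 512 := by
  refine (Nat.card_congr (Equiv.ofBijective
    (fun a : Fin 512 => (⟨fM a, modelTab.mem a a.2⟩ : modelSylow)) ⟨?_, ?_⟩)).symm.trans (Nat.card_fin 512)
  · exact fun x y h => Fin.ext (modelTab.inj x y x.2 y.2 (congrArg Subtype.val h :))
  · rintro ⟨x, hx⟩
    obtain ⟨a, ha, rfl⟩ := modelTab.surj x hx
    exact ⟨⟨a, ha⟩, rfl⟩

/-- A group isomorphic to a Sylow 2-subgroup of the Higman–Sims group is parametrised by the codes. -/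
theorem exists_tab {G : Type*} [Group G] (S : Subgroup G) (P : Sylow 2 Spor.HS)
    (hS : Nonempty (S ≃* (P : Subgroup Spor.HS))) : ∃ f : Nat → G, Tab S f := by
  haveI : Fact (Nat.Prime 2) := ⟨Nat.prime_two⟩
  haveI : Finite M := Nat.finite_of_card_ne_zero (by rw [card_M]; norm_num)
  haveI : Finite Spor.HS := Nat.finite_of_card_ne_zero (by rw [CfsgLib.HSUniq.card_spor]; norm_num)
  obtain ⟨φ⟩ := iso
  let Q : Sylow 2 Spor.HS := Sylow.ofCard (modelSylow.map φ.toMonoidHom) (by
    rw [Subgroup.card_map_of_injective φ.injective, card_modelSylow, CfsgLib.HSUniq.card_spor,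
      Nat.factorization_def _ Nat.prime_two,
      show (44352000 : ℕ) = 2 ^ 9 * 86625 by norm_num, padicValNat.mul (by norm_num) (by norm_num),
      padicValNat.prime_pow, padicValNat.eq_zero_of_not_dvd (by norm_num), add_zero]
    norm_num)
  obtain ⟨e1⟩ := hS
  let e2 : modelSylow ≃* (Q : Subgroup Spor.HS) := Subgroup.equivMapOfInjective _ φ.toMonoidHom φ.injective
  let e : modelSylow ≃* S := (MulEquiv.trans e2 (Q.equiv P)).trans e1.symm
  classical
  refine ⟨fun a => if ha : a < 512 then (e ⟨fM a, modelTab.mem a ha⟩ : G) else 1, ⟨?_, ?_, ?_, ?_⟩⟩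
  · intro a ha
    simp only [dif_pos ha]
    exact SetLike.coe_mem _
  · intro x hx
    obtain ⟨a, ha, h⟩ := modelTab.surj _ (e.symm ⟨x, hx⟩).2
    refine ⟨a, ha, ?_⟩
    simp only [dif_pos ha]
    rw [show (⟨fM a, modelTab.mem a ha⟩ : modelSylow) = e.symm ⟨x, hx⟩ from Subtype.ext h, e.apply_symm_apply]
  · intro a b ha hb h
    simp only [dif_pos ha, dif_pos hb] at h
    exact modelTab.inj a b ha hb (congrArg Subtype.val (e.injective (Subtype.ext h)) :)
  · intro a b ha hb
    simp only [dif_pos ha, dif_pos hb, dif_pos (mm_lt a b)]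
    rw [← Subgroup.coe_mul, ← map_mul]
    exact congrArg (fun m : modelSylow => ((e m : S) : G)) (Subtype.ext (fM_mul ha hb))

end CfsgLib.HSSylow
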