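import Cfsg.Agent.SylL34.Tools
import Cfsg.Agent.JankoSylow.CoreLift
import Cfsg.Agent.Solvable.PGroupBasic

/-!
An elementary abelian strongly closed 2-subgroup whose normalizer induces only 2-elements on it: it has an
isolated involution and `G = O(G) N(V)`.
-/

set_option autoImplicit false
set_option linter.unusedSectionVars false
set_option linter.style.haveILetI false

namespace CfsgLib.HSSylow.Strong

open Subgroup CfsgLib.SylL34

/-- A subgroup of a 2-subgroup strongly closed in it, with the action of the normalizer on it a 2-group. -/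
structure Closed2 {H : Type*} [Group H] (T : Sylow 2 H) (V : Subgroup H) : Prop where
  le : V ≤ (T : Subgroup H)
  sq : ∀ v ∈ V, v * v = 1
  closed : ∀ v ∈ V, ∀ g : H, g * v * g⁻¹ ∈ (T : Subgroup H) → g * v * g⁻¹ ∈ V
  odd : ∀ g ∈ normalizer (V : Set H), Odd (orderOf g) → ∀ v ∈ V, g * v = v * g

variable {H : Type*} [Group H] [Finite H] {T : Sylow 2 H} {V : Subgroup H}

theorem Closed2.normalizes (h : Closed2 T V) : (T : Subgroup H) ≤ normalizer (V : Set H) := fun t ht =>
  mem_normalizer_of_conj_mem fun v hv => h.closed v hv t (mul_mem (mul_mem ht (h.le hv)) (inv_mem ht))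

theorem Closed2.mem_normalizer (h : Closed2 T V) {g : H} (hg : ∀ v ∈ V, g * v * g⁻¹ ∈ (T : Subgroup H)) :
    g ∈ normalizer (V : Set H) :=
  mem_normalizer_of_conj_mem fun v hv => h.closed v hv g (hg v hv)

theorem Closed2.comm (h : Closed2 T V) {v w : H} (hv : v ∈ V) (hw : w ∈ V) : v * w = w * v :=
  comm_of_sq h.sq hv hw

/-- An element fixed by a Sylow subgroup is fixed by the normalizer. -/
theorem Closed2.fixed (h : Closed2 T V) {v : H} (hv : v ∈ V) (hvT : ∀ t ∈ (T : Subgroup H), t * v = v * t)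
    {n : H} (hn : n ∈ normalizer (V : Set H)) : n * v = v * n := by
  haveI : Fact (Nat.Prime 2) := ⟨Nat.prime_two⟩
  set N := normalizer (V : Set H) with hN
  set C := (centralizer (V : Set H)).subgroupOf N
  haveI : C.Normal := ⟨fun c hc m => by
    rw [mem_subgroupOf, mem_centralizer_iff]
    intro w hw
    have hw' : (m : H)⁻¹ * w * m ∈ V := by
      have := conj_mem_of_normalizer (inv_mem m.2) hw
      rwa [inv_inv] at this
    have h1 := mem_centralizer_iff.1 (mem_subgroupOf.1 hc) _ hw'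
    push_cast
    calc w * ((m : H) * c * (m : H)⁻¹) = m * ((m : H)⁻¹ * w * m * c) * (m : H)⁻¹ := by group
      _ = m * (c * ((m : H)⁻¹ * w * m)) * (m : H)⁻¹ := by rw [h1]
      _ = (m : H) * c * (m : H)⁻¹ * w := by group⟩
  set p := QuotientGroup.mk' C
  have hQ : IsPGroup 2 (N ⧸ C) := fun q => by
    obtain ⟨m, rfl⟩ := QuotientGroup.mk'_surjective C q
    obtain ⟨i, k, hi, hk⟩ := exists_odd_pow (m : H)
    refine ⟨k, ?_⟩
    rw [← map_pow, QuotientGroup.mk'_apply, QuotientGroup.eq_one_iff, mem_subgroupOf, mem_centralizer_iff]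
    intro w hw
    push_cast
    refine (h.odd _ (pow_mem m.2 _) ?_ w hw).symm
    exact Odd.of_dvd_nat hi (orderOf_dvd_of_pow_eq_one (by rw [← pow_mul, mul_comm, pow_mul, hk]))
  obtain ⟨u, hu, e⟩ : ∃ u : N, u ∈ ((T.subtype h.normalizes : Sylow 2 N) : Subgroup N) ∧ p u = p ⟨n, hn⟩ := by
    have htop : ((T.subtype h.normalizes).mapSurjective (QuotientGroup.mk'_surjective C) : Subgroup (N ⧸ C)) = ⊤ :=
      (Sylow.is_maximal' _ (hQ.to_subgroup ⊤) le_top).symm
    have := htop.ge (mem_top (p ⟨n, hn⟩))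
    obtain ⟨u, hu, e⟩ := this
    exact ⟨u, hu, e⟩
  have hc : u⁻¹ * (⟨n, hn⟩ : N) ∈ C := QuotientGroup.eq.1 e
  have h1 := mem_centralizer_iff.1 (mem_subgroupOf.1 hc) v hv
  push_cast at h1
  calc n * v = (u : H) * ((u : H)⁻¹ * n * v) := by group
    _ = (u : H) * (v * ((u : H)⁻¹ * n)) := by rw [← h1]
    _ = v * (u : H) * ((u : H)⁻¹ * n) := by rw [← mul_assoc, hvT (u : H) hu]
    _ = v * n := by group

/-- An isolated involution in `V`. -/
theorem Closed2.exists_isolated (h : Closed2 T V) (hV : V ≠ ⊥) :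
    ∃ v ∈ V, v ≠ 1 ∧ (∀ t ∈ (T : Subgroup H), t * v = v * t) ∧ Cfsg.IsIsolatedInvolution v := by
  haveI : Fact (Nat.Prime 2) := ⟨Nat.prime_two⟩
  haveI := T.2.isNilpotent
  haveI : (V.subgroupOf (T : Subgroup H)).Normal := normal_subgroupOf_of_le_normalizer h.normalizes
  have hne : V.subgroupOf (T : Subgroup H) ≠ ⊥ := by
    rw [Ne, subgroupOf_eq_bot, disjoint_iff, inf_eq_left.2 h.le]; exact hV
  obtain ⟨⟨x, hx⟩, hxne⟩ := ne_bot_iff_exists_ne_one.1 (PGroupBasic.inf_center_ne_bot _ hne)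
  refine ⟨(x : H), hx.1, fun e => hxne (Subtype.ext (Subtype.ext e)), fun t ht =>
    congrArg Subtype.val (mem_center_iff.1 hx.2 ⟨t, ht⟩), ?_⟩
  set v := (x : H)
  have hvT : ∀ t ∈ (T : Subgroup H), t * v = v * t := fun t ht =>
    congrArg Subtype.val (mem_center_iff.1 hx.2 ⟨t, ht⟩)
  have hvV : v ∈ V := hx.1
  refine Invol.isolated_of_sylow T (Invol.orderOf_eq_two (h.sq v hvV) fun e => hxne (Subtype.ext (Subtype.ext e)))
    fun g hg => ?_
  have hw := h.closed v hvV g hg
  set D := centralizer ({g * v * g⁻¹} : Set H)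
  have hVp : IsPGroup 2 V := isPGroup_of_sq h.sq
  have hVD : V ≤ D := fun y hy => mem_centralizer_singleton_iff.2 (h.comm hy hw)
  have hgD : cj g V ≤ D := by
    rintro _ ⟨y, hy, rfl⟩
    refine mem_centralizer_singleton_iff.2 ?_
    show g * y * g⁻¹ * (g * v * g⁻¹) = g * v * g⁻¹ * (g * y * g⁻¹)
    rw [show g * y * g⁻¹ * (g * v * g⁻¹) = g * (y * v) * g⁻¹ by group, h.comm hy hvV]
    group
  obtain ⟨P, hP⟩ := (hVp.of_equiv (subgroupOfEquivOfLe hVD).symm : IsPGroup 2 (V.subgroupOf D)).exists_le_sylow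
  obtain ⟨c, hc⟩ := exists_cj_le P (P := (cj g V).subgroupOf D) ((hVp.map _).of_equiv (subgroupOfEquivOfLe hgD).symm)
  obtain ⟨k, hk⟩ := exists_cj_le T (P := (P : Subgroup D).map D.subtype) (P.2.map _)
  have hkS : ∀ p ∈ (P : Subgroup D), k * (p : H) * k⁻¹ ∈ (T : Subgroup H) := fun p hp =>
    hk (conj_mem_cj.2 ⟨p, hp, rfl⟩)
  have h1 : k ∈ normalizer (V : Set H) := h.mem_normalizer fun y hy => hkS ⟨y, hVD hy⟩ (hP hy)
  have h2 : k * (c : H) * g ∈ normalizer (V : Set H) := h.mem_normalizer fun y hy => by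
    have h' := hkS _ (hc (conj_mem_cj.2 (show (⟨g * y * g⁻¹, hgD ⟨y, hy, rfl⟩⟩ : D) ∈ (cj g V).subgroupOf D
      from ⟨y, hy, rfl⟩)))
    rw [show k * (c : H) * g * y * (k * (c : H) * g)⁻¹ = k * ((c : H) * (g * y * g⁻¹) * (c : H)⁻¹) * k⁻¹ by group]
    exact h'
  have hn : (c : H) * g ∈ normalizer (V : Set H) := by simpa [mul_assoc] using mul_mem (inv_mem h1) h2
  have hfix := h.fixed hvV hvT hn
  have h3 : (c : H) * (g * v * g⁻¹) * (c : H)⁻¹ = v := by
    rw [show (c : H) * (g * v * g⁻¹) * (c : H)⁻¹ = (c : H) * g * v * ((c : H) * g)⁻¹ by group, hfix,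
      mul_inv_cancel_right]
  rwa [mem_centralizer_singleton_iff.1 c.2, mul_inv_cancel_right] at h3

theorem isPGroup_of (h : Closed2 T V) : IsPGroup 2 V := isPGroup_of_sq h.sq

/-- Two congruent elements, the first of odd order. -/
theorem comm_of_pow {q v : H} {k : ℕ} (hq : Odd (orderOf q)) (h : q ^ 2 ^ k * v = v * q ^ 2 ^ k) : q * v = v * q := by
  obtain ⟨i, hi⟩ := exists_pow_eq_self_of_coprime (n := 2 ^ k) (x := q)
    (Nat.Coprime.pow_left k (Nat.coprime_two_left.2 hq))
  have := (show Commute (q ^ 2 ^ k) v from h).pow_left i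
  rwa [hi] at this

/-- `G = O(G) N(V)`. -/
theorem Closed2.decomp : ∀ {H : Type*} [Group H] [Finite H] {T : Sylow 2 H} {V : Subgroup H}, Closed2 T V →
    ∀ g : H, ∃ o ∈ Cfsg.oddCore H, ∃ m ∈ normalizer (V : Set H), g = o * m := by
  intro H _ _ T V
  induction hn : Nat.card H using Nat.strong_induction_on generalizing H with
  | _ n ih =>
  intro h g
  classical
  haveI : Fact (Nat.Prime 2) := ⟨Nat.prime_two⟩
  by_cases hV : V = ⊥
  · refine ⟨1, one_mem _, g, ?_, (one_mul g).symm⟩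
    refine mem_normalizer_of_conj_mem fun v hv => ?_
    rw [hV, mem_bot] at hv ⊢
    rw [hv, mul_one, mul_inv_cancel]
  obtain ⟨v, hvV, hv1, hvT, hiso⟩ := h.exists_isolated hV
  obtain ⟨o, ho, c, hc, rfl⟩ := IsoApps.exists_mul hiso g
  set X := centralizer ({v} : Set H) with hX
  set v' : X := ⟨v, mem_centralizer_singleton_iff.2 rfl⟩ with hv'
  have hcen : ∀ x : X, x * v' = v' * x := fun x => Subtype.ext (mem_centralizer_singleton_iff.1 x.2)
  haveI : (zpowers v').Normal := ⟨fun n hn x => by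
    obtain ⟨k, rfl⟩ := mem_zpowers_iff.1 hn
    rw [((show Commute x v' from hcen x).zpow_right k).eq, mul_inv_cancel_right]
    exact zpow_mem (mem_zpowers v') k⟩
  set p := QuotientGroup.mk' (zpowers v') with hp
  have hvv : v' * v' = 1 := Subtype.ext (h.sq v hvV)
  have hker : ∀ x : X, p x = 1 ↔ x = 1 ∨ x = v' := fun x => by
    rw [hp, QuotientGroup.mk'_apply, QuotientGroup.eq_one_iff, mem_zpowers_iff]
    constructor
    · rintro ⟨k, rfl⟩
      have h2 : v' ^ (2 : ℤ) = 1 := by rw [zpow_two]; exact hvv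
      rcases Int.even_or_odd k with ⟨j, rfl⟩ | ⟨j, rfl⟩
      · left; rw [← two_mul, zpow_mul, h2, one_zpow]
      · right; rw [zpow_add_one, zpow_mul, h2, one_zpow, one_mul]
    · rintro (rfl | rfl)
      · exact ⟨0, zpow_zero _⟩
      · exact ⟨1, zpow_one _⟩
  have hTX : (T : Subgroup H) ≤ X := fun t ht => mem_centralizer_singleton_iff.2 (hvT t ht)
  have hsurj := QuotientGroup.mk'_surjective (zpowers v')
  set TQ := (T.subtype hTX).mapSurjective hsurj
  set VQ := (V.subgroupOf X).map p with hVQ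
  have hlift : ∀ x : X, p x ∈ VQ ↔ (x : H) ∈ V := by
    intro x
    constructor
    · rintro ⟨w, hw, e⟩
      rcases (hker (w⁻¹ * x)).1 (by rw [map_mul, map_inv, e, inv_mul_cancel]) with e' | e' <;>
        rw [inv_mul_eq_iff_eq_mul] at e' <;> rw [e']
      · rw [mul_one]; exact hw
      · exact mul_mem hw hvV
    · exact fun hx => ⟨x, hx, rfl⟩
  have hlt : Nat.card (X ⧸ zpowers v') < n := by
    have h1 := (zpowers v').card_mul_index
    rw [index_eq_card, Nat.card_zpowers,
      orderOf_eq_prime (by rw [pow_two]; exact hvv) (fun e => hv1 (congrArg Subtype.val e))] at h1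
    have h2 : Nat.card X ≤ n := hn ▸ Nat.le_of_dvd Nat.card_pos (card_subgroup_dvd_card X)
    have h3 : 0 < Nat.card (X ⧸ zpowers v') := Nat.card_pos
    omega
  have hQ : Closed2 TQ VQ := by
    refine ⟨?_, ?_, ?_, ?_⟩
    · rintro _ ⟨w, hw, rfl⟩
      exact ⟨w, h.le hw, rfl⟩
    · rintro _ ⟨w, hw, rfl⟩
      rw [← map_mul, show w * w = 1 from Subtype.ext (h.sq _ hw), map_one]
    · rintro _ ⟨w, hw, rfl⟩ q hq
      obtain ⟨x, rfl⟩ := hsurj q
      rw [← map_inv, ← map_mul, ← map_mul] at hq ⊢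
      obtain ⟨u, hu, e⟩ := hq
      refine (hlift _).2 (h.closed _ hw (x : H) ?_)
      rcases (hker (u⁻¹ * (x * w * x⁻¹))).1 (by rw [map_mul, map_inv, e, inv_mul_cancel]) with e' | e' <;>
        rw [inv_mul_eq_iff_eq_mul] at e' <;>
        rw [Subgroup.coe_subtype, show (x : H) * w * (x : H)⁻¹ = ((x * w * x⁻¹ : X) : H) from rfl, e']
      · rw [mul_one]; exact hu
      · exact mul_mem hu (h.le hvV)
    · rintro q hq hodd _ ⟨w, hw, rfl⟩
      obtain ⟨x, rfl⟩ := hsurj q
      obtain ⟨i, k, hi, hk⟩ := exists_odd_pow x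
      have hxN : (x : H) ∈ normalizer (V : Set H) := mem_normalizer_of_conj_mem fun y hy => by
        have hyX : y ∈ X := mem_centralizer_singleton_iff.2 (h.comm hy hvV)
        refine (hlift (x * ⟨y, hyX⟩ * x⁻¹)).1 ?_
        rw [map_mul, map_mul, map_inv]
        exact conj_mem_of_normalizer hq ((hlift ⟨y, hyX⟩).2 hy)
      have hodd' : Odd (orderOf ((x : H) ^ 2 ^ k)) := by
        refine Odd.of_dvd_nat hi (orderOf_dvd_of_pow_eq_one ?_)
        rw [← pow_mul, mul_comm, pow_mul]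
        exact congrArg Subtype.val hk
      refine comm_of_pow (k := k) hodd ?_
      rw [← map_pow, ← map_mul, ← map_mul]
      exact congrArg p (Subtype.ext (by push_cast; exact h.odd _ (pow_mem hxN _) hodd' _ hw))
  obtain ⟨oq, hoq, mq, hmq, e⟩ := ih _ hlt rfl hQ (p ⟨c, hc⟩)
  obtain ⟨x, rfl⟩ := hsurj oq
  obtain ⟨o', ho', hox⟩ := JankoSylow.core_lift p hcen hvv hker hoq
  have hpx : p x = p o' := by
    rcases hox with rfl | rfl
    · rfl
    · rw [map_mul, (hker v').2 (Or.inr rfl), mul_one]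
  set m : X := o'⁻¹ * ⟨c, hc⟩ with hm
  have hmq' : p m = mq := by rw [hm, map_mul, map_inv, e, ← hpx, inv_mul_cancel_left]
  have hmN : (m : H) ∈ normalizer (V : Set H) := mem_normalizer_of_conj_mem fun y hy => by
    have hyX : y ∈ X := mem_centralizer_singleton_iff.2 (h.comm hy hvV)
    refine (hlift (m * ⟨y, hyX⟩ * m⁻¹)).1 ?_
    rw [map_mul, map_mul, map_inv, hmq']
    exact conj_mem_of_normalizer hmq ((hlift ⟨y, hyX⟩).2 hy)
  set OX := (Cfsg.oddCore X).map X.subtype
  have hOX : OX ≤ Cfsg.oddCore H := by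
    haveI : (Cfsg.oddCore H).Normal := ocore_normal
    have hnorm : X ≤ normalizer (OX : Set H) :=
      le_normalizer.trans (LocalBalance.normalizer_le_normalizer_core (p := 2) X)
    have hsup : OX ⊔ Cfsg.oddCore H ≤ Cfsg.oddCore H := by
      refine le_ocore (normalizer_eq_top_iff.1 (eq_top_iff.2 fun y _ => ?_)) ?_
      · obtain ⟨o1, ho1, c1, hc1, rfl⟩ := IsoApps.exists_mul hiso y
        refine mul_mem (le_normalizer (mem_sup_right ho1)) (mem_normalizer_of_cj ?_)
        rw [cj, Subgroup.map_sup, ← cj, ← cj, cj_of_mem_normalizer (hnorm hc1),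
          cj_of_mem_normalizer (normalizer_eq_top (H := Cfsg.oddCore H) ▸ mem_top c1)]
      · refine Odd.of_dvd_nat ((?_ : Odd (Nat.card OX)).mul ocore_odd)
          (Solvable.card_sup_dvd (normalizer_eq_top (H := Cfsg.oddCore H) ▸ le_top))
        rw [card_map_of_injective X.subtype_injective]
        exact ocore_odd
    exact le_sup_left.trans hsup
  refine ⟨o * (o' : H), mul_mem ho (hOX ⟨o', ho', rfl⟩), m, hmN, ?_⟩
  rw [hm]
  push_cast
  group

/-- Strong closure passes to a subgroup containing `V`. -/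
theorem Closed2.conj_closed (h : Closed2 T V) {P : Subgroup H} (hP : IsPGroup 2 P) (hVP : V ≤ P) {v g : H}
    (hv : v ∈ V) (hg : g * v * g⁻¹ ∈ P) : g * v * g⁻¹ ∈ V := by
  obtain ⟨k, hk⟩ := exists_cj_le T hP
  have hkN : k ∈ normalizer (V : Set H) := h.mem_normalizer fun y hy => hk (conj_mem_cj.2 (hVP hy))
  have h1 := h.closed v hv (k * g) (by
    rw [show k * g * v * (k * g)⁻¹ = k * (g * v * g⁻¹) * k⁻¹ by group]
    exact hk (conj_mem_cj.2 hg))
  rw [show k * g * v * (k * g)⁻¹ = k * (g * v * g⁻¹) * k⁻¹ by group] at h1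
  exact (mem_normalizer_iff.1 hkN _).2 h1

end CfsgLib.HSSylow.Strong
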