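import Cfsg.Agent.HSSylow.Cent
import Cfsg.Agent.HSSylow.Strong
import Cfsg.Agent.HSSylow.YGroup
import Cfsg.Agent.SylL34.Moving

/-!
The centralizer of the root modulo its odd core and the root: the image of `R` is normal.
-/

set_option autoImplicit false
set_option maxRecDepth 100000
set_option linter.unusedSectionVars false
set_option linter.style.haveILetI false

namespace CfsgLib.HSSylow

open Subgroup CfsgLib.SylL34 CfsgLib.Coset

/-- The commutator of two codes. -/
noncomputable def cm (a b : Nat) : Nat := mm (cnj a b) (iv b)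

/-- The commutator of two codes is a power of the root. -/
noncomputable def comZ (a b : Nat) : Bool := inZ (cm a b)

theorem root_facts : (allC (fun a => cond (inR a) (com a 4 && inZ (mm a a)) true) &&
    allC (fun a => cond (inZ a) (com a 4 && inR a) true) &&
    allC (fun a => cond (com a 4) (cond (allL (List.range 512) fun r => cond (inR r) (comZ a r) true) (inR a) true)
      true)) = true := by decide +kernel

theorem out_facts : allC (fun a => cond (cond (com a 4) (cond (inR a) false (inZ (mm a a))) false)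
    (Nat.beq ((List.range 512).filter fun d => com d 4 && comZ d a).length 64 &&
      Nat.ble 16 ((List.range 512).filter fun r => inR r && comZ a r).length &&
      allC fun r => cond (inR r && comZ a r) (allC fun d => cond (com d 4) (comZ d r) true) true) true) = true := by
  decide +kernel

theorem gen_facts : allC (fun a => cond (com a 4) (anyL (List.range 512) fun b => com b 4 && inZ (mm b b) &&
    inZ (mm (mm (iv b) a) (mm (iv b) a))) true) = true := by decide +kernel

theorem out_exists : com 145 4 = true ∧ inR 145 = false ∧ inZ (mm 145 145) = true ∧ inR 2 = true ∧ inZ 2 = false ∧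
    inZ 8 = true := by decide +kernel

/-- The projection of the centralizer of the root. -/
structure Proj {G : Type*} [Group G] {Q : Type*} [Group Q] (f : Nat → G)
    (π : centralizer ({f 4} : Set G) →* Q) : Prop where
  surj : Function.Surjective π
  ker : ∀ x : centralizer ({f 4} : Set G), π x = 1 ↔
    ∃ o ∈ Cfsg.oddCore (centralizer ({f 4} : Set G)), ∃ z, z < 512 ∧ inZ z = true ∧ (x : G) = (o : G) * f z

variable {G : Type*} [Group G] [Finite G] {S : Sylow 2 G} {f : Nat → G} (hT : Tab (S : Subgroup G) f)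
include hT

theorem mem_root {a : Nat} (ha : a < 512) (h : com a 4 = true) : f a ∈ centralizer ({f 4} : Set G) :=
  mem_centralizer_singleton_iff.2 ((hT.com_iff ha (by norm_num)).1 h)

omit [Finite G] hT in
open Classical in
/-- The element of a code in the centralizer of the root. -/
noncomputable def fk (f : Nat → G) (a : Nat) : centralizer ({f 4} : Set G) :=
  if h : f a ∈ centralizer ({f 4} : Set G) then ⟨f a, h⟩ else 1

theorem coe_fk {a : Nat} (ha : a < 512) (h : com a 4 = true) : (fk f a : G) = f a := by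
  rw [fk, dif_pos (mem_root hT ha h)]

theorem root_of_R {a : Nat} (ha : a < 512) (h : inR a = true) : com a 4 = true ∧ inZ (mm a a) = true := by
  have := root_facts
  rw [Bool.and_eq_true, Bool.and_eq_true] at this
  have h1 := of_allC this.1.1 a ha
  rwa [h, cond_true, Bool.and_eq_true] at h1

theorem root_of_Z {a : Nat} (ha : a < 512) (h : inZ a = true) : com a 4 = true ∧ inR a = true := by
  have := root_facts
  rw [Bool.and_eq_true, Bool.and_eq_true] at this
  have h1 := of_allC this.1.2 a ha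
  rwa [h, cond_true, Bool.and_eq_true] at h1

theorem self_cent {a : Nat} (ha : a < 512) (h : com a 4 = true)
    (hR : ∀ r, r < 512 → inR r = true → comZ a r = true) : inR a = true := by
  have := root_facts
  rw [Bool.and_eq_true, Bool.and_eq_true] at this
  have h1 := of_allC this.2 a ha
  rw [h, cond_true, show (allL (List.range 512) fun r => cond (inR r) (comZ a r) true) = true from
    allL_iff.2 fun r hr => by
      cases hr' : inR r
      · rfl
      · exact hR r (List.mem_range.1 hr) hr', cond_true] at h1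
  exact h1

theorem eq_root_of_mem {y : G} (hy : y ∈ (S : Subgroup G)) (hc : y ∈ centralizer ({f 4} : Set G)) :
    ∃ a, a < 512 ∧ com a 4 = true ∧ f a = y := by
  obtain ⟨a, ha, rfl⟩ := hT.surj y hy
  exact ⟨a, ha, (hT.com_iff ha (by norm_num)).2 (mem_centralizer_singleton_iff.1 hc), rfl⟩

/-- A Sylow 2-subgroup of the centralizer of the root. -/
theorem exists_sylow_root : ∃ P : Sylow 2 (centralizer ({f 4} : Set G)),
    ∀ x : centralizer ({f 4} : Set G), x ∈ (P : Subgroup _) ↔ (x : G) ∈ (S : Subgroup G) := by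
  haveI : Fact (Nat.Prime 2) := ⟨Nat.prime_two⟩
  set K := centralizer ({f 4} : Set G) with hK
  have hKC := root_cent_le hT
  obtain ⟨P, hP⟩ := ((S.2.to_le inf_le_left).of_equiv (subgroupOfEquivOfLe (inf_le_right :
    (S : Subgroup G) ⊓ K ≤ K)).symm : IsPGroup 2 (((S : Subgroup G) ⊓ K).subgroupOf K)).exists_le_sylow
  refine ⟨P, fun x => ⟨fun hx => ?_, fun hx => hP ⟨hx, x.2⟩⟩⟩
  set P' := (P : Subgroup K).map K.subtype with hP'
  have hP'C : P' ≤ centralizer ({f 8} : Set G) := (map_subtype_le _).trans hKC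
  obtain ⟨k, hk⟩ := exists_cj_le (S.subtype (sylow_le_cent hT)) (P := P'.subgroupOf (centralizer ({f 8} : Set G)))
    ((P.2.map _).comap_subtype)
  have hkS : ∀ p ∈ P', (k : G) * p * (k : G)⁻¹ ∈ (S : Subgroup G) := fun p hp =>
    hk (conj_mem_cj.2 (show (⟨p, hP'C hp⟩ : centralizer ({f 8} : Set G)) ∈ P'.subgroupOf _ from hp))
  have h4 : f 4 ∈ P' := ⟨⟨f 4, mem_centralizer_singleton_iff.2 rfl⟩,
    hP ⟨hT.mem 4 (by norm_num), mem_centralizer_singleton_iff.2 rfl⟩, rfl⟩
  obtain ⟨a, ha, ea⟩ := hT.surj _ (hkS _ h4)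
  have hroot := root_class hT ha ⟨k, k.2, ea.symm⟩
  have hcen : centralizer ({f a} : Set G) ≤ K := by
    rcases hroot with rfl | rfl
    · exact le_rfl
    · intro y hy
      have hinv : f 12 = (f 4)⁻¹ := by
        rw [← hT.map_iv (by norm_num)]
        exact congrArg f (by decide +kernel)
      rw [hinv, mem_centralizer_singleton_iff] at hy
      exact mem_centralizer_singleton_iff.2 (Commute.inv_right_iff.1 hy)
  have hle : cj (k : G) P' ≤ (S : Subgroup G) ⊓ K := by
    rintro _ ⟨p, hp, rfl⟩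
    refine ⟨hkS p hp, hcen (mem_centralizer_singleton_iff.2 ?_)⟩
    show (k : G) * p * (k : G)⁻¹ * f a = f a * ((k : G) * p * (k : G)⁻¹)
    rw [ea, show (k : G) * p * (k : G)⁻¹ * (k * f 4 * (k : G)⁻¹) = k * (p * f 4) * (k : G)⁻¹ by group,
      mem_centralizer_singleton_iff.1 (map_subtype_le _ hp)]
    group
  have heq : (S : Subgroup G) ⊓ K = P' :=
    eq_of_le_of_card_ge (fun y hy => ⟨⟨y, hy.2⟩, hP hy, rfl⟩) (card_cj (k : G) P' ▸ card_le_of_le hle)
  have : (x : G) ∈ (S : Subgroup G) ⊓ K := by rw [heq]; exact ⟨x, hx, rfl⟩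
  exact this.1

theorem mm_mem_R {a b : Nat} (ha : a < 512) (hb : b < 512) (pa : inR a = true) (pb : inR b = true) :
    inR (mm a b) = true := by
  have h := of_allC (closedC_spec closed_R).2.1 a ha
  rw [pa, cond_true] at h
  have h' := of_allC h b hb
  rwa [pb, cond_true] at h'

theorem sR_le_S : hT.sR ≤ (S : Subgroup G) := by
  rintro _ ⟨r, hr, -, rfl⟩
  exact hT.mem r hr

theorem R_le_root : hT.sR ≤ centralizer ({f 4} : Set G) := by
  rintro _ ⟨r, hr, pr, rfl⟩
  exact mem_root hT hr (root_of_R hT hr pr).1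

theorem R_le_cent : hT.sR ≤ centralizer ({f 8} : Set G) := (R_le_root hT).trans (root_cent_le hT)

/-- Congruent elements modulo the odd core, the first a conjugate of a code, the second a code. -/
theorem conj_of_congr {r d : Nat} (hr : r < 512) (hd : d < 512) {k : centralizer ({f 4} : Set G)}
    (hdc : com d 4 = true) (hrc : com r 4 = true)
    (h : (k * fk f r * k⁻¹)⁻¹ * fk f d ∈ Cfsg.oddCore (centralizer ({f 4} : Set G))) :
    ∃ j : G, j ∈ centralizer ({f 4} : Set G) ∧ j * f r * j⁻¹ = f d := by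
  haveI : Fact (Nat.Prime 2) := ⟨Nat.prime_two⟩
  haveI : (Cfsg.oddCore (centralizer ({f 4} : Set G))).Normal := ocore_normal
  have h2 : ∀ a, a < 512 → com a 4 = true → TwoSolv.IsPEl 2 (fk f a) := fun a ha hac => by
    obtain ⟨i, hi⟩ := S.2 ⟨f a, hT.mem a ha⟩
    refine ⟨i, Subtype.ext ?_⟩
    rw [SubgroupClass.coe_pow, coe_fk hT ha hac]
    exact congrArg Subtype.val hi
  obtain ⟨o, ho, e⟩ := TwoSolv.exists_conj_of_congr (p := 2) (Nat.coprime_two_right.2 ocore_odd)
    (x := k * fk f r * k⁻¹) (y := fk f d) (by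
      obtain ⟨i, hi⟩ := h2 r hr hrc
      exact ⟨i, by rw [conj_pow, hi, mul_one, mul_inv_cancel]⟩) (h2 d hd hdc)
    (by rw [normalizer_eq_top]; exact mem_top _) h
  refine ⟨((o * k : centralizer ({f 4} : Set G)) : G), (o * k).2, ?_⟩
  rw [← coe_fk hT hr hrc, ← coe_fk hT hd hdc, ← e]
  push_cast
  group

/-- The image of `R`. -/
noncomputable def Vq {Q : Type*} [Group Q] (π : centralizer ({f 4} : Set G) →* Q) : Subgroup Q :=
  (hT.sR.subgroupOf (centralizer ({f 4} : Set G))).map π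

section Quotient

variable {Q : Type*} [Group Q] [Finite Q] {π : centralizer ({f 4} : Set G) →* Q} (P : Proj f π)
include P

theorem odd_to_one {o : centralizer ({f 4} : Set G)} (ho : o ∈ Cfsg.oddCore (centralizer ({f 4} : Set G))) :
    π o = 1 :=
  (P.ker o).2 ⟨o, ho, 0, by norm_num, (closedC_spec closed_Z).1, by rw [hT.map_zero, mul_one]⟩

theorem z_to_one {z : Nat} (hz : z < 512) (pz : inZ z = true) : π (fk f z) = 1 :=
  (P.ker _).2 ⟨1, one_mem _, z, hz, pz, by rw [coe_fk hT hz (root_of_Z hT hz pz).1, OneMemClass.coe_one, one_mul]⟩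

/-- An element of the kernel inside the Sylow subgroup lies in the centre of `R`. -/
theorem ker_S {x : centralizer ({f 4} : Set G)} (hx : (x : G) ∈ (S : Subgroup G)) (h : π x = 1) :
    (x : G) ∈ hT.sZ := by
  obtain ⟨o, ho, z, hz, pz, e⟩ := (P.ker x).1 h
  have ho' : (o : G) ∈ (S : Subgroup G) := by
    rw [show (o : G) = (x : G) * (f z)⁻¹ by rw [e]; group]
    exact mul_mem hx (inv_mem (hT.mem z hz))
  have h1 : o = 1 := by
    obtain ⟨i, hi⟩ := S.2 ⟨(o : G), ho'⟩
    exact eq_one_odd_two (odd_orderOf_of_mem ocore_odd ho) (k := i) (Subtype.ext (congrArg Subtype.val hi :))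
  rw [e, h1, OneMemClass.coe_one, one_mul]
  exact ⟨z, hz, pz, rfl⟩

theorem code_one {a : Nat} (ha : a < 512) (hc : com a 4 = true) : π (fk f a) = 1 ↔ inZ a = true := by
  refine ⟨fun h => ?_, fun h => z_to_one hT P ha h⟩
  have := ker_S hT P (x := fk f a) (by rw [coe_fk hT ha hc]; exact hT.mem a ha) h
  rw [coe_fk hT ha hc] at this
  exact hT.mem_of_code ha this

omit [Finite Q] in
theorem fk_mul {a b : Nat} (ha : a < 512) (hb : b < 512) (hca : com a 4 = true) (hcb : com b 4 = true) :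
    com (mm a b) 4 = true ∧ fk f (mm a b) = fk f a * fk f b := by
  have hc : com (mm a b) 4 = true := (hT.com_iff (mm_lt a b) (by norm_num)).2 (by
    rw [hT.mul a b ha hb]
    exact mem_centralizer_singleton_iff.1 (mul_mem (mem_root hT ha hca) (mem_root hT hb hcb)))
  exact ⟨hc, Subtype.ext (by rw [coe_fk hT (mm_lt a b) hc, hT.mul a b ha hb]; push_cast
                             rw [coe_fk hT ha hca, coe_fk hT hb hcb])⟩

omit [Finite Q] in
theorem fk_inv {a : Nat} (ha : a < 512) (hca : com a 4 = true) :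
    com (iv a) 4 = true ∧ fk f (iv a) = (fk f a)⁻¹ := by
  have hlt := (mm_zero ha).2.2.1
  have hc : com (iv a) 4 = true := (hT.com_iff hlt (by norm_num)).2 (by
    rw [hT.map_iv ha]
    exact mem_centralizer_singleton_iff.1 (inv_mem (mem_root hT ha hca)))
  exact ⟨hc, Subtype.ext (by rw [coe_fk hT hlt hc, hT.map_iv ha]; push_cast; rw [coe_fk hT ha hca])⟩

theorem cm_spec {a b : Nat} (ha : a < 512) (hb : b < 512) (hca : com a 4 = true) (hcb : com b 4 = true) :
    π (fk f a) * π (fk f b) = π (fk f b) * π (fk f a) ↔ comZ a b = true := by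
  obtain ⟨c1, e1⟩ := fk_mul hT P ha hb hca hcb
  obtain ⟨c2, e2⟩ := fk_inv hT P ha hca
  obtain ⟨c3, e3⟩ := fk_mul hT P (mm_lt a b) (mm_zero ha).2.2.1 c1 c2
  obtain ⟨c4, e4⟩ := fk_inv hT P hb hcb
  obtain ⟨c5, e5⟩ := fk_mul hT P (mm_lt (mm a b) (iv a)) (mm_zero hb).2.2.1 c3 c4
  rw [show comZ a b = inZ (mm (mm (mm a b) (iv a)) (iv b)) from rfl, ← code_one hT P (mm_lt _ _) c5]
  show _ ↔ π (fk f (mm (mm (mm a b) (iv a)) (iv b))) = 1
  rw [e5, e3, e1, e2, e4, map_mul, map_mul, map_mul, map_inv, map_inv, mul_inv_eq_one, mul_inv_eq_iff_eq_mul]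


theorem mem_Vq {v : Q} : v ∈ Vq hT π ↔ ∃ r, r < 512 ∧ inR r = true ∧ π (fk f r) = v := by
  constructor
  · rintro ⟨x, ⟨r, hr, pr, e⟩, rfl⟩
    exact ⟨r, hr, pr, congrArg π (Subtype.ext ((coe_fk hT hr (root_of_R hT hr pr).1).trans e))⟩
  · rintro ⟨r, hr, pr, rfl⟩
    exact ⟨fk f r, ⟨r, hr, pr, (coe_fk hT hr (root_of_R hT hr pr).1).symm⟩, rfl⟩

theorem Vq_sq : ∀ v ∈ Vq hT π, v * v = 1 := by
  intro v hv
  obtain ⟨r, hr, pr, rfl⟩ := (mem_Vq hT P).1 hv
  obtain ⟨hc, hsq⟩ := root_of_R hT hr pr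
  obtain ⟨c1, e1⟩ := fk_mul hT P hr hr hc hc
  rw [← map_mul, ← e1, code_one hT P (mm_lt _ _) c1]
  exact hsq

theorem card_Vq : 16 ≤ Nat.card (Vq hT π) := by
  have h := SylL34.card_map_mul π (hT.sR.subgroupOf (centralizer ({f 4} : Set G)))
  rw [Nat.card_congr (subgroupOfEquivOfLe (R_le_root hT)).toEquiv, hT.card_sR] at h
  have hle : Nat.card (π.ker ⊓ hT.sR.subgroupOf (centralizer ({f 4} : Set G)) :
      Subgroup (centralizer ({f 4} : Set G))) ≤ 4 := by
    refine (card_map_of_injective (centralizer ({f 4} : Set G)).subtype_injective).symm.trans_le ?_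
    refine (card_le_of_le ?_).trans_eq hT.card_sZ
    rintro _ ⟨x, ⟨hx1, hx2⟩, rfl⟩
    exact ker_S hT P (sR_le_S hT hx2) hx1
  change Nat.card (Vq hT π) * _ = 64 at h
  nlinarith

/-- The image of the Sylow subgroup. -/
theorem exists_T : ∃ T : Sylow 2 Q, ∀ q, q ∈ (T : Subgroup Q) ↔ ∃ a, a < 512 ∧ com a 4 = true ∧ π (fk f a) = q := by
  haveI : Fact (Nat.Prime 2) := ⟨Nat.prime_two⟩
  obtain ⟨PK, hPK⟩ := exists_sylow_root hT
  refine ⟨PK.mapSurjective P.surj, fun q => ⟨?_, ?_⟩⟩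
  · rintro ⟨x, hx, rfl⟩
    obtain ⟨a, ha, hac, e⟩ := eq_root_of_mem hT ((hPK x).1 hx) x.2
    exact ⟨a, ha, hac, congrArg π (Subtype.ext ((coe_fk hT ha hac).trans e))⟩
  · rintro ⟨a, ha, hac, rfl⟩
    exact ⟨fk f a, (hPK _).2 (by rw [coe_fk hT ha hac]; exact hT.mem a ha), rfl⟩

/-- Lifting the normalizer of the image of `R`. -/
theorem exists_lift {q : Q} (hq : q ∈ normalizer (Vq hT π : Set Q)) :
    ∃ n : centralizer ({f 4} : Set G), (n : G) ∈ normalizer (hT.sR : Set G) ∧ π n = q := by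
  classical
  haveI : Fact (Nat.Prime 2) := ⟨Nat.prime_two⟩
  obtain ⟨k, rfl⟩ := P.surj q
  set O := Cfsg.oddCore (centralizer ({f 4} : Set G)) with hO
  haveI : O.Normal := ocore_normal
  set R' := hT.sR.subgroupOf (centralizer ({f 4} : Set G)) with hR'
  set D := O ⊔ R' with hD
  have hRD : R' ≤ D := le_sup_right
  have hmemD : ∀ r ∈ R', k * r * k⁻¹ ∈ D := by
    intro r hr
    obtain ⟨d, hd, pd, e⟩ := (mem_Vq hT P).1 (conj_mem_of_normalizer hq (⟨r, hr, rfl⟩ : π r ∈ Vq hT π))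
    obtain ⟨hdc, -⟩ := root_of_R hT hd pd
    have h1 : π (k * r * k⁻¹ * (fk f d)⁻¹) = 1 := by
      rw [map_mul, map_inv, e, map_mul, map_mul, map_inv, mul_inv_cancel]
    obtain ⟨o, ho, z, hz, pz, ez⟩ := (P.ker _).1 h1
    obtain ⟨hzc, hzR⟩ := root_of_Z hT hz pz
    rw [show k * r * k⁻¹ = o * (fk f z * fk f d) from Subtype.ext (by
      push_cast at ez ⊢
      rw [coe_fk hT hz hzc, ← mul_assoc, ← ez]
      group)]
    refine mul_mem (mem_sup_left ho) (mem_sup_right ?_)
    show (fk f z : G) * (fk f d : G) ∈ hT.sR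
    rw [coe_fk hT hz hzc, coe_fk hT hd hdc]
    exact mul_mem ⟨z, hz, hzR, rfl⟩ ⟨d, hd, pd, rfl⟩
  have hR'p : IsPGroup 2 R' := (S.2.to_le (sR_le_S hT)).of_equiv (subgroupOfEquivOfLe (R_le_root hT)).symm
  obtain ⟨PD, hPD⟩ := (hR'p.of_equiv (subgroupOfEquivOfLe hRD).symm : IsPGroup 2 (R'.subgroupOf D)).exists_le_sylow
  have hPDeq : (PD : Subgroup D).map D.subtype = R' := by
    refine (eq_of_le_of_card_ge (fun r hr => (⟨⟨r, hRD hr⟩, hPD hr, rfl⟩ : r ∈ (PD : Subgroup D).map D.subtype)) ?_).symm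
    rw [card_map_of_injective D.subtype_injective]
    have hdvd : Nat.card (PD : Subgroup D) ∣ Nat.card O * Nat.card R' := by
      refine (card_subgroup_dvd_card _).trans ?_
      rw [Nat.mul_comm, hD, sup_comm]
      exact Solvable.card_sup_dvd (normalizer_eq_top (H := O) ▸ le_top)
    obtain ⟨i, hi⟩ := IsPGroup.iff_card.1 PD.2
    refine Nat.le_of_dvd Nat.card_pos (Nat.Coprime.dvd_of_dvd_mul_left ?_ hdvd)
    rw [hi]
    exact Nat.Coprime.pow_left i (Nat.coprime_two_left.2 ocore_odd)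
  obtain ⟨c, hc⟩ := exists_cj_le PD (P := (cj k R').subgroupOf D) ((hR'p.map _).comap_subtype)
  have hnorm : ((c : (centralizer ({f 4} : Set G))) * k : (centralizer ({f 4} : Set G))) ∈ normalizer (R' : Set (centralizer ({f 4} : Set G))) := mem_normalizer_of_conj_mem fun r hr => by
    have h1 := hc (conj_mem_cj.2 (show (⟨k * r * k⁻¹, hmemD r hr⟩ : D) ∈ (cj k R').subgroupOf D
      from ⟨r, hr, rfl⟩))
    rw [← hPDeq]
    exact ⟨_, h1, by simp [mul_assoc]⟩
  obtain ⟨o, ho, r, hr, e⟩ : ∃ o ∈ O, ∃ r ∈ R', (c : (centralizer ({f 4} : Set G))) = r * o := by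
    have hc' : (c : (centralizer ({f 4} : Set G))) ∈ R' ⊔ O := by rw [sup_comm]; exact c.2
    rw [← SetLike.mem_coe, Subgroup.mul_normal] at hc'
    obtain ⟨r, hr, o, ho, e⟩ := hc'
    exact ⟨o, ho, r, hr, e.symm⟩
  refine ⟨o * k, mem_normalizer_of_conj_mem fun y hy => ?_, by rw [map_mul, odd_to_one hT P ho, one_mul]⟩
  have hok : (o * k : (centralizer ({f 4} : Set G))) ∈ normalizer (R' : Set (centralizer ({f 4} : Set G))) := by
    have := mul_mem (inv_mem (le_normalizer hr)) hnorm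
    rwa [e, mul_assoc, inv_mul_cancel_left] at this
  have := conj_mem_of_normalizer hok (x := (⟨y, R_le_root hT hy⟩ : centralizer ({f 4} : Set G))) hy
  exact this

/-- A lift acting trivially gives an element centralising the image of `R`. -/
theorem of_triv {n : centralizer ({f 4} : Set G)} (hn : Triv hT (n : G)) {v : Q} (hv : v ∈ Vq hT π) :
    π n * v = v * π n := by
  obtain ⟨r, hr, pr, rfl⟩ := (mem_Vq hT P).1 hv
  obtain ⟨hrc, -⟩ := root_of_R hT hr pr
  obtain ⟨z, hz, pz, ez⟩ := hn (f r) ⟨r, hr, pr, rfl⟩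
  have h1 : n * fk f r * n⁻¹ * (fk f r)⁻¹ = fk f z := Subtype.ext (by
    push_cast
    rw [coe_fk hT hr hrc, coe_fk hT hz (root_of_Z hT hz pz).1, ez])
  have h2 := congrArg π h1
  rw [z_to_one hT P hz pz, map_mul, map_mul, map_mul, map_inv, map_inv, mul_inv_eq_one,
    mul_inv_eq_iff_eq_mul] at h2
  exact h2

/-- An element of the kernel normalising `R` acts trivially on it. -/
theorem triv_of_ker {n : centralizer ({f 4} : Set G)} (hn : (n : G) ∈ normalizer (hT.sR : Set G))
    (h : π n = 1) : Triv hT (n : G) := by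
  obtain ⟨o, ho, z, hz, pz, e⟩ := (P.ker n).1 h
  obtain ⟨hzc, hzR⟩ := root_of_Z hT hz pz
  have hoN : (o : G) ∈ normalizer (hT.sR : Set G) := by
    rw [show (o : G) = (n : G) * (f z)⁻¹ by rw [e]; group]
    exact mul_mem hn (inv_mem (le_normalizer (show f z ∈ hT.sR from ⟨z, hz, hzR, rfl⟩)))
  intro x hx
  have hxK : x ∈ centralizer ({f 4} : Set G) := R_le_root hT hx
  haveI : (Cfsg.oddCore (centralizer ({f 4} : Set G))).Normal := ocore_normal
  have h1 : o * ⟨x, hxK⟩ * o⁻¹ * (⟨x, hxK⟩ : centralizer ({f 4} : Set G))⁻¹ = 1 := by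
    refine inf_eq_bot_of_odd (P := hT.sR.subgroupOf (centralizer ({f 4} : Set G))) ocore_odd
      ((S.2.to_le (sR_le_S hT)).of_equiv (subgroupOfEquivOfLe (R_le_root hT)).symm) ?_ ?_
    · rw [show o * ⟨x, hxK⟩ * o⁻¹ * (⟨x, hxK⟩ : centralizer ({f 4} : Set G))⁻¹ = o * (⟨x, hxK⟩ * o⁻¹ * ⟨x, hxK⟩⁻¹) by
        group]
      exact mul_mem ho (Normal.conj_mem inferInstance _ (inv_mem ho) _)
    · show (o : G) * x * (o : G)⁻¹ * x⁻¹ ∈ hT.sR
      exact mul_mem (conj_mem_of_normalizer hoN hx) (inv_mem hx)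
  have h2 : (o : G) * x * (o : G)⁻¹ = x := mul_inv_eq_one.1 (congrArg Subtype.val h1)
  have hzc' : ∀ x ∈ hT.sR, f z * x * (f z)⁻¹ * x⁻¹ = 1 := by
    rintro _ ⟨r, hr, pr, rfl⟩
    have h3 := of_allC (of_allC (by decide +kernel : allC (fun z => cond (inZ z)
      (allC fun r => cond (inR r) (com z r) true) true) = true) z hz |> fun h => by rwa [pz, cond_true] at h) r hr
    rw [pr, cond_true, hT.com_iff hz hr] at h3
    rw [h3, mul_inv_cancel_right, mul_inv_cancel]
  have h3 := mul_inv_eq_one.1 (hzc' x hx)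
  rw [e, show (o : G) * f z * x * ((o : G) * f z)⁻¹ * x⁻¹ = (o : G) * (f z * x * (f z)⁻¹) * (o : G)⁻¹ * x⁻¹ by
    group, h3, h2, mul_inv_cancel]
  exact one_mem _

theorem odd_lift {q : Q} (hq : q ∈ normalizer (Vq hT π : Set Q)) :
    ∃ k : ℕ, ∃ n : centralizer ({f 4} : Set G), (n : G) ∈ normalizer (hT.sR : Set G) ∧ Odd (orderOf (n : G)) ∧
      π n = q ^ 2 ^ k := by
  obtain ⟨n, hn, rfl⟩ := exists_lift hT P hq
  obtain ⟨m, k, hm, hk⟩ := exists_odd_pow (n : G)
  refine ⟨k, n ^ 2 ^ k, by rw [SubgroupClass.coe_pow]; exact pow_mem hn _, ?_, map_pow π n _⟩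
  rw [SubgroupClass.coe_pow]
  exact Odd.of_dvd_nat hm (orderOf_dvd_of_pow_eq_one (by rw [← pow_mul, mul_comm, pow_mul, hk]))

/-- An element of odd order fixing a nontrivial point of the image centralises it. -/
theorem odd_point {q : Q} (hq : q ∈ normalizer (Vq hT π : Set Q)) (hodd : Odd (orderOf q)) {v : Q}
    (hv : v ∈ Vq hT π) (hv1 : v ≠ 1) (hc : q * v = v * q) : ∀ w ∈ Vq hT π, q * w = w * q := by
  obtain ⟨k, n, hn, hno, en⟩ := odd_lift hT P hq
  obtain ⟨r, hr, pr, rfl⟩ := (mem_Vq hT P).1 hv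
  obtain ⟨hrc, -⟩ := root_of_R hT hr pr
  have hrZ : inZ r = false := by
    rw [Bool.eq_false_iff]
    exact fun h => hv1 (z_to_one hT P hr h)
  have h1 : π (n * fk f r * n⁻¹ * (fk f r)⁻¹) = 1 := by
    rw [map_mul, map_mul, map_mul, map_inv, map_inv, en, ((show Commute q _ from hc).pow_left _).eq,
      mul_inv_cancel_right, mul_inv_cancel]
  have h2 : (n : G) * f r * (n : G)⁻¹ * (f r)⁻¹ ∈ hT.sZ := by
    have h3 : (n : G) * f r * (n : G)⁻¹ * (f r)⁻¹ ∈ hT.sR :=
      mul_mem (conj_mem_of_normalizer hn ⟨r, hr, pr, rfl⟩) (inv_mem ⟨r, hr, pr, rfl⟩)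
    have := ker_S hT P (x := n * fk f r * n⁻¹ * (fk f r)⁻¹) (by
      push_cast; rw [coe_fk hT hr hrc]; exact sR_le_S hT h3) h1
    push_cast at this
    rwa [coe_fk hT hr hrc] at this
  have htriv := point_stab hT (root_cent_le hT n.2) hn hno hr pr hrZ h2
  exact fun w hw => Strong.comm_of_pow (k := k) hodd (en ▸ of_triv hT P htriv hw)

/-- An element of odd order commuting with an element outside the image centralises it. -/
theorem odd_out {q : Q} (hq : q ∈ normalizer (Vq hT π : Set Q)) (hodd : Odd (orderOf q)) {a : Nat}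
    (ha : a < 512) (hac : com a 4 = true) (haR : inR a = false) (hc : q * π (fk f a) = π (fk f a) * q) :
    ∀ w ∈ Vq hT π, q * w = w * q := by
  obtain ⟨k, n, hn, hno, en⟩ := odd_lift hT P hq
  have h1 : π (n * fk f a * n⁻¹ * (fk f a)⁻¹) = 1 := by
    rw [map_mul, map_mul, map_mul, map_inv, map_inv, en, ((show Commute q _ from hc).pow_left _).eq,
      mul_inv_cancel_right, mul_inv_cancel]
  have haN : f a ∈ normalizer (hT.sR : Set G) := hT.le_normalizer_subs.2.2 (hT.mem a ha)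
  have h2 := triv_of_ker hT P (n := n * fk f a * n⁻¹ * (fk f a)⁻¹) (by
    push_cast; rw [coe_fk hT ha hac]
    exact mul_mem (mul_mem (mul_mem hn haN) (inv_mem hn)) (inv_mem haN)) h1
  push_cast at h2
  rw [coe_fk hT ha hac] at h2
  have htriv := out_cent hT (root_cent_le hT n.2) hn hno ha hac haR h2
  exact fun w hw => Strong.comm_of_pow (k := k) hodd (en ▸ of_triv hT P htriv hw)

variable [IsSimpleGroup G]

/-- The image of `R` is strongly closed in the image of the Sylow subgroup. -/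
theorem Vq_closed {v g : Q} (hv : v ∈ Vq hT π) {a : Nat} (ha : a < 512) (hac : com a 4 = true)
    (e : g * v * g⁻¹ = π (fk f a)) : g * v * g⁻¹ ∈ Vq hT π := by
  obtain ⟨r, hr, pr, rfl⟩ := (mem_Vq hT P).1 hv
  obtain ⟨hrc, -⟩ := root_of_R hT hr pr
  obtain ⟨k, rfl⟩ := P.surj g
  have h1 : π (k * fk f r * k⁻¹ * (fk f a)⁻¹) = 1 := by
    rw [map_mul, map_mul, map_mul, map_inv, map_inv, e, mul_inv_cancel]
  obtain ⟨o, ho, z, hz, pz, ez⟩ := (P.ker _).1 h1
  obtain ⟨hzc, hzR⟩ := root_of_Z hT hz pz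
  obtain ⟨hdc, ed⟩ := fk_mul hT P hz ha hzc hac
  have h2 : k * fk f r * k⁻¹ = o * fk f (mm z a) := by
    rw [ed]
    refine Subtype.ext ?_
    push_cast at ez ⊢
    rw [coe_fk hT hz hzc, ← mul_assoc, ← ez]
    group
  haveI : (Cfsg.oddCore (centralizer ({f 4} : Set G))).Normal := ocore_normal
  have h3 : (k * fk f r * k⁻¹)⁻¹ * fk f (mm z a) ∈ Cfsg.oddCore (centralizer ({f 4} : Set G)) := by
    rw [h2, mul_inv_rev]
    have := Normal.conj_mem inferInstance _ (inv_mem ho) (fk f (mm z a))⁻¹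
    rwa [inv_inv] at this
  obtain ⟨j, hj, ej⟩ := conj_of_congr hT hr (mm_lt z a) hdc hrc h3
  have hR := R_closed hT hr (mm_lt z a) pr hj ej
  refine (mem_Vq hT P).2 ⟨mm z a, mm_lt _ _, hR, ?_⟩
  rw [e, ed, map_mul, z_to_one hT P hz pz, one_mul]

end Quotient

end CfsgLib.HSSylow
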