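import Cfsg.Agent.HSSylow.Quot

/-!
The image of `R` is normal in the centralizer of the root modulo its core, hence the centralizer of the central
involution is its odd core times the normalizer of `R`.
-/

set_option autoImplicit false
set_option maxRecDepth 100000
set_option linter.unusedSectionVars false
set_option linter.style.haveILetI false

namespace CfsgLib.HSSylow

open Subgroup CfsgLib.SylL34 CfsgLib.Coset

theorem center_R : allC (fun r => cond (inR r) (cond (allL (List.range 512) fun q => cond (inR q) (com r q) true)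
    (inZ r) true) true) = true := by decide +kernel

theorem swap_root : ∃ s < 512, cnj s 4 = 12 ∧ cnj s 12 = 4 := by decide +kernel

/-- If all elements of odd order lie in a normal subgroup, it has a Sylow 2-subgroup as supplement. -/
theorem decomp_of_odd {H : Type*} [Group H] [Finite H] (T : Sylow 2 H) (N : Subgroup H) [N.Normal]
    (h : ∀ g : H, Odd (orderOf g) → g ∈ N) (g : H) : ∃ o ∈ N, ∃ t ∈ (T : Subgroup H), g = o * t := by
  haveI : Fact (Nat.Prime 2) := ⟨Nat.prime_two⟩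
  have hQ : IsPGroup 2 (H ⧸ N) := fun q => by
    obtain ⟨m, rfl⟩ := QuotientGroup.mk'_surjective N q
    obtain ⟨i, k, hi, hk⟩ := exists_odd_pow m
    refine ⟨k, ?_⟩
    rw [← map_pow, QuotientGroup.mk'_apply, QuotientGroup.eq_one_iff]
    exact h _ (Odd.of_dvd_nat hi (orderOf_dvd_of_pow_eq_one (by rw [← pow_mul, mul_comm, pow_mul, hk])))
  have htop : (T.mapSurjective (QuotientGroup.mk'_surjective N) : Subgroup (H ⧸ N)) = ⊤ :=
    (Sylow.is_maximal' _ (hQ.to_subgroup ⊤) le_top).symm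
  obtain ⟨t, ht, e⟩ := htop.ge (mem_top (QuotientGroup.mk' N g))
  refine ⟨g * t⁻¹, ?_, t, ht, (inv_mul_cancel_right g t).symm⟩
  rw [← QuotientGroup.eq_one_iff, QuotientGroup.mk_mul, QuotientGroup.mk_inv]
  exact mul_inv_eq_one.2 e.symm

variable {G : Type*} [Group G] [Finite G] {S : Sylow 2 G} {f : Nat → G} (hT : Tab (S : Subgroup G) f)
include hT

theorem card_codes {X : Subgroup (centralizer ({f 4} : Set G))} (p : Nat → Bool)
    (hp : ∀ a, a < 512 → p a = true → com a 4 = true ∧ fk f a ∈ X) :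
    ((List.range 512).filter p).length ≤ Nat.card X ∧
      ((∀ x ∈ X, ∃ a, a < 512 ∧ p a = true ∧ fk f a = x) → Nat.card X = ((List.range 512).filter p).length) := by
  classical
  set φ : {a : Nat // a ∈ ((List.range 512).filter p).toFinset} → X := fun a =>
    ⟨fk f a, (hp a (List.mem_range.1 (List.mem_filter.1 (List.mem_toFinset.1 a.2)).1)
      (List.mem_filter.1 (List.mem_toFinset.1 a.2)).2).2⟩ with hφ
  have hinj : Function.Injective φ := fun a b h => by
    obtain ⟨a, ha⟩ := a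
    obtain ⟨b, hb⟩ := b
    obtain ⟨ha1, ha2⟩ := List.mem_filter.1 (List.mem_toFinset.1 ha)
    obtain ⟨hb1, hb2⟩ := List.mem_filter.1 (List.mem_toFinset.1 hb)
    rw [List.mem_range] at ha1 hb1
    have h' : (fk f a : G) = fk f b := congrArg Subtype.val (congrArg Subtype.val h :)
    rw [coe_fk hT ha1 (hp a ha1 ha2).1, coe_fk hT hb1 (hp b hb1 hb2).1] at h'
    exact Subtype.ext (hT.inj a b ha1 hb1 h')
  have hn : Nat.card {a : Nat // a ∈ ((List.range 512).filter p).toFinset} = ((List.range 512).filter p).length := by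
    rw [Nat.card_eq_fintype_card, Fintype.card_coe, List.toFinset_card_of_nodup (List.nodup_range.filter _)]
  refine ⟨hn ▸ Nat.card_le_card_of_injective φ hinj, fun hall => hn ▸ (Nat.card_congr (Equiv.ofBijective φ
    ⟨hinj, fun ⟨x, hx⟩ => ?_⟩)).symm⟩
  obtain ⟨a, ha, pa, e⟩ := hall x hx
  exact ⟨⟨a, List.mem_toFinset.2 (List.mem_filter.2 ⟨List.mem_range.2 ha, pa⟩)⟩, Subtype.ext e⟩

variable [IsSimpleGroup G] {Q : Type*} [Group Q] [Finite Q] {π : centralizer ({f 4} : Set G) →* Q} (P : Proj f π)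
include P

theorem Vq_comm {v w : Q} (hv : v ∈ Vq hT π) (hw : w ∈ Vq hT π) : v * w = w * v := comm_of_sq (Vq_sq hT P) hv hw

theorem Vq_le {T : Sylow 2 Q} (hTm : ∀ q, q ∈ (T : Subgroup Q) ↔ ∃ a, a < 512 ∧ com a 4 = true ∧ π (fk f a) = q) :
    Vq hT π ≤ (T : Subgroup Q) := fun v hv => by
  obtain ⟨r, hr, pr, e⟩ := (mem_Vq hT P).1 hv
  exact (hTm v).2 ⟨r, hr, (root_of_R hT hr pr).1, e⟩

theorem isPGroup_Vq : IsPGroup 2 (Vq hT π) := isPGroup_of_sq (Vq_sq hT P)

/-- A 2-group containing the image of `R` normalises it and keeps it closed. -/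
theorem two_closed {Tc : Subgroup Q} (hTc : IsPGroup 2 Tc) (hV : Vq hT π ≤ Tc) {v g : Q}
    (hv : v ∈ Vq hT π) (h : g * v * g⁻¹ ∈ Tc) : g * v * g⁻¹ ∈ Vq hT π := by
  obtain ⟨T, hTm⟩ := exists_T hT P
  obtain ⟨k, hk⟩ := exists_cj_le T hTc
  have hkN : k ∈ normalizer (Vq hT π : Set Q) := mem_normalizer_of_conj_mem fun w hw => by
    obtain ⟨a, ha, hac, e⟩ := (hTm _).1 (hk (conj_mem_cj.2 (hV hw)))
    exact Vq_closed hT P hw ha hac e.symm
  obtain ⟨a, ha, hac, e⟩ := (hTm _).1 (hk (conj_mem_cj.2 h))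
  have h1 := Vq_closed hT P (g := k * g) hv ha hac (by rw [e]; group)
  rw [show k * g * v * (k * g)⁻¹ = k * (g * v * g⁻¹) * k⁻¹ by group] at h1
  exact (mem_normalizer_iff.1 hkN _).2 h1

theorem two_normalizes {Tc : Subgroup Q} (hTc : IsPGroup 2 Tc) (hV : Vq hT π ≤ Tc) :
    Tc ≤ normalizer (Vq hT π : Set Q) := fun _ ht => mem_normalizer_of_conj_mem fun _ hw =>
  two_closed hT P hTc hV hw (mul_mem (mul_mem ht (hV hw)) (inv_mem ht))

/-- The image of `R` contains its centralizer in a 2-group. -/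
theorem cent_two {Tc : Subgroup Q} (hTc : IsPGroup 2 Tc) (hV : Vq hT π ≤ Tc)
    (hc : Tc ≤ centralizer (Vq hT π : Set Q)) : Tc ≤ Vq hT π := by
  obtain ⟨T, hTm⟩ := exists_T hT P
  obtain ⟨k, hk⟩ := exists_cj_le T hTc
  have hkN : k ∈ normalizer (Vq hT π : Set Q) := mem_normalizer_of_conj_mem fun w hw => by
    obtain ⟨a, ha, hac, e⟩ := (hTm _).1 (hk (conj_mem_cj.2 (hV hw)))
    exact Vq_closed hT P hw ha hac e.symm
  intro y hy
  obtain ⟨a, ha, hac, e⟩ := (hTm _).1 (hk (conj_mem_cj.2 hy))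
  refine (mem_normalizer_iff.1 hkN y).2 ?_
  rw [← e]
  refine (mem_Vq hT P).2 ⟨a, ha, self_cent hT ha hac fun r hr pr => ?_, rfl⟩
  obtain ⟨hrc, -⟩ := root_of_R hT hr pr
  rw [← cm_spec hT P ha hr hac hrc, e]
  have hw : k⁻¹ * π (fk f r) * k ∈ Vq hT π := by
    have := conj_mem_of_normalizer (inv_mem hkN) ((mem_Vq hT P).2 ⟨r, hr, pr, rfl⟩)
    rwa [inv_inv] at this
  have h := mem_centralizer_iff.1 (hc hy) _ hw
  calc k * y * k⁻¹ * π (fk f r) = k * (y * (k⁻¹ * π (fk f r) * k)) * k⁻¹ := by group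
    _ = k * ((k⁻¹ * π (fk f r) * k) * y) * k⁻¹ := by rw [h]
    _ = π (fk f r) * (k * y * k⁻¹) := by group

/-- The centralizer of the image is its odd core times it. -/
theorem cV_decomp {x : Q} (hx : x ∈ centralizer (Vq hT π : Set Q)) :
    (∃ o ∈ (Cfsg.oddCore (centralizer (Vq hT π : Set Q))).map (centralizer (Vq hT π : Set Q)).subtype,
      ∃ w ∈ Vq hT π, x = o * w) ∧
      (Odd (orderOf x) → x ∈ (Cfsg.oddCore (centralizer (Vq hT π : Set Q))).map
        (centralizer (Vq hT π : Set Q)).subtype) := by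
  haveI : Fact (Nat.Prime 2) := ⟨Nat.prime_two⟩
  have hVC : Vq hT π ≤ centralizer (Vq hT π : Set Q) := fun v hv =>
    mem_centralizer_iff.2 fun w hw => Vq_comm hT P hw hv
  obtain ⟨T, hT'⟩ := ((isPGroup_Vq hT P).comap_subtype :
    IsPGroup 2 ((Vq hT π).subgroupOf (centralizer (Vq hT π : Set Q)))).exists_le_sylow
  have hTV : ∀ y ∈ (T : Subgroup (centralizer (Vq hT π : Set Q))), (y : Q) ∈ Vq hT π := fun y hy =>
    cent_two hT P (T.2.map (centralizer (Vq hT π : Set Q)).subtype) (fun w hw => ⟨⟨w, hVC hw⟩, hT' hw, rfl⟩)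
      (map_subtype_le _) ⟨y, hy, rfl⟩
  obtain ⟨h1, h2⟩ := twoNil T fun n _ => mem_centralizer_iff.2 fun y hy =>
    Subtype.ext (mem_centralizer_iff.1 n.2 _ (hTV y hy))
  refine ⟨?_, fun hodd => ⟨⟨x, hx⟩, h2 ⟨x, hx⟩ (by rwa [Subgroup.orderOf_mk]), rfl⟩⟩
  obtain ⟨o, ho, p, hp, e⟩ := h1 ⟨x, hx⟩
  exact ⟨o, ⟨o, ho, rfl⟩, p, hTV p hp, congrArg Subtype.val e⟩

/-- The centralizer of a point. -/
theorem cent_point {v x : Q} (hv : v ∈ Vq hT π) (hv1 : v ≠ 1) (hx : x * v = v * x) :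
    ∃ o ∈ Oc v, ∃ m ∈ normalizer (Vq hT π : Set Q), m * v = v * m ∧ x = o * m := by
  haveI : Fact (Nat.Prime 2) := ⟨Nat.prime_two⟩
  set X := centralizer ({v} : Set Q) with hX
  have hVX : Vq hT π ≤ X := fun w hw => mem_centralizer_singleton_iff.2 (Vq_comm hT P hw hv)
  obtain ⟨T, hT'⟩ := ((isPGroup_Vq hT P).comap_subtype : IsPGroup 2 ((Vq hT π).subgroupOf X)).exists_le_sylow
  have hV' : Strong.Closed2 T ((Vq hT π).subgroupOf X) := by
    refine ⟨hT', fun w hw => Subtype.ext (Vq_sq hT P _ hw), fun w hw g hg => ?_, fun g hg hodd w hw => ?_⟩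
    · exact two_closed hT P (T.2.map X.subtype) (fun y hy => ⟨⟨y, hVX hy⟩, hT' hy, rfl⟩) hw
        ⟨g * w * g⁻¹, hg, rfl⟩
    · have hgN : (g : Q) ∈ normalizer (Vq hT π : Set Q) := mem_normalizer_of_conj_mem fun y hy =>
        conj_mem_of_normalizer hg (x := (⟨y, hVX hy⟩ : X)) hy
      exact Subtype.ext (odd_point hT P hgN (by rwa [Subgroup.orderOf_coe]) hv hv1
        (mem_centralizer_singleton_iff.1 g.2) _ hw)
  obtain ⟨o, ho, m, hm, e⟩ := hV'.decomp ⟨x, mem_centralizer_singleton_iff.2 hx⟩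
  refine ⟨o, mem_Oc_iff.2 ⟨o.2, ho⟩, m, mem_normalizer_of_conj_mem fun y hy =>
    conj_mem_of_normalizer hm (x := (⟨y, hVX hy⟩ : X)) hy, mem_centralizer_singleton_iff.1 m.2,
    congrArg Subtype.val e⟩

theorem core_cV_le {v : Q} (hv : v ∈ Vq hT π) (hv1 : v ≠ 1) :
    (Cfsg.oddCore (centralizer (Vq hT π : Set Q))).map (centralizer (Vq hT π : Set Q)).subtype ≤ Oc v := by
  set OV := (Cfsg.oddCore (centralizer (Vq hT π : Set Q))).map (centralizer (Vq hT π : Set Q)).subtype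
  have hOVc : OV ≤ centralizer ({v} : Set Q) := (map_subtype_le _).trans fun y hy =>
    mem_centralizer_singleton_iff.2 (mem_centralizer_iff.1 hy v hv).symm
  have hsup : OV ⊔ Oc v ≤ Oc v := by
    refine le_Oc (sup_le hOVc (Oc_le v)) (fun g hg => ?_) ?_
    · obtain ⟨o, ho, m, hm, hmv, rfl⟩ := cent_point hT P hv hv1 (mem_centralizer_singleton_iff.1 hg)
      refine mul_mem (le_normalizer (mem_sup_right ho)) (mem_normalizer_of_cj ?_)
      have hmO : m ∈ normalizer (OV : Set Q) := LocalBalance.normalizer_le_normalizer_core (p := 2) _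
        (LocalBalance.normalizer_le_normalizer_centralizer _ hm)
      rw [cj, Subgroup.map_sup, ← cj, ← cj, cj_of_mem_normalizer hmO,
        cj_of_mem_normalizer (cent_le_normalizer_Oc v (mem_centralizer_singleton_iff.2 hmv))]
    · refine Odd.of_dvd_nat ((?_ : Odd (Nat.card OV)).mul (Oc_odd v))
        (Solvable.card_sup_dvd (hOVc.trans (cent_le_normalizer_Oc v)))
      rw [card_map_of_injective (centralizer (Vq hT π : Set Q)).subtype_injective]
      exact ocore_odd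
  exact le_sup_left.trans hsup

/-- Elements of odd order centralising a point lie in the core of its centralizer. -/
theorem odd_mem {v x : Q} (hv : v ∈ Vq hT π) (hv1 : v ≠ 1) (hx : x * v = v * x) (hodd : Odd (orderOf x)) :
    x ∈ Oc v := by
  obtain ⟨o, ho, m, hm, hmv, e⟩ := cent_point hT P hv hv1 hx
  obtain ⟨i, k, hi, hk⟩ := exists_odd_pow m
  have hmk : Odd (orderOf (m ^ 2 ^ k)) :=
    Odd.of_dvd_nat hi (orderOf_dvd_of_pow_eq_one (by rw [← pow_mul, mul_comm, pow_mul, hk]))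
  have hmC : m ^ 2 ^ k ∈ centralizer (Vq hT π : Set Q) := mem_centralizer_iff.2 fun w hw =>
    (odd_point hT P (pow_mem hm _) hmk hv hv1 ((show Commute m v from hmv).pow_left _) w hw).symm
  have hmO : m ^ 2 ^ k ∈ Oc v := core_cV_le hT P hv hv1 ((cV_decomp hT P hmC).2 hmk)
  have hmod : ∀ n : ℕ, ∃ o' ∈ Oc v, (o * m) ^ n = o' * m ^ n := fun n => by
    induction n with
    | zero => exact ⟨1, one_mem _, by simp⟩
    | succ n ih =>
      obtain ⟨o', ho', e'⟩ := ih
      refine ⟨o' * (m ^ n * o * (m ^ n)⁻¹), mul_mem ho' (conj_mem_of_normalizer (pow_mem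
        (cent_le_normalizer_Oc v (mem_centralizer_singleton_iff.2 hmv)) n) ho), ?_⟩
      rw [pow_succ, e', pow_succ]
      group
  obtain ⟨o', ho', e'⟩ := hmod (2 ^ k)
  have hxk : x ^ 2 ^ k ∈ Oc v := by
    rw [e, e']
    exact mul_mem ho' hmO
  obtain ⟨j, hj⟩ := exists_pow_eq_self_of_coprime (n := 2 ^ k) (x := x)
    (Nat.Coprime.pow_left k (Nat.coprime_two_left.2 hodd))
  rw [← hj]
  exact pow_mem hxk j

/-- The centralizer of an involution outside the image. -/
theorem cent_out {T : Sylow 2 Q} (hTm : ∀ q, q ∈ (T : Subgroup Q) ↔ ∃ a, a < 512 ∧ com a 4 = true ∧ π (fk f a) = q)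
    {s : Q} (hs : s ∈ (T : Subgroup Q)) (hsV : s ∉ Vq hT π) (hss : s * s = 1) {M : Subgroup Q}
    (hM : ∀ v ∈ Vq hT π, v ≠ 1 → centralizer ({v} : Set Q) ≤ M) : centralizer ({s} : Set Q) ≤ M := by
  classical
  haveI : Fact (Nat.Prime 2) := ⟨Nat.prime_two⟩
  set V := Vq hT π with hVdef
  have hVT : V ≤ (T : Subgroup Q) := Vq_le hT P hTm
  -- the facts on a code outside
  have houtcode : ∀ {b : Nat}, b < 512 → com b 4 = true → π (fk f b) ∉ V → π (fk f b) * π (fk f b) = 1 →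
      Nat.card ((T : Subgroup Q) ⊓ centralizer ({π (fk f b)} : Set Q) : Subgroup Q) *
        Nat.card (π.ker ⊓ (S : Subgroup G).subgroupOf (centralizer ({f 4} : Set G)) :
          Subgroup (centralizer ({f 4} : Set G))) = 64 ∧
      inR b = false ∧ 16 ≤ ((List.range 512).filter fun r => inR r && comZ b r).length ∧
      (allC fun r => cond (inR r && comZ b r) (allC fun d => cond (com d 4) (comZ d r) true) true) = true := by
    intro b hb hbc hbV hb2
    have hbR : inR b = false := by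
      rw [Bool.eq_false_iff]
      exact fun h => hbV ((mem_Vq hT P).2 ⟨b, hb, h, rfl⟩)
    obtain ⟨c1, e1⟩ := fk_mul hT P hb hb hbc hbc
    have hsqb : inZ (mm b b) = true := by
      rw [← code_one hT P (mm_lt _ _) c1, e1, map_mul, hb2]
    have h := of_allC out_facts b hb
    rw [hbc, cond_true, hbR, Bool.cond_false, hsqb, cond_true, Bool.and_eq_true, Bool.and_eq_true,
      Nat.beq_eq, Nat.ble_eq] at h
    refine ⟨?_, hbR, h.1.2, h.2⟩
    set D := (centralizer ({π (fk f b)} : Set Q)).comap π ⊓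
      (S : Subgroup G).subgroupOf (centralizer ({f 4} : Set G)) with hD
    have himg : D.map π = (T : Subgroup Q) ⊓ centralizer ({π (fk f b)} : Set Q) := by
      apply le_antisymm
      · rintro _ ⟨x, ⟨hx1, hx2⟩, rfl⟩
        obtain ⟨a, ha, hac, e⟩ := eq_root_of_mem hT hx2 x.2
        exact ⟨(hTm _).2 ⟨a, ha, hac, congrArg π (Subtype.ext ((coe_fk hT ha hac).trans e))⟩, hx1⟩
      · rintro q ⟨hq1, hq2⟩
        obtain ⟨a, ha, hac, rfl⟩ := (hTm q).1 hq1
        exact ⟨fk f a, ⟨hq2, (show (fk f a : G) ∈ (S : Subgroup G) by rw [coe_fk hT ha hac]; exact hT.mem a ha)⟩, rfl⟩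
    have hker : π.ker ⊓ D = π.ker ⊓ (S : Subgroup G).subgroupOf (centralizer ({f 4} : Set G)) := by
      refine le_antisymm (inf_le_inf_left _ inf_le_right) fun x hx => ⟨hx.1, ?_, hx.2⟩
      show π x ∈ centralizer ({π (fk f b)} : Set Q)
      rw [show π x = 1 from hx.1]
      exact one_mem _
    have h3 := SylL34.card_map_mul π D
    rw [himg, hker] at h3
    rw [h3, (card_codes hT (X := D) (fun d => com d 4 && comZ d b) fun d hd hp => ?_).2 fun x hx => ?_, h.1.1]
    · rw [Bool.and_eq_true] at hp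
      refine ⟨hp.1, mem_comap.2 (mem_centralizer_singleton_iff.2 ((cm_spec hT P hd hb hp.1 hbc).2 hp.2)), ?_⟩
      show (fk f d : G) ∈ (S : Subgroup G)
      rw [coe_fk hT hd hp.1]
      exact hT.mem d hd
    · obtain ⟨a, ha, hac, e⟩ := eq_root_of_mem hT hx.2 x.2
      have e' : fk f a = x := Subtype.ext ((coe_fk hT ha hac).trans e)
      refine ⟨a, ha, ?_, e'⟩
      rw [Bool.and_eq_true, ← cm_spec hT P ha hb hac hbc, e']
      exact ⟨hac, mem_centralizer_singleton_iff.1 hx.1⟩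
  obtain ⟨a, ha, hac, rfl⟩ := (hTm s).1 hs
  set s := π (fk f a)
  obtain ⟨hcard, haR, h16, hall⟩ := houtcode ha hac hsV hss
  set X := centralizer ({s} : Set Q) with hX
  -- the Sylow subgroup of `X`
  obtain ⟨TX, hTX⟩ := (T.2.to_le inf_le_left).comap_subtype.exists_le_sylow
    (P := ((T : Subgroup Q) ⊓ X).subgroupOf X)
  have hTXeq : ∀ y : X, y ∈ (TX : Subgroup X) → (y : Q) ∈ (T : Subgroup Q) := by
    obtain ⟨k, hk⟩ := exists_cj_le T (P := (TX : Subgroup X).map X.subtype) (TX.2.map _)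
    have hsX : (⟨s, mem_centralizer_singleton_iff.2 rfl⟩ : X) ∈ (TX : Subgroup X) :=
      hTX ⟨hs, mem_centralizer_singleton_iff.2 rfl⟩
    have hs'T : k * s * k⁻¹ ∈ (T : Subgroup Q) := hk (conj_mem_cj.2 ⟨_, hsX, rfl⟩)
    obtain ⟨b, hb, hbc, eb⟩ := (hTm _).1 hs'T
    have hbV : π (fk f b) ∉ V := fun h => hsV (by
      have h1 := two_closed hT P T.2 hVT (g := k⁻¹) h (by rw [eb, inv_inv]; simpa [mul_assoc] using hs)
      rw [eb, inv_inv] at h1
      simpa [mul_assoc] using h1)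
    obtain ⟨hcard', -⟩ := houtcode hb hbc hbV (by rw [eb]; exact conj_sq k s hss)
    have hle : cj k ((TX : Subgroup X).map X.subtype) ≤ (T : Subgroup Q) ⊓ centralizer ({π (fk f b)} : Set Q) := by
      rintro _ ⟨y, hy, rfl⟩
      refine ⟨hk (conj_mem_cj.2 hy), mem_centralizer_singleton_iff.2 ?_⟩
      show k * y * k⁻¹ * π (fk f b) = π (fk f b) * (k * y * k⁻¹)
      rw [eb, show k * y * k⁻¹ * (k * s * k⁻¹) = k * (y * s) * k⁻¹ by group,
        mem_centralizer_singleton_iff.1 (map_subtype_le _ hy)]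
      group
    have h1 := card_le_of_le hle
    rw [card_cj] at h1
    have h2 := Nat.eq_of_mul_eq_mul_right Nat.card_pos (hcard.trans hcard'.symm)
    rw [← h2] at h1
    have hle2 : (T : Subgroup Q) ⊓ X ≤ (TX : Subgroup X).map X.subtype := fun y hy => ⟨⟨y, hy.2⟩, hTX hy, rfl⟩
    have heq := eq_of_le_of_card_ge hle2 h1
    intro y hy
    exact (heq.ge ⟨y, hy, rfl⟩).1
  set U := V.subgroupOf X with hU
  have hTU : ∀ u ∈ V, u * s = s * u → (T : Subgroup Q) ≤ centralizer ({u} : Set Q) := by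
    intro u hu hus y hy
    obtain ⟨r, hr, pr, rfl⟩ := (mem_Vq hT P).1 hu
    obtain ⟨hrc, -⟩ := root_of_R hT hr pr
    obtain ⟨d, hd, hdc, rfl⟩ := (hTm y).1 hy
    have h1 := of_allC hall r hr
    rw [show (inR r && comZ a r) = true by rw [pr, Bool.true_and, ← cm_spec hT P ha hr hac hrc]; exact hus.symm,
      cond_true] at h1
    have h2 := of_allC h1 d hd
    rw [hdc, cond_true, ← cm_spec hT P hd hr hdc hrc] at h2
    exact mem_centralizer_singleton_iff.2 h2
  have hU4 : 4 ≤ Nat.card U := by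
    set E := (centralizer ({s} : Set Q)).comap π ⊓ hT.sR.subgroupOf (centralizer ({f 4} : Set G))
    have h1 : 16 ≤ Nat.card E := h16.trans (card_codes hT (X := E) _ fun r hr hp => by
      rw [Bool.and_eq_true] at hp
      obtain ⟨hrc, -⟩ := root_of_R hT hr hp.1
      refine ⟨hrc, mem_comap.2 (mem_centralizer_singleton_iff.2 ((cm_spec hT P ha hr hac hrc).2 hp.2).symm), ?_⟩
      show (fk f r : G) ∈ hT.sR
      rw [coe_fk hT hr hrc]
      exact ⟨r, hr, hp.1, rfl⟩).1
    have h2 := SylL34.card_map_mul π E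
    have h3 : Nat.card (π.ker ⊓ E : Subgroup (centralizer ({f 4} : Set G))) ≤ 4 := by
      refine (card_map_of_injective (centralizer ({f 4} : Set G)).subtype_injective).symm.trans_le ?_
      refine (card_le_of_le ?_).trans_eq hT.card_sZ
      rintro _ ⟨x, ⟨hx1, hx2⟩, rfl⟩
      exact ker_S hT P (sR_le_S hT hx2.2) hx1
    have h4 : Nat.card (E.map π) ≤ Nat.card U := by
      refine Nat.card_le_card_of_injective (fun y => (⟨⟨y, ?_⟩, ?_⟩ : U)) fun y y' h => ?_
      · obtain ⟨x, hx, e⟩ := y.2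
        rw [← e]; exact hx.1
      · obtain ⟨x, hx, e⟩ := y.2
        show (y : Q) ∈ V
        rw [← e]; exact ⟨x, hx.2, rfl⟩
      · exact Subtype.ext (congrArg (fun u : U => ((u : X) : Q)) h :)
    nlinarith
  have hclosed : Strong.Closed2 TX U := by
    refine ⟨fun u hu => hTX ⟨hVT hu, u.2⟩, fun u hu => Subtype.ext (Vq_sq hT P _ hu), fun u hu g hg => ?_,
      fun n hn hodd u hu => ?_⟩
    · exact two_closed hT P T.2 hVT hu (hTXeq _ hg)
    -- an element of odd order normalising `U` centralises it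
    set CU := centralizer ((U.map X.subtype : Subgroup Q) : Set Q) with hCU
    have huQ : ∀ {w : X}, w ∈ U → (w : Q) ∈ U.map X.subtype := fun {w} hw => ⟨w, hw, rfl⟩
    have hTCU : (T : Subgroup Q) ≤ CU := fun y hy => mem_centralizer_iff.2 (by
      rintro _ ⟨w, hw, rfl⟩
      exact (mem_centralizer_singleton_iff.1 (hTU _ hw (mem_centralizer_singleton_iff.1 w.2) hy)).symm)
    obtain ⟨u1, hu1, hu11⟩ : ∃ w ∈ U, (w : Q) ≠ 1 := by
      have hne : U ≠ ⊥ := fun h => by rw [h, Subgroup.card_bot] at hU4; omega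
      obtain ⟨⟨w, hw⟩, hwne⟩ := ne_bot_iff_exists_ne_one.1 hne
      exact ⟨w, hw, fun e => hwne (Subtype.ext (Subtype.ext e))⟩
    have hCU1 : CU ≤ centralizer ({(u1 : Q)} : Set Q) := fun y hy =>
      mem_centralizer_singleton_iff.2 (mem_centralizer_iff.1 hy _ (huQ hu1)).symm
    set O1 := (Oc (u1 : Q)).subgroupOf CU with hO1
    haveI : O1.Normal := ⟨fun y hy g => by
      rw [hO1, mem_subgroupOf] at hy ⊢
      push_cast
      exact conj_mem_of_normalizer (cent_le_normalizer_Oc _ (hCU1 g.2)) hy⟩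
    have hodd1 : ∀ g : CU, Odd (orderOf g) → g ∈ O1 := fun g hg => by
      rw [hO1, mem_subgroupOf]
      exact odd_mem hT P hu1 hu11 (mem_centralizer_singleton_iff.1 (hCU1 g.2)) (by rwa [Subgroup.orderOf_coe])
    have hnCU : ∀ y ∈ CU, (n : Q) * y * (n : Q)⁻¹ ∈ CU := fun y hy => mem_centralizer_iff.2 (by
      rintro _ ⟨w, hw, rfl⟩
      have hw' : n⁻¹ * w * n ∈ U := by
        have := conj_mem_of_normalizer (inv_mem hn) hw
        rwa [inv_inv] at this
      have h1 := mem_centralizer_iff.1 hy _ (huQ hw')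
      push_cast at h1
      show (w : Q) * ((n : Q) * y * (n : Q)⁻¹) = (n : Q) * y * (n : Q)⁻¹ * w
      calc (w : Q) * ((n : Q) * y * (n : Q)⁻¹) = n * ((n : Q)⁻¹ * w * n * y) * (n : Q)⁻¹ := by group
        _ = n * (y * ((n : Q)⁻¹ * w * n)) * (n : Q)⁻¹ := by rw [h1]
        _ = (n : Q) * y * (n : Q)⁻¹ * w := by group)
    have hnT : cj (n : Q) (T : Subgroup Q) ≤ CU := by
      rintro _ ⟨y, hy, rfl⟩
      exact hnCU y (hTCU hy)
    obtain ⟨g, hg⟩ := exists_cj_le (T.subtype hTCU) (P := (cj (n : Q) (T : Subgroup Q)).subgroupOf CU)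
      ((T.2.map _).comap_subtype)
    obtain ⟨o, ho, t, ht, eg⟩ := decomp_of_odd (T.subtype hTCU) O1 hodd1 g⁻¹
    -- the correction lies in the odd subgroup
    set n1 := (o : Q)⁻¹ * (n : Q) with hn1
    have hn1T : ∀ y ∈ (T : Subgroup Q), n1 * y * n1⁻¹ ∈ (T : Subgroup Q) := fun y hy => by
      have h1 : (g : Q) * ((n : Q) * y * (n : Q)⁻¹) * (g : Q)⁻¹ ∈ (T : Subgroup Q) :=
        hg (conj_mem_cj.2 (show (⟨_, hnCU y (hTCU hy)⟩ : CU) ∈ (cj (n : Q) (T : Subgroup Q)).subgroupOf CU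
          from ⟨y, hy, rfl⟩))
      have h2 := mul_mem (mul_mem (show (t : Q) ∈ (T : Subgroup Q) from ht) h1) (inv_mem (show (t : Q) ∈ (T : Subgroup Q) from ht))
      have e2 : (o : Q)⁻¹ = (t : Q) * (g : Q) := by
        have e3 : (g : Q)⁻¹ = (o : Q) * (t : Q) := congrArg Subtype.val eg
        rw [← inv_inv (g : Q), e3]
        group
      rw [hn1, show (o : Q)⁻¹ * (n : Q) * y * ((o : Q)⁻¹ * (n : Q))⁻¹ =
        (o : Q)⁻¹ * ((n : Q) * y * (n : Q)⁻¹) * (o : Q)⁻¹⁻¹ by group, e2]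
      rwa [show (t : Q) * (g : Q) * ((n : Q) * y * (n : Q)⁻¹) * ((t : Q) * (g : Q))⁻¹ =
        (t : Q) * ((g : Q) * ((n : Q) * y * (n : Q)⁻¹) * (g : Q)⁻¹) * (t : Q)⁻¹ by group]
    have hn1V : n1 ∈ normalizer (V : Set Q) := mem_normalizer_of_conj_mem fun y hy =>
      two_closed hT P T.2 hVT hy (hn1T y (hVT hy))
    have hn1s : n1 * s = s * n1 := by
      have hns : (n : Q) * s * (n : Q)⁻¹ = s := by
        rw [mem_centralizer_singleton_iff.1 n.2, mul_inv_cancel_right]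
      have hsCU : s ∈ CU := hTCU hs
      have h1 : (o : Q)⁻¹ * s * (o : Q) * s⁻¹ = 1 := by
        refine inf_eq_bot_of_odd (Oc_odd (u1 : Q)) T.2 ?_ ?_
        · rw [show (o : Q)⁻¹ * s * (o : Q) * s⁻¹ = (o : Q)⁻¹ * (s * (o : Q) * s⁻¹) by group]
          exact mul_mem (inv_mem ho) (conj_mem_of_normalizer (cent_le_normalizer_Oc _ (hCU1 hsCU)) ho)
        · have := hn1T s hs
          rw [hn1, show (o : Q)⁻¹ * (n : Q) * s * ((o : Q)⁻¹ * (n : Q))⁻¹ =
            (o : Q)⁻¹ * ((n : Q) * s * (n : Q)⁻¹) * (o : Q) by group, hns] at this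
          exact mul_mem this (inv_mem hs)
      have h2 := mul_inv_eq_one.1 h1
      rw [hn1, mul_assoc, mem_centralizer_singleton_iff.1 n.2, ← mul_assoc, ← mul_assoc]
      congr 1
      calc (o : Q)⁻¹ * s = (o : Q)⁻¹ * s * (o : Q) * (o : Q)⁻¹ := by group
        _ = s * (o : Q)⁻¹ := by rw [h2]
    have hact : ∀ i : ℕ, ∀ w ∈ U, n1 ^ i * (w : Q) * (n1 ^ i)⁻¹ = (n : Q) ^ i * (w : Q) * ((n : Q) ^ i)⁻¹ := by
      intro i
      induction i with
      | zero => intro w _; simp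
      | succ i ih =>
        intro w hw
        have hw' : n ^ i * w * (n ^ i)⁻¹ ∈ U := conj_mem_of_normalizer (pow_mem hn i) hw
        have hw'' : n * (n ^ i * w * (n ^ i)⁻¹) * n⁻¹ ∈ U := conj_mem_of_normalizer hn hw'
        have h1 := mem_centralizer_iff.1 o.2 _ (huQ hw'')
        push_cast at h1
        calc n1 ^ (i + 1) * (w : Q) * (n1 ^ (i + 1))⁻¹
            = n1 * (n1 ^ i * (w : Q) * (n1 ^ i)⁻¹) * n1⁻¹ := by rw [pow_succ', mul_inv_rev]; group
          _ = (o : Q)⁻¹ * ((n : Q) * ((n : Q) ^ i * (w : Q) * ((n : Q) ^ i)⁻¹) * (n : Q)⁻¹ * (o : Q)) := by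
            rw [ih w hw, hn1]; group
          _ = (n : Q) * ((n : Q) ^ i * (w : Q) * ((n : Q) ^ i)⁻¹) * (n : Q)⁻¹ := by
            rw [h1, inv_mul_cancel_left]
          _ = (n : Q) ^ (i + 1) * (w : Q) * ((n : Q) ^ (i + 1))⁻¹ := by rw [pow_succ', mul_inv_rev]; group
    obtain ⟨i, k, hi, hk⟩ := exists_odd_pow n1
    have h1odd : Odd (orderOf (n1 ^ 2 ^ k)) :=
      Odd.of_dvd_nat hi (orderOf_dvd_of_pow_eq_one (by rw [← pow_mul, mul_comm, pow_mul, hk]))
    have h1 := odd_out hT P (pow_mem hn1V _) h1odd ha hac haR ((show Commute n1 s from hn1s).pow_left _) (u : Q) hu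
    refine Strong.comm_of_pow (k := k) hodd (Subtype.ext ?_)
    push_cast
    have h2 := hact (2 ^ k) u hu
    rw [h1, mul_inv_cancel_right] at h2
    exact (eq_mul_inv_iff_mul_eq.1 h2).symm
  obtain ⟨v0, hv0, hv01, -, hiso⟩ := hclosed.exists_isolated fun h => by rw [h, Subgroup.card_bot] at hU4; omega
  intro g hg
  obtain ⟨o, ho, d, hd, e⟩ := IsoApps.exists_mul hiso ⟨g, hg⟩
  rw [show g = (o : Q) * d from congrArg Subtype.val e]
  refine mul_mem ?_ (hM _ hv0 (fun h => hv01 (Subtype.ext h))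
    (mem_centralizer_singleton_iff.2 (congrArg Subtype.val (mem_centralizer_singleton_iff.1 hd))))
  have hel : Cfsg.IsElementaryAbelian 2 (U.map X.subtype) := by
    refine ⟨⟨⟨fun x y => Subtype.ext ?_⟩⟩, fun x hx => ?_⟩
    · obtain ⟨w, hw, e1⟩ := x.2
      obtain ⟨w', hw', e2⟩ := y.2
      show (x : Q) * y = y * x
      rw [← e1, ← e2]
      exact Vq_comm hT P hw hw'
    · obtain ⟨w, hw, rfl⟩ := hx
      rw [pow_two]
      exact Vq_sq hT P _ hw
  refine Signalizer.le_of_forall_centralizer hel le_rfl (X := Oc s) ?_ ?_ (Oc_odd s).not_two_dvd_nat ?_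
    (mem_Oc_iff.2 ⟨o.2, ho⟩)
  · rw [card_map_of_injective X.subtype_injective]; exact hU4
  · exact (map_subtype_le _).trans (cent_le_normalizer_Oc s)
  · rintro e ⟨w, hw, rfl⟩ he1 y hy
    exact hM _ hw he1 hy.2

/-- The image of `R` is normal and self-centralising when the core is trivial. -/
theorem normal_Vq (hO : Cfsg.oddCore Q = ⊥) :
    normalizer (Vq hT π : Set Q) = ⊤ ∧ centralizer (Vq hT π : Set Q) ≤ Vq hT π := by
  haveI : Fact (Nat.Prime 2) := ⟨Nat.prime_two⟩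
  obtain ⟨T, hTm⟩ := exists_T hT P
  set V := Vq hT π
  have hVT : V ≤ (T : Subgroup Q) := Vq_le hT P hTm
  obtain ⟨W, hWodd, hWle, -, hWN, -⟩ := closure_props (Vq_sq hT P) (le_trans (by norm_num) (card_Vq hT P))
    (fun a _ _ b hb hb1 x hx hxb => odd_mem hT P hb hb1 hxb (odd_orderOf_of_mem (Oc_odd a) hx))
  obtain ⟨hoc, hoR, hosq, h2R, h2Z, -⟩ := out_exists
  have hs0 : π (fk f 145) ∉ V := fun h => by
    obtain ⟨r, hr, pr, e⟩ := (mem_Vq hT P).1 h
    obtain ⟨hrc, -⟩ := root_of_R hT hr pr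
    obtain ⟨c1, e1⟩ := fk_inv hT P hr hrc
    obtain ⟨c2, e2⟩ := fk_mul hT P (show 145 < 512 by norm_num) (mm_zero hr).2.2.1 hoc c1
    have h1 : inZ (mm 145 (iv r)) = true := by
      rw [← code_one hT P (mm_lt _ _) c2, e2, e1, map_mul, map_inv, e, mul_inv_cancel]
    have h2 := of_allC (of_allC (by decide +kernel : allC (fun r => allC fun z => cond (inR r) (cond (inZ z)
      (inR (mm z r)) true) true) = true) r hr) (mm 145 (iv r)) (mm_lt _ _)
    rw [pr, cond_true, h1, cond_true] at h2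
    have h3 : mm (mm 145 (iv r)) r = 145 := by
      refine hT.inj _ _ (mm_lt _ _) (by norm_num) ?_
      rw [hT.mul _ _ (mm_lt _ _) hr, hT.mul _ _ (by norm_num) (mm_zero hr).2.2.1, hT.map_iv hr, inv_mul_cancel_right]
    rw [h3, hoR] at h2
    exact Bool.false_ne_true h2
  have hgen : (T : Subgroup Q) ≤ closure {y : Q | y * y = 1} := by
    intro x hx
    obtain ⟨a, ha, hac, rfl⟩ := (hTm x).1 hx
    have h1 := of_allC gen_facts a ha
    rw [hac, cond_true] at h1
    obtain ⟨b, hb, h2⟩ := anyL_iff.1 h1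
    rw [List.mem_range] at hb
    rw [Bool.and_eq_true, Bool.and_eq_true] at h2
    obtain ⟨⟨hbc, hb2⟩, hab⟩ := h2
    obtain ⟨c1, e1⟩ := fk_inv hT P hb hbc
    obtain ⟨c2, e2⟩ := fk_mul hT P (mm_zero hb).2.2.1 ha c1 hac
    have hinv : ∀ {d : Nat}, d < 512 → com d 4 = true → inZ (mm d d) = true → π (fk f d) * π (fk f d) = 1 := by
      intro d hd hdc hdd
      obtain ⟨c3, e3⟩ := fk_mul hT P hd hd hdc hdc
      rw [← map_mul, ← e3, code_one hT P (mm_lt _ _) c3]
      exact hdd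
    rw [show π (fk f a) = π (fk f b) * π (fk f (mm (iv b) a)) by
      rw [e2, e1, map_mul, map_inv, mul_inv_cancel_left]]
    exact mul_mem (subset_closure (hinv hb hbc hb2)) (subset_closure (hinv (mm_lt _ _) c2 hab))
  have hNT : normalizer ((T : Subgroup Q) : Set Q) ≤ normalizer (V : Set Q) := fun n hn =>
    mem_normalizer_of_conj_mem fun v hv => two_closed hT P T.2 hVT hv (conj_mem_of_normalizer hn (hVT hv))
  have h2r : (2 : Nat) < 512 := by norm_num
  have hv2 : π (fk f 2) ∈ V := (mem_Vq hT P).2 ⟨2, h2r, h2R, rfl⟩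
  have hv21 : π (fk f 2) ≠ 1 := by
    rw [ne_eq, code_one hT P h2r (root_of_R hT h2r h2R).1, h2Z]
    exact Bool.false_ne_true
  have hs2 : π (fk f 145) * π (fk f 145) = 1 := by
    obtain ⟨c1, e1⟩ := fk_mul hT P (show 145 < 512 by norm_num) (show 145 < 512 by norm_num) hoc hoc
    rw [← map_mul, ← e1, code_one hT P (mm_lt _ _) c1]
    exact hosq
  have hs1 : π (fk f 145) ≠ 1 := fun h => hs0 (h ▸ one_mem V)
  have htop : ∀ M : Subgroup Q, normalizer (V : Set Q) ≤ M → (∀ b ∈ V, b ≠ 1 → Oc b ≤ M) → M = ⊤ := by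
    intro M hNM hOM
    have hCb : ∀ b ∈ V, b ≠ 1 → centralizer ({b} : Set Q) ≤ M := by
      intro b hb hb1 g hg
      obtain ⟨o, ho, m, hm, -, rfl⟩ := cent_point hT P hb hb1 (mem_centralizer_singleton_iff.1 hg)
      exact mul_mem (hOM b hb hb1 ho) (hNM hm)
    refine top_of_cent T hgen (hNT.trans hNM) (fun s hs hs2' => ?_) (hVT hv2)
      (order_two (Vq_sq hT P _ hv2) hv21) ((hTm _).2 ⟨145, by norm_num, hoc, rfl⟩) (order_two hs2 hs1) fun hc => ?_
    · by_cases hsV : s ∈ V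
      · exact hCb s hsV (Invol.ne_one hs2')
      · exact cent_out hT P hTm hs hsV (Invol.mul_self_eq_one hs2') hCb
    · obtain ⟨g, hg⟩ := isConj_iff.1 hc
      exact hs0 (hg ▸ two_closed hT P T.2 hVT hv2 (hg ▸ (hTm _).2 ⟨145, by norm_num, hoc, rfl⟩))
  have hW : W = ⊥ := by
    have hM := htop (normalizer (W : Set Q)) hWN fun b hb hb1 => (hWle b hb hb1).trans le_normalizer
    exact le_bot_iff.1 (hO ▸ le_ocore (normalizer_eq_top_iff.1 hM) hWodd)
  have hOb : ∀ b ∈ V, b ≠ 1 → ∀ o ∈ Oc b, o = 1 := fun b hb hb1 o ho => by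
    have := hWle b hb hb1 ho
    rwa [hW, mem_bot] at this
  refine ⟨htop _ le_rfl fun b hb hb1 o ho => hOb b hb hb1 o ho ▸ one_mem _, fun x hx => ?_⟩
  obtain ⟨⟨o, ho, w, hw, rfl⟩, -⟩ := cV_decomp hT P hx
  rw [hOb _ hv2 hv21 o (core_cV_le hT P hv2 hv21 ho), one_mul]
  exact hw

end CfsgLib.HSSylow
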