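import Cfsg.Agent.HSSylow.Engine

/-!
Soundness of the search and of the tests at its leaves.
-/

set_option autoImplicit false
set_option linter.unusedSectionVars false

namespace CfsgLib.HSSylow

open Subgroup CfsgLib.Coset

theorem nth_mem {l : List Nat} {i : Nat} (h : i < l.length) : nth l i ∈ l := by
  induction l generalizing i with
  | nil => simp at h
  | cons a l ih =>
    cases i with
    | zero => rw [nth_zero]; simp
    | succ i => rw [nth_succ]; exact List.mem_cons_of_mem _ (ih (by simpa using h))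

theorem nth_append {l : List Nat} {a i : Nat} (h : i < l.length) : nth (l ++ [a]) i = nth l i := by
  induction l generalizing i with
  | nil => simp at h
  | cons b l ih =>
    cases i with
    | zero => rfl
    | succ i => rw [List.cons_append, nth_succ, nth_succ]; exact ih (by simpa using h)

theorem nth_last (l : List Nat) (a : Nat) : nth (l ++ [a]) l.length = a := by
  induction l with
  | nil => rfl
  | cons b l ih => rw [List.cons_append, List.length_cons, nth_succ]; exact ih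

theorem nth_map {l : List Nat} {φ : Nat → Nat} {i : Nat} (h : i < l.length) : nth (l.map φ) i = φ (nth l i) := by
  induction l generalizing i with
  | nil => simp at h
  | cons b l ih =>
    cases i with
    | zero => rfl
    | succ i => rw [List.map_cons, nth_succ, nth_succ]; exact ih (by simpa using h)

theorem nth_map_fst {l : List (Nat × Nat)} {i : Nat} (h : i < l.length) :
    ∃ q ∈ l, nth (l.map Prod.fst) i = q.1 ∧ nth (l.map Prod.snd) i = q.2 := by
  induction l generalizing i with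
  | nil => simp at h
  | cons b l ih =>
    cases i with
    | zero => exact ⟨b, by simp, rfl, rfl⟩
    | succ i =>
      obtain ⟨q, hq, h1, h2⟩ := ih (by simpa using h)
      exact ⟨q, List.mem_cons_of_mem _ hq, h1, h2⟩

theorem cond_false {b c : Bool} : cond b c false = true ↔ b = true ∧ c = true := cond_false_eq_true

variable {G : Type*} [Group G] {T : Subgroup G} {f : Nat → G} (hT : Tab T f)

/-- `g` conjugates each source to its image. -/
def ConjMap (f : Nat → G) (g : G) (ws ys : List Nat) : Prop :=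
  ws.length = ys.length ∧
    ∀ i < ws.length, nth ws i < 512 ∧ nth ys i < 512 ∧ g * f (nth ws i) * g⁻¹ = f (nth ys i)

include hT

theorem ConjMap.evc_eq {g : G} {ws ys : List Nat} (h : ConjMap f g ws ys) (w : List Nat)
    (hw : ∀ i ∈ w, i < ws.length) :
    evc ws w < 512 ∧ evc ys w < 512 ∧ g * f (evc ws w) * g⁻¹ = f (evc ys w) := by
  suffices H : ∀ (w : List Nat), (∀ i ∈ w, i < ws.length) → ∀ r r' : Nat, r < 512 → r' < 512 →
      g * f r * g⁻¹ = f r' →
      (List.rec (motive := fun _ => Nat → Nat) (fun r => r) (fun i _ ih r => ih (mm r (nth ws i))) w r) < 512 ∧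
      (List.rec (motive := fun _ => Nat → Nat) (fun r => r) (fun i _ ih r => ih (mm r (nth ys i))) w r') < 512 ∧
      g * f (List.rec (motive := fun _ => Nat → Nat) (fun r => r) (fun i _ ih r => ih (mm r (nth ws i))) w r) * g⁻¹
        = f (List.rec (motive := fun _ => Nat → Nat) (fun r => r) (fun i _ ih r => ih (mm r (nth ys i))) w r') from
    H w hw 0 0 (by norm_num) (by norm_num) (by rw [hT.map_zero]; group)
  intro w
  induction w with
  | nil => exact fun _ r r' hr hr' e => ⟨hr, hr', e⟩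
  | cons i w ih =>
    intro hw r r' hr hr' e
    obtain ⟨h1, h2, h3⟩ := h.2 i (hw i List.mem_cons_self)
    refine ih (fun j hj => hw j (List.mem_cons_of_mem _ hj)) _ _ (mm_lt _ _) (mm_lt _ _) ?_
    rw [hT.mul _ _ hr h1, hT.mul _ _ hr' h2, ← e, ← h3]
    group

theorem ConjMap.holds {g : G} {ws ys : List Nat} (h : ConjMap f g ws ys) (c : Cons)
    (hc : ∀ i ∈ c.lhs ++ c.rhs, i < ws.length) : c.holds ys = c.holds ws := by
  obtain ⟨a1, a2, a3⟩ := h.evc_eq hT c.lhs fun i hi => hc i (List.mem_append_left _ hi)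
  obtain ⟨b1, b2, b3⟩ := h.evc_eq hT c.rhs fun i hi => hc i (List.mem_append_right _ hi)
  have key : Nat.beq (evc ys c.lhs) (evc ys c.rhs) = Nat.beq (evc ws c.lhs) (evc ws c.rhs) := by
    rw [Bool.eq_iff_iff, Nat.beq_eq, Nat.beq_eq, ← hT.eq_iff a2 b2, ← a3, ← b3, mul_left_inj, mul_right_inj,
      hT.eq_iff a1 b1]
  rw [Cons.holds, Cons.holds, key]

theorem ConjMap.push {g : G} {ws ys : List Nat} (h : ConjMap f g ws ys) {w y : Nat} (hw : w < 512)
    (hy : y < 512) (e : g * f w * g⁻¹ = f y) : ConjMap f g (ws ++ [w]) (ys ++ [y]) := by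
  refine ⟨by simp [h.1], fun i hi => ?_⟩
  rcases Nat.lt_or_ge i ws.length with h' | h'
  · rw [nth_append h', nth_append (h.1 ▸ h')]
    exact h.2 i h'
  · obtain rfl : i = ws.length := by simp at hi; omega
    rw [nth_last, h.1, nth_last]
    exact ⟨hw, hy, e⟩

theorem search_leaf {g : G} {leaf : List Nat → Bool} : ∀ (lv : List Lev) (ws ys : List Nat),
    ConjMap f g ws ys → (∀ l ∈ lv, l.gen < 512 ∧ ∃ y, y < 512 ∧ g * f l.gen * g⁻¹ = f y ∧ y ∈ l.cands) →
    checkSrc lv ws = true → checkIdx lv ws.length = true → search lv leaf ys = true →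
    ∃ ys', ConjMap f g (ws ++ lv.map Lev.gen) ys' ∧ leaf ys' = true
  | [], ws, ys, h, _, _, _, hs => ⟨ys, by simpa using h, hs⟩
  | l :: lv, ws, ys, h, hl, hsrc, hidx, hs => by
    obtain ⟨hgen, y, hy, hey, hyc⟩ := hl l List.mem_cons_self
    obtain ⟨hsrc1, hsrc2⟩ := cond_false.1 (hsrc : cond _ _ false = true)
    obtain ⟨hidx1, hidx2⟩ := cond_false.1 (hidx : cond _ _ false = true)
    have hs1 := allL_iff.1 (hs : allL l.cands _ = true) y hyc
    have h' := h.push hT hgen hy hey
    rw [show (allL l.cons fun c => c.holds (ys ++ [y])) = true from allL_iff.2 fun c hc => by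
      rw [h'.holds hT c fun i hi => ?_]
      · exact allL_iff.1 hsrc1 c hc
      · have := Nat.le_of_ble_eq_true (allL_iff.1 (allL_iff.1 hidx1 c hc) i hi)
        simp only [List.length_append, List.length_cons, List.length_nil]
        omega, cond_true] at hs1
    obtain ⟨ys', h1, h2⟩ := search_leaf lv (ws ++ [l.gen]) (ys ++ [y]) h'
      (fun m hm => hl m (List.mem_cons_of_mem _ hm)) hsrc2
      (by rw [List.length_append, List.length_singleton]; exact hidx2) hs1
    exact ⟨ys', by simpa [List.append_assoc] using h1, h2⟩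

theorem od_conj {g : G} {w a : Nat} (hw : w < 512) (ha : a < 512) (e : g * f w * g⁻¹ = f a) : od a = od w := by
  have key : ∀ {x y : Nat}, x < 512 → y < 512 → g * f x * g⁻¹ = f y → Nat.beq y 0 = Nat.beq x 0 := by
    intro x y hx hy e
    rw [Bool.eq_iff_iff, Nat.beq_eq, Nat.beq_eq, ← hT.eq_one_iff hx, ← hT.eq_one_iff hy, ← e, conj_eq_one_iff]
  have hsq : ∀ {x y : Nat}, x < 512 → y < 512 → g * f x * g⁻¹ = f y → g * f (mm x x) * g⁻¹ = f (mm y y) := by
    intro x y hx hy e
    rw [hT.mul _ _ hx hx, hT.mul _ _ hy hy, ← e]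
    group
  rw [od, od, key hw ha e, key (mm_lt _ _) (mm_lt _ _) (hsq hw ha e),
    key (mm_lt _ _) (mm_lt _ _) (hsq (mm_lt _ _) (mm_lt _ _) (hsq hw ha e))]

theorem mayBe_conj {g : G} {fixd : List (Nat × Nat)} {w a : Nat} (hw : w < 512) (ha : a < 512)
    (hfd : ∀ q ∈ fixd, q.1 < 512 ∧ q.2 < 512 ∧ g * f q.1 * g⁻¹ = f q.2) (e : g * f w * g⁻¹ = f a) :
    mayBe fixd w a = true := by
  rw [mayBe, od_conj hT hw ha e, show Nat.beq (od w) (od w) = true by rw [Nat.beq_eq], cond_true]
  refine allL_iff.2 fun q hq => ?_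
  obtain ⟨h1, h2, h3⟩ := hfd q hq
  have : com a q.2 = com w q.1 := by
    rw [Bool.eq_iff_iff, hT.com_iff ha h2, hT.com_iff hw h1, ← e, ← h3,
      show g * f w * g⁻¹ * (g * f q.1 * g⁻¹) = g * (f w * f q.1) * g⁻¹ by group,
      show g * f q.1 * g⁻¹ * (g * f w * g⁻¹) = g * (f q.1 * f w) * g⁻¹ by group, mul_left_inj, mul_right_inj]
  rw [this]
  cases com w q.1 <;> rfl

/-- The search is sound, after a correction by an element of the Sylow subgroup fixing the fixed images. -/
theorem Job.exists_leaf (j : Job) {leaf : List Nat → Bool} (hc : j.check = true)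
    (hs : search j.lv leaf (j.fixd.map Prod.snd) = true) (g : G)
    (hfix : ∀ q ∈ j.fixd, g * f q.1 * g⁻¹ = f q.2) (hgen : ∀ l ∈ j.lv, g * f l.gen * g⁻¹ ∈ T) :
    ∃ h, h < 512 ∧ (∀ q ∈ j.fixd, f h * f q.2 * (f h)⁻¹ = f q.2) ∧
      ∃ ys, ConjMap f (f h * g) j.ws ys ∧ leaf ys = true := by
  obtain ⟨hc1, hc2⟩ := cond_false.1 (hc : cond _ _ false = true)
  obtain ⟨hc2, hc3⟩ := cond_false.1 hc2
  obtain ⟨hc3, hc4⟩ := cond_false.1 hc3
  obtain ⟨hc4, hc5⟩ := cond_false.1 hc4
  obtain ⟨hc5, hc6⟩ := cond_false.1 hc5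
  have hlt : ∀ q ∈ j.fixd, q.1 < 512 ∧ q.2 < 512 := fun q hq =>
    (cond_false.1 (allL_iff.1 hc1 q hq)).imp Nat.le_of_ble_eq_true Nat.le_of_ble_eq_true
  have hgl : ∀ l ∈ j.lv, l.gen < 512 := fun l hl => Nat.le_of_ble_eq_true (allL_iff.1 hc2 l hl)
  obtain ⟨h, hh, hcom, hfirst⟩ : ∃ h, h < 512 ∧ (∀ q ∈ j.fixd, f h * f q.2 * (f h)⁻¹ = f q.2) ∧
      ∀ l rest, j.lv = l :: rest → ∃ y, y < 512 ∧ f h * g * f l.gen * (f h * g)⁻¹ = f y ∧ y ∈ l.cands := by
    cases hlv : j.lv with
    | nil =>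
      refine ⟨0, by norm_num, fun q _ => by rw [hT.map_zero]; group, fun l rest h => ?_⟩
      exact absurd h (List.cons_ne_nil l rest).symm
    | cons l rest =>
      have hl : l ∈ j.lv := hlv ▸ List.mem_cons_self
      obtain ⟨a, ha, ea⟩ := hT.surj _ (hgen l hl)
      have hm := mayBe_conj hT (hgl l hl) ha (fun q hq => ⟨(hlt q hq).1, (hlt q hq).2, hfix q hq⟩) ea.symm
      have h1 : checkFirst j = true := hc3
      rw [checkFirst, hlv] at h1
      have h2 := of_allC h1 a ha
      rw [hm, cond_true] at h2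
      obtain ⟨h3, h4⟩ := cond_false.1 h2
      obtain ⟨y, hy, hey⟩ := anyL_iff.1 h4
      have hk : Nat.land (Nat.shiftRight j.wit (Nat.mul 9 a)) 511 < 512 := Nat.lt_succ_of_le Nat.and_le_right
      have hey' := Nat.eq_of_beq_eq_true hey
      refine ⟨Nat.land (Nat.shiftRight j.wit (Nat.mul 9 a)) 511, hk,
        fun q hq => ?_, fun m rest' e => ?_⟩
      · rw [(hT.com_iff hk (hlt q hq).2).1 (allL_iff.1 h3 q hq),
          mul_inv_cancel_right]
      · obtain ⟨rfl, -⟩ := List.cons.inj e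
        refine ⟨y, hey' ▸ mm_lt _ _, ?_, hy⟩
        rw [← hey', hT.map_cnj hk ha, ea]
        group
  refine ⟨h, hh, hcom, ?_⟩
  have hfix' : ∀ q ∈ j.fixd, f h * g * f q.1 * (f h * g)⁻¹ = f q.2 := fun q hq => by
    calc f h * g * f q.1 * (f h * g)⁻¹ = f h * (g * f q.1 * g⁻¹) * (f h)⁻¹ := by group
      _ = f q.2 := by rw [hfix q hq, hcom q hq]
  refine search_leaf hT j.lv (j.fixd.map Prod.fst) (j.fixd.map Prod.snd) ?_ (fun l hl => ⟨hgl l hl, ?_⟩)
    hc6 (by rw [List.length_map]; exact hc5) hs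
  · refine ⟨by simp, fun i hi => ?_⟩
    obtain ⟨q, hq, e1, e2⟩ := nth_map_fst (by simpa using hi)
    rw [e1, e2]
    exact ⟨(hlt q hq).1, (hlt q hq).2, hfix' q hq⟩
  · cases hlv : j.lv with
    | nil => rw [hlv] at hl; simp at hl
    | cons l₀ rest =>
      rw [hlv] at hl
      rcases List.mem_cons.1 hl with rfl | hl'
      · exact hfirst l rest hlv
      · have hlj : l ∈ j.lv := hlv ▸ List.mem_cons_of_mem _ hl'
        have hmem : f h * g * f l.gen * (f h * g)⁻¹ ∈ T := by
          rw [show f h * g * f l.gen * (f h * g)⁻¹ = f h * (g * f l.gen * g⁻¹) * (f h)⁻¹ by group]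
          exact mul_mem (mul_mem (hT.mem h hh) (hgen l hlj)) (inv_mem (hT.mem h hh))
        obtain ⟨a, ha, ea⟩ := hT.surj _ hmem
        have hm := mayBe_conj hT (hgl l hlj) ha
          (fun q hq => ⟨(hlt q hq).1, (hlt q hq).2, hfix' q hq⟩) ea.symm
        have h1 : checkRest j.fixd j.lv.tail = true := hc4
        rw [hlv, List.tail_cons] at h1
        have h2 := of_allC (allL_iff.1 h1 l hl') a ha
        rw [hm, cond_true] at h2
        obtain ⟨b, hb, hab⟩ := anyL_iff.1 h2
        exact ⟨a, ha, ea.symm, Nat.eq_of_beq_eq_true hab ▸ hb⟩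

omit hT in
/-- The labels only identify conjugate classes. -/
theorem mergeAll_good {R : Nat → Nat → Prop} (hrefl : ∀ i, R i i) (hsymm : ∀ i k, R i k → R k i)
    (htrans : ∀ i k l, R i k → R k l → R i l) : ∀ (pairs : List (Nat × Nat)) (lab : List Nat),
    lab.length = 10 → (∀ i k, i < 10 → k < 10 → nth lab i = nth lab k → R i k) →
    (∀ q ∈ pairs, q.1 < 10 → q.2 < 10 → R q.1 q.2) →
    ∀ i k, i < 10 → k < 10 → nth (mergeAll lab pairs) i = nth (mergeAll lab pairs) k → R i k
  | [], lab, _, hg, _ => hg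
  | q :: pairs, lab, hl, hg, hp => by
    show ∀ i k, i < 10 → k < 10 →
      nth (mergeAll (merge lab q.1 q.2) pairs) i = nth (mergeAll (merge lab q.1 q.2) pairs) k → R i k
    refine mergeAll_good hrefl hsymm htrans pairs _ ?_ ?_ fun r hr => hp r (List.mem_cons_of_mem _ hr)
    · unfold merge
      cases cond (Nat.blt q.1 10) (Nat.blt q.2 10) false <;> simp [hl]
    · intro i k hi hk
      cases hb : cond (Nat.blt q.1 10) (Nat.blt q.2 10) false with
      | false => rw [merge, hb]; exact hg i k hi hk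
      | true =>
        obtain ⟨h1, h2⟩ := cond_false.1 hb
        have ha := Nat.le_of_ble_eq_true h1
        have hb' := Nat.le_of_ble_eq_true h2
        have hR := hp q List.mem_cons_self ha hb'
        rw [merge, hb, cond_true, nth_map (hl.symm ▸ hi), nth_map (hl.symm ▸ hk)]
        have hto : ∀ i, i < 10 → nth lab i = nth lab q.2 → R i q.1 := fun i hi e =>
          htrans _ _ _ (hg i q.2 hi hb' e) (hsymm _ _ hR)
        cases hbi : Nat.beq (nth lab i) (nth lab q.2) <;> cases hbk : Nat.beq (nth lab k) (nth lab q.2) <;>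
          simp only [cond_true, Bool.cond_false] <;> intro e
        · exact hg i k hi hk e
        · exact htrans _ _ _ (hg i q.1 hi ha e) (hsymm _ _ (hto k hk (Nat.eq_of_beq_eq_true hbk)))
        · exact htrans _ _ _ (hto i hi (Nat.eq_of_beq_eq_true hbi)) (hg q.1 k ha hk e)
        · exact htrans _ _ _ (hto i hi (Nat.eq_of_beq_eq_true hbi)) (hsymm _ _ (hto k hk (Nat.eq_of_beq_eq_true hbk)))

theorem isConj_rep {a : Nat} (ha : a < 512) (h : cls a < 10) : IsConj (f a) (f (rep (cls a))) := by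
  obtain ⟨k, hk, e⟩ := exists_cnj_rep ha h
  exact isConj_iff.2 ⟨f k, by rw [← e, hT.map_cnj hk ha]⟩

/-- A test that succeeds gives a fusion of classes or the image of a word. -/
theorem Test.sound (t : Test) {g : G} {ws ys : List Nat} (hm : ConjMap f g ws ys) (hc : t.check ws = true)
    (hr : t.run ys = true) (hinit : ∀ q ∈ t.init, IsConj (f (rep q.1)) (f (rep q.2))) :
    (∃ q ∈ t.goals, IsConj (f (rep q.1)) (f (rep q.2))) ∨
      ∃ w ∈ t.extra, evc ws w < 512 ∧ evc ys w < 512 ∧ g * f (evc ws w) * g⁻¹ = f (evc ys w) ∧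
        cls (evc ys w) ∈ t.target := by
  obtain ⟨hc1, hc2⟩ := cond_false.1 (hc : cond _ _ false = true)
  cases he : anyL t.extra fun w => anyL t.target fun i => Nat.beq (cls (evc ys w)) i with
  | true =>
    obtain ⟨w, hw, h⟩ := anyL_iff.1 he
    obtain ⟨i, hi, e⟩ := anyL_iff.1 h
    obtain ⟨a1, a2, a3⟩ := hm.evc_eq hT w fun k hk => Nat.le_of_ble_eq_true (allL_iff.1 (allL_iff.1 hc2 w hw) k hk)
    exact Or.inr ⟨w, hw, a1, a2, a3, Nat.eq_of_beq_eq_true e ▸ hi⟩
  | false =>
    rw [Test.run, he, Bool.cond_false] at hr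
    obtain ⟨hlt, hr⟩ := cond_false.1 hr
    obtain ⟨q, hq, e⟩ := anyL_iff.1 hr
    obtain ⟨q1, q2⟩ := cond_false.1 (allL_iff.1 hlt q hq)
    refine Or.inl ⟨q, hq, mergeAll_good (R := fun i k => IsConj (f (rep i)) (f (rep k))) (fun i => IsConj.refl _)
      (fun _ _ h => h.symm) (fun _ _ _ h h' => h.trans h') _ [0, 1, 2, 3, 4, 5, 6, 7, 8, 9] rfl
      (fun i k hi hk e => ?_) (fun r hr' h1 h2 => ?_) q.1 q.2 (Nat.le_of_ble_eq_true q1)
      (Nat.le_of_ble_eq_true q2) (Nat.eq_of_beq_eq_true e)⟩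
    · have := (by decide +kernel : ∀ i < 10, ∀ k < 10,
        nth [0, 1, 2, 3, 4, 5, 6, 7, 8, 9] i = nth [0, 1, 2, 3, 4, 5, 6, 7, 8, 9] k → i = k) i hi k hk e
      rw [this]
    · rcases List.mem_append.1 hr' with hr' | hr'
      · exact hinit r hr'
      · obtain ⟨w, hw, rfl⟩ := List.mem_map.1 hr'
        obtain ⟨hw1, hw2⟩ := cond_false.1 (allL_iff.1 hc1 w hw)
        obtain ⟨a1, a2, a3⟩ := hm.evc_eq hT w.1 fun k hk => Nat.le_of_ble_eq_true (allL_iff.1 hw2 k hk)
        have e' := Nat.eq_of_beq_eq_true hw1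
        refine IsConj.trans (b := f (evc ys w.1)) (IsConj.trans (b := f (evc ws w.1)) ?_ (isConj_iff.2 ⟨g, a3⟩))
          (isConj_rep hT a2 h2)
        show IsConj (f (rep w.2)) _
        rw [← e']
        exact (isConj_rep hT a1 (e'.symm ▸ h1)).symm

end CfsgLib.HSSylow
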