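import Cfsg.Agent.Coset.Prim
import Mathlib.Algebra.Group.Subgroup.Defs

/-!
The code table of a Sylow 2-subgroup of the Higman–Sims group: `4³ : D₈`, a code `v + 64 i` standing for the
vector `v` (three digits to the base four) times the element `i` of the complement.
-/

set_option autoImplicit false
set_option maxRecDepth 100000

namespace CfsgLib.HSSylow

open CfsgLib.Coset

/-- The action of the complement on vectors, six bits for each `64 i + v`. -/
def actTab : Nat := 1747803708558897195339366611796119580342878867009510711521689820125050396301435016704386800654526417262785973627421325338622526448264920250356475102909677102545553616002948149813587024594989504319429443427478389221387643017177210212572727956394032061557765254810096909690503089153543414351641519824783049673023117702549439815314915219665109423755673634186460894059399462503931338381970632160954220251678198522513777709682116815804646962326608922720898741009112425026062682951276686196892211150636072212815162427679146013526400167511179900731245214179114063575121733073680036436073293905021532157533877233674071847100032487481238816546410961871636994933977666379389531689790043083284504015936483919378613954257867354814938064846745148670519301678058714266156273455855472473564701905189266570086925022315120813997969244011366860281574022859582801473781668411524156081573439855465625628135707921115598318802793742083090583134272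

/-- The product in the complement, three bits for each `8 i + j`. -/
def dihTab : Nat := 128103731995767400340268569266874111716940445788816459400

/-- The inverses, nine bits for each code. -/
def invTab : Nat := 13619269426819114113107164188394006387835437116104052540700958078273855085832879113355611439440302228373507235094005476337093958418402900647657851125842393777234187387578808700037853690592908416488807722167034618500414026087674493817518436046333007743956442377982183521658102346687578662828866907610403078573014249925167809778587026401801150624252074111695857531072781292259837409050579424735965934876049279117812837419128999582958775156147050583048200502412815408474999286612714888072408180428132593533731527411966116356888145563058738961771847061403327285863813561346560442245297014077502936431716902536631552736150273711107514848185551578920887820833447545761632658509477840071448337307845204532598286932525277825685711301748451070263711853159685107126666166588400541655076935461909348048870230672144827295332333527544652492840216363994333268262079898868093781784816072521162291703607598649918638416750162934305033726349732257468127514238529535835982459015865162412119090273806795546959726960686685744986198731119594804600021549136923720265621039107265935189456117575582211526949476561609714504338681852216708543078811741769359386335741618929512591735548852927195853028731982943227879094465366163838418317933352814692097482045683336633242437453405973137859094491170780225493673206430955945174740135471032915398999387433838980762416632946053631997440782477936909995283883325220006135296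

/-- Addition of vectors. -/
noncomputable def vad (v w : Nat) : Nat :=
  Nat.add (Nat.land (Nat.add v w) 3)
    (Nat.add (Nat.land (Nat.add (Nat.land v 12) (Nat.land w 12)) 12)
      (Nat.land (Nat.add (Nat.land v 48) (Nat.land w 48)) 48))

/-- The image of a vector under an element of the complement. -/
noncomputable def act (i w : Nat) : Nat :=
  Nat.land (Nat.shiftRight actTab (Nat.mul 6 (Nat.add (Nat.mul 64 i) w))) 63

/-- The product of two elements of the complement. -/
noncomputable def dm (i j : Nat) : Nat :=
  Nat.land (Nat.shiftRight dihTab (Nat.mul 3 (Nat.add (Nat.mul 8 i) j))) 7

/-- The product of two codes. -/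
noncomputable def mm (a b : Nat) : Nat :=
  Nat.add (vad (Nat.land a 63) (act (Nat.shiftRight a 6) (Nat.land b 63)))
    (Nat.mul 64 (dm (Nat.shiftRight a 6) (Nat.shiftRight b 6)))

/-- The inverse of a code. -/
noncomputable def iv (a : Nat) : Nat := Nat.land (Nat.shiftRight invTab (Nat.mul 9 a)) 511

/-- The conjugate of `b` by `a`. -/
noncomputable def cnj (a b : Nat) : Nat := mm (mm a b) (iv a)

/-- The codes commute. -/
noncomputable def com (a b : Nat) : Bool := Nat.beq (mm a b) (mm b a)

/-- The code of the central involution. -/
def tc : Nat := 8

/-- The code of the generator of the centre of the core. -/
def cc : Nat := 4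

/-- A check on all codes. -/
noncomputable def allC (p : Nat → Bool) : Bool := allBelow 9 512 p

theorem of_allC {p : Nat → Bool} (h : allC p = true) : ∀ a, a < 512 → p a = true := of_allBelow h

theorem mm_zero_check : allC (fun a => Nat.beq (mm a 0) a && Nat.beq (mm 0 a) a && Nat.blt (iv a) 512 &&
    Nat.beq (mm a (iv a)) 0 && Nat.beq (mm (iv a) a) 0) = true := by decide +kernel

theorem mm_zero {a : Nat} (ha : a < 512) :
    mm a 0 = a ∧ mm 0 a = a ∧ iv a < 512 ∧ mm a (iv a) = 0 ∧ mm (iv a) a = 0 := by
  have := of_allC mm_zero_check a ha
  simp only [Bool.and_eq_true, Nat.blt_eq] at this
  exact ⟨Nat.eq_of_beq_eq_true this.1.1.1.1, Nat.eq_of_beq_eq_true this.1.1.1.2, this.1.1.2,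
    Nat.eq_of_beq_eq_true this.1.2, Nat.eq_of_beq_eq_true this.2⟩

theorem vad_lt (v w : Nat) : vad v w < 64 := by
  have h1 : Nat.land (Nat.add v w) 3 ≤ 3 := Nat.and_le_right
  have h2 : Nat.land (Nat.add (Nat.land v 12) (Nat.land w 12)) 12 ≤ 12 := Nat.and_le_right
  have h3 : Nat.land (Nat.add (Nat.land v 48) (Nat.land w 48)) 48 ≤ 48 := Nat.and_le_right
  show Nat.land (Nat.add v w) 3 + (Nat.land (Nat.add (Nat.land v 12) (Nat.land w 12)) 12 +
    Nat.land (Nat.add (Nat.land v 48) (Nat.land w 48)) 48) < 64
  omega

theorem mm_lt (a b : Nat) : mm a b < 512 := by
  have h1 := vad_lt (Nat.land a 63) (act (Nat.shiftRight a 6) (Nat.land b 63))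
  have h2 : dm (Nat.shiftRight a 6) (Nat.shiftRight b 6) ≤ 7 := Nat.and_le_right
  show vad _ _ + 64 * dm _ _ < 512
  omega

/-- A parametrisation of a subgroup by the codes. -/
structure Tab {G : Type*} [Group G] (T : Subgroup G) (f : Nat → G) : Prop where
  mem : ∀ a, a < 512 → f a ∈ T
  surj : ∀ x ∈ T, ∃ a, a < 512 ∧ f a = x
  inj : ∀ a b, a < 512 → b < 512 → f a = f b → a = b
  mul : ∀ a b, a < 512 → b < 512 → f (mm a b) = f a * f b

end CfsgLib.HSSylow
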