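import Cfsg.Agent.HSSylow.Cent
import Cfsg.Agent.S1175
import Cfsg.Agent.AbelianInvCent.Setup

/-!
A subgroup containing the centralizer of the central involution and the normalizer of the first layer of the
homocyclic subgroup is the whole group.
-/

set_option autoImplicit false
set_option maxRecDepth 100000
set_option linter.unusedSectionVars false
set_option linter.style.haveILetI false

namespace CfsgLib.HSSylow

open Subgroup CfsgLib.SylL34 CfsgLib.Coset

theorem shifted_invol : allC (fun a => cond (Nat.beq (mm a a) 0 && !(Nat.beq a 0) && !(Nat.beq a 8))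
    (anyL (List.range 512) fun k => Nat.beq (cnj k a) (mm 8 a)) true) = true := by decide +kernel

theorem extra_six : allL test_n2_64.extra (fun w => Nat.beq (cls (evc job_n2_64.ws w)) 6) = true := by decide +kernel

theorem extra_seven : allL test_n2_65.extra (fun w => Nat.beq (cls (evc job_n2_65.ws w)) 7) = true := by decide +kernel

variable {G : Type*} [Group G] [Finite G] {S : Sylow 2 G} {f : Nat → G}

theorem cIn_mono {H H' : Subgroup G} (h : H ≤ H') {a b : G} (hab : CIn H a b) : CIn H' a b :=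
  hab.imp fun _ hg => ⟨h hg.1, hg.2⟩

variable (hT : Tab (S : Subgroup G) f)
include hT

theorem normalizer_sA_le : normalizer (hT.sA : Set G) ≤ normalizer (hT.sV : Set G) := by
  intro n hn
  refine mem_normalizer_of_conj_mem ?_
  rintro _ ⟨a, ha, pa, rfl⟩
  have hca := of_allC (by decide +kernel : allC (fun a => cond (inV a) (inA a && Nat.beq (mm a a) 0) true &&
    cond (inA a && Nat.beq (mm a a) 0) (inV a) true) = true) a ha
  simp only [pa, cond_true, Bool.and_eq_true] at hca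
  obtain ⟨b, hb, pb, eb⟩ := conj_mem_of_normalizer hn (show f a ∈ hT.sA from ⟨a, ha, hca.1.1, rfl⟩)
  refine ⟨b, hb, ?_, eb⟩
  have hcb := of_allC (by decide +kernel : allC (fun a => cond (inV a) (inA a && Nat.beq (mm a a) 0) true &&
    cond (inA a && Nat.beq (mm a a) 0) (inV a) true) = true) b hb
  have hbb : mm b b = 0 := by
    rw [← hT.sq_eq_one_iff hb, eb, show n * f a * n⁻¹ * (n * f a * n⁻¹) = n * (f a * f a) * n⁻¹ by group,
      (hT.sq_eq_one_iff ha).2 (Nat.eq_of_beq_eq_true hca.1.2)]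
    group
  simp only [pb, show Nat.beq (mm b b) 0 = true by rw [Nat.beq_eq]; exact hbb, Bool.and_true, cond_true,
    Bool.and_eq_true] at hcb
  exact hcb.2

variable [IsSimpleGroup G]

theorem cIn_two {M : Subgroup G} (hN : normalizer (hT.sV : Set G) ≤ M) {i : Nat} (hi : i = 2 ∨ i = 3) :
    CIn M (f (rep i)) (f 8) := by
  obtain ⟨r0, r1, r2, r3, -⟩ := rep_vals
  have hv : inV (rep i) = true ∧ rep i ≠ 0 := by
    rcases hi with rfl | rfl
    · rw [r2]; exact ⟨by decide +kernel, by norm_num⟩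
    · rw [r3]; exact ⟨by decide +kernel, by norm_num⟩
  obtain ⟨n, hn, e⟩ := fused_V hT (rep i) (rep_lt i) hv.1 hv.2
  exact ⟨n, hN (normalizer_sA_le hT hn), e⟩

theorem cIn_four {M : Subgroup G} (hC : centralizer ({f 8} : Set G) ≤ M) (hN : normalizer (hT.sV : Set G) ≤ M)
    {i : Nat} (hi : i = 4 ∨ i = 8) (hK : K f 1 i) : CIn M (f (rep i)) (f 8) := by
  obtain ⟨r0, r1, r2, r3, r4, r5, r6, r7, r8, r9⟩ := rep_vals
  obtain ⟨g, -, e, hS⟩ := exists_to_rep hT (H := ⊤) le_top (i := i) (k := 1) (by omega) (by omega)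
    (cin_top_of hK.symm) fun c hc _ => by
      rw [num_rep 1 (by omega), num_rep c hc]
      interval_cases c <;> simp
  rw [r1] at e
  have hcom8 : ∀ a, a < 512 → com a 8 = true := of_allC central_eight
  obtain ⟨j, t, hG, hj, hinit, hgoals, hext, htar, hlv⟩ : ∃ j : Job, ∃ t : Test, Good j t ∧ j.fixd = [(rep i, 8)] ∧
      t.init = [] ∧ t.goals = [(5, 1), (5, 2), (5, 3), (5, 4)] ∧
      allL t.extra (fun w => Nat.beq (evc j.ws w) 8) = true ∧ t.target = [2] ∧
      allL j.lv (fun l => cond (Nat.blt l.gen 512) (com l.gen (rep i)) false) = true := by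
    rcases hi with rfl | rfl
    · exact ⟨_, _, ok_toV_448_8, by rw [r4]; rfl, rfl, rfl, by decide +kernel, rfl, by rw [r4]; decide +kernel⟩
    · exact ⟨_, _, ok_toV_128_8, by rw [r8]; rfl, rfl, rfl, by decide +kernel, rfl, by rw [r8]; decide +kernel⟩
  obtain ⟨a1, a2⟩ := cond_false.1 (hG : cond _ _ false = true)
  obtain ⟨a1, a1'⟩ := cond_false.1 a1
  obtain ⟨h, hh, hcom, ys, hm, hl⟩ := j.exists_leaf hT a1 a2 g (fun q hq => by
    rw [hj, List.mem_singleton] at hq
    subst hq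
    exact e) (fun l hl => by
    obtain ⟨a, b⟩ := cond_false.1 (allL_iff.1 hlv l hl)
    exact hS _ (Nat.le_of_ble_eq_true a) b)
  have e' : f h * g * f (rep i) * (f h * g)⁻¹ = f 8 := by
    rw [show f h * g * f (rep i) * (f h * g)⁻¹ = f h * (g * f (rep i) * g⁻¹) * (f h)⁻¹ by group, e,
      (hT.com_iff hh (by norm_num)).1 (hcom8 h hh), mul_inv_cancel_right]
  rcases t.sound hT hm a1' hl (by rw [hinit]; simp) with ⟨q, hq, hKq⟩ | ⟨w, hw, -, hy, ew, hy2⟩
  · rw [hgoals] at hq
    exact absurd hKq (forb hT hq)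
  rw [Nat.eq_of_beq_eq_true (allL_iff.1 hext w hw)] at ew
  rw [htar, List.mem_singleton] at hy2
  obtain ⟨k, hk, ek⟩ := exists_cnj_rep hy (by rw [hy2]; norm_num)
  rw [hy2] at ek
  obtain ⟨n, hn, en⟩ := cIn_two hT hN (i := 2) (Or.inl rfl)
  have hfix : n * f k * (f h * g) ∈ centralizer ({f 8} : Set G) := by
    refine mem_centralizer_singleton_iff.2 (mul_inv_eq_iff_eq_mul.1 ?_)
    calc n * f k * (f h * g) * f 8 * (n * f k * (f h * g))⁻¹
        = n * (f k * (f h * g * f 8 * (f h * g)⁻¹) * (f k)⁻¹) * n⁻¹ := by group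
      _ = f 8 := by rw [ew, ← hT.map_cnj hk hy, ek, en]
  have hSM : (S : Subgroup G) ≤ M := (sylow_le_cent hT).trans hC
  have hgM := hC hfix
  refine ⟨f h * g, ?_, e'⟩
  have h1 := mul_mem (inv_mem (mul_mem hn (hSM (hT.mem k hk)))) hgM
  rwa [show (n * f k)⁻¹ * (n * f k * (f h * g)) = f h * g by group] at h1

theorem cIn_six {M : Subgroup G} (hC : centralizer ({f 8} : Set G) ≤ M) (hN : normalizer (hT.sV : Set G) ≤ M)
    {i : Nat} (hi : i = 6 ∨ i = 7) (hK : K f 1 i) : CIn M (f (rep i)) (f 8) := by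
  obtain ⟨r0, r1, r2, r3, r4, r5, r6, r7, r8, r9⟩ := rep_vals
  obtain ⟨g, -, e, hS⟩ := exists_to_rep hT (H := ⊤) le_top (i := 2) (k := 1) (by omega) (by omega)
    (cin_top_of (one_two hT).symm) fun c hc _ => by
      rw [num_rep 1 (by omega), num_rep c hc]
      interval_cases c <;> simp
  rw [r1, r2] at e
  rw [r2] at hS
  have hSM : (S : Subgroup G) ≤ M := (sylow_le_cent hT).trans hC
  have hgA : g ∈ normalizer (hT.sA : Set G) := mem_normalizer_sA hT fun x hx => by
    obtain ⟨a, ha, pa, rfl⟩ := hx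
    exact hS a ha ((hT.com_iff ha (by norm_num)).2 (sA_comm hT _ ⟨a, ha, pa, rfl⟩ _ ⟨2, by norm_num,
      by decide +kernel, rfl⟩))
  obtain ⟨j, t, hG, hj, hinit, hgoals, hext, htar, hlv⟩ : ∃ j : Job, ∃ t : Test, Good j t ∧ j.fixd = [(2, 8)] ∧
      t.init = [] ∧ t.goals = [(5, 1), (5, 2), (5, 3), (5, 4)] ∧
      allL t.extra (fun w => Nat.beq (cls (evc j.ws w)) i) = true ∧ t.target = [4, 5] ∧
      allL j.lv (fun l => cond (Nat.blt l.gen 512) (com l.gen 2) false) = true := by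
    rcases hi with rfl | rfl
    · exact ⟨_, _, ok_n2_64, rfl, rfl, rfl, extra_six, rfl, by decide +kernel⟩
    · exact ⟨_, _, ok_n2_65, rfl, rfl, rfl, extra_seven, rfl, by decide +kernel⟩
  obtain ⟨a1, a2⟩ := cond_false.1 (hG : cond _ _ false = true)
  obtain ⟨a1, a1'⟩ := cond_false.1 a1
  obtain ⟨h, hh, -, ys, hm, hl⟩ := j.exists_leaf hT a1 a2 g (fun q hq => by
    rw [hj, List.mem_singleton] at hq
    subst hq
    exact e) (fun l hl => by
    obtain ⟨a, b⟩ := cond_false.1 (allL_iff.1 hlv l hl)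
    exact hS _ (Nat.le_of_ble_eq_true a) b)
  rcases t.sound hT hm a1' hl (by rw [hinit]; simp) with ⟨q, hq, hKq⟩ | ⟨w, hw, hx, hy, ew, hy2⟩
  · rw [hgoals] at hq
    exact absurd hKq (forb hT hq)
  have hci := Nat.eq_of_beq_eq_true (allL_iff.1 hext w hw)
  have hgM : f h * g ∈ M := mul_mem (hSM (hT.mem h hh)) (hN (normalizer_sA_le hT hgA))
  rw [htar] at hy2
  simp only [List.mem_cons, List.not_mem_nil, or_false] at hy2
  have hc : CIn M (f (rep i)) (f (rep (cls (evc ys w)))) := by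
    have h1 := cls_conj hT hSM hx (by omega)
    rw [hci] at h1
    exact h1.symm.trans (CIn.trans ⟨_, hgM, ew⟩ (cls_conj hT hSM hy (by omega)))
  have hKi : K f 1 (cls (evc ys w)) := hK.trans (cIn_top.1 (cIn_mono le_top hc))
  rcases hy2 with h4 | h5
  · rw [h4] at hc hKi
    exact hc.trans (cIn_four hT hC hN (Or.inl rfl) hKi)
  · rw [h5] at hKi
    exact absurd hKi.symm (not_five hT le_rfl (by norm_num))

/-- An element of `M` carrying the central involution into `M` lies in `M`. -/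
theorem mem_of_fused {M : Subgroup G} (hC : centralizer ({f 8} : Set G) ≤ M) (hN : normalizer (hT.sV : Set G) ≤ M)
    {g : G} (hg : g * f 8 * g⁻¹ ∈ M) : g ∈ M := by
  obtain ⟨r0, r1, -⟩ := rep_vals
  have hSM : (S : Subgroup G) ≤ M := (sylow_le_cent hT).trans hC
  have h88 : f 8 * f 8 = 1 := (hT.sq_eq_one_iff (by norm_num)).2 (by decide +kernel)
  obtain ⟨m, hm, hmS⟩ := conj_into S hSM hg (by
    rw [show g * f 8 * g⁻¹ * (g * f 8 * g⁻¹) = g * (f 8 * f 8) * g⁻¹ by group, h88]; group)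
  obtain ⟨a, ha, ea⟩ := hT.surj _ hmS
  have hca : CIn (⊤ : Subgroup G) (f 8) (f a) := ⟨m * g, mem_top _, by rw [ea]; group⟩
  obtain ⟨hc, -⟩ := cls_lt ha (mm_of_cin hT (by norm_num) (by decide +kernel) ha hca)
  have hK : K f 1 (cls a) := by
    have := hca.trans (cls_conj hT le_top ha hc)
    rw [← r1] at this
    exact cIn_top.1 this
  have hh : CIn M (f (rep (cls a))) (f 8) := by
    interval_cases hcl : cls a
    · exfalso
      unfold K at hK
      rw [r0, r1, hT.map_zero] at hK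
      obtain ⟨u, hu⟩ := isConj_iff.1 hK.symm
      rw [mul_one, mul_inv_cancel] at hu
      exact absurd ((hT.eq_one_iff (by norm_num)).1 hu.symm) (by norm_num)
    · exact ⟨1, one_mem _, by rw [r1]; group⟩
    · exact cIn_two hT hN (Or.inl rfl)
    · exact cIn_two hT hN (Or.inr rfl)
    · exact cIn_four hT hC hN (Or.inl rfl) hK
    · exact absurd hK.symm (not_five hT le_rfl (by norm_num))
    · exact cIn_six hT hC hN (Or.inl rfl) hK
    · exact cIn_six hT hC hN (Or.inr rfl) hK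
    · exact cIn_four hT hC hN (Or.inr rfl) hK
    · exact absurd hK.symm (not_nine hT le_rfl (Or.inl (by norm_num)))
  obtain ⟨m', hm', em'⟩ := (cls_conj hT hSM ha hc).trans hh
  have h1 : m' * m * g ∈ centralizer ({f 8} : Set G) := by
    refine mem_centralizer_singleton_iff.2 (mul_inv_eq_iff_eq_mul.1 ?_)
    calc m' * m * g * f 8 * (m' * m * g)⁻¹ = m' * (m * (g * f 8 * g⁻¹) * m⁻¹) * m'⁻¹ := by group
      _ = f 8 := by rw [← ea, em']
  have h2 := mul_mem (inv_mem (mul_mem hm' hm)) (hC h1)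
  rwa [show (m' * m)⁻¹ * (m' * m * g) = g by group] at h2

/-- The whole group from the centralizer of the central involution and the normalizer of the first layer. -/
theorem top_of_local {M : Subgroup G} (hC : centralizer ({f 8} : Set G) ≤ M) (hN : normalizer (hT.sV : Set G) ≤ M) :
    M = ⊤ := by
  by_contra hM
  obtain ⟨r0, r1, r2, r3, r4, r5, -⟩ := rep_vals
  have h88 : f 8 * f 8 = 1 := (hT.sq_eq_one_iff (by norm_num)).2 (by decide +kernel)
  have ht2 : orderOf (f 8) = 2 := Invol.orderOf_eq_two h88 fun h =>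
    absurd ((hT.eq_one_iff (by norm_num)).1 h) (by norm_num)
  have hSM : (S : Subgroup G) ≤ M := (sylow_le_cent hT).trans hC
  have h8S : f 8 ∈ (S : Subgroup G) := hT.mem 8 (by norm_num)
  have h3 : ∀ g : G, Commute (f 8) (g * f 8 * g⁻¹) → g * f 8 * g⁻¹ ≠ f 8 →
      centralizer ({f 8 * (g * f 8 * g⁻¹)} : Set G) ≤ M := by
    intro g hcomm hne
    obtain ⟨c, hc, hcS⟩ := conj_into S (sylow_le_cent hT) (t := g * f 8 * g⁻¹)
      (mem_centralizer_singleton_iff.2 hcomm.eq.symm)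
      (by rw [show g * f 8 * g⁻¹ * (g * f 8 * g⁻¹) = g * (f 8 * f 8) * g⁻¹ by group, h88]; group)
    obtain ⟨a, ha, ea⟩ := hT.surj _ hcS
    have hc8 := cent_fix hT hc
    have hA : mm a a = 0 ∧ a ≠ 0 ∧ a ≠ 8 := by
      refine ⟨(hT.sq_eq_one_iff ha).1 ?_, fun h0 => ?_, fun h8 => hne ?_⟩
      · rw [ea, show c * (g * f 8 * g⁻¹) * c⁻¹ * (c * (g * f 8 * g⁻¹) * c⁻¹) = c * g * (f 8 * f 8) * (c * g)⁻¹ by
          group, h88]
        group
      · rw [h0, hT.map_zero] at ea
        have := ea.symm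
        rw [conj_eq_one_iff, conj_eq_one_iff, hT.eq_one_iff (by norm_num)] at this
        exact absurd this (by norm_num)
      · rw [h8] at ea
        calc g * f 8 * g⁻¹ = c⁻¹ * (c * (g * f 8 * g⁻¹) * c⁻¹) * c := by group
          _ = c⁻¹ * f 8 * c⁻¹⁻¹ := by rw [← ea]; group
          _ = f 8 := cent_fix hT (inv_mem hc)
    have hb := of_allC shifted_invol a ha
    have hz : (Nat.beq (mm a a) 0 && !(Nat.beq a 0) && !(Nat.beq a 8)) = true := by
      rw [Bool.and_eq_true, Bool.and_eq_true, Bool.not_eq_true', Bool.not_eq_true', Bool.eq_false_iff,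
        Bool.eq_false_iff, ne_eq, ne_eq, Nat.beq_eq, Nat.beq_eq, Nat.beq_eq]
      exact ⟨⟨hA.1, hA.2.1⟩, hA.2.2⟩
    rw [hz, cond_true] at hb
    obtain ⟨k, hk', hk⟩ := anyL_iff.1 hb
    rw [List.mem_range] at hk'
    have e : f 8 * f a = f k * c * g * f 8 * (f k * c * g)⁻¹ := by
      rw [← hT.mul _ _ (by norm_num) ha, ← Nat.eq_of_beq_eq_true hk, hT.map_cnj hk' ha, ea]
      group
    have hg' : f k * c * g ∈ M := mem_of_fused hT hC hN (by rw [← e]; exact mul_mem (hSM h8S) (hSM (hT.mem a ha)))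
    intro x hx
    have e2 : f 8 * (g * f 8 * g⁻¹) = c⁻¹ * (f 8 * f a) * c := by
      rw [show c⁻¹ * (f 8 * f a) * c = c⁻¹ * f 8 * c⁻¹⁻¹ * (c⁻¹ * f a * c) by group,
        cent_fix hT (inv_mem hc), ea]
      group
    rw [e2, e, show c⁻¹ * (f k * c * g * f 8 * (f k * c * g)⁻¹) * c =
      c⁻¹ * (f k * c * g) * f 8 * (c⁻¹ * (f k * c * g))⁻¹ by group, cent_conj] at hx
    have hw : c⁻¹ * (f k * c * g) ∈ M := mul_mem (inv_mem (hC hc)) hg'
    have := mul_mem (mul_mem hw (hC hx)) (inv_mem hw)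
    rwa [show c⁻¹ * (f k * c * g) * ((c⁻¹ * (f k * c * g))⁻¹ * x * (c⁻¹ * (f k * c * g))) *
      (c⁻¹ * (f k * c * g))⁻¹ = x by group] at this
  obtain ⟨H, hH⟩ := Cfsg.Agent.S1175.result M hM (f 8) ht2 (hSM h8S)
    ⟨S, h8S, fun s hs => mem_centralizer_singleton_iff.1 (sylow_le_cent hT hs)⟩
    (fun g hg => mem_of_fused hT hC hN hg) h3
  have h449 : orderOf (f 449) = 2 := Invol.orderOf_eq_two ((hT.sq_eq_one_iff (by norm_num)).2 (by decide +kernel))
    fun h => absurd ((hT.eq_one_iff (by norm_num)).1 h) (by norm_num)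
  obtain ⟨k, -, hk⟩ := AbelianInvCent.exists_conj_invClosure hH h449 ht2
  refine not_five hT (k := 1) le_rfl (by norm_num) ?_
  unfold K
  rw [r5, r1]
  exact isConj_iff.2 ⟨k, hk⟩

end CfsgLib.HSSylow
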