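import Cfsg.Agent.HSSylow.Subs
import Cfsg.Agent.Coset.Sift

/-!
Tables for the action of the centralizer of the central involution on the core modulo its centre: points
are the sixteen vectors over the basis of codes `2, 32, 128, 320`, an element is packed as the images of the
four basis vectors, four bits each.
-/

set_option autoImplicit false
set_option maxRecDepth 100000

namespace CfsgLib.HSSylow.YTab

open CfsgLib.Coset

/-- The point of a code of the core, four bits for each code. -/
def ptTab : Nat := 103026703446343250844309535052394028390004529358449715661836950880537848464737390624855893514157400426528356230482200251835870450781157440522002862584999470056064235798742148364425577618871652199997409937775548872449227336318525752036074752317833247767083240572825999269262723133994554087630006802264747847033187083007561224607838318369709424846946775220869550467248518066230804827385905815000172572907836443197639552700543868595975171255570396599787780846190424796177508154179673766282493012886865363152499828328632998297943634720298511395746365372347638547741561314733827558956354970421710291200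

/-- A code for each point, nine bits each. -/
def repTab : Nat := 21034969708268617689140096408420878712308736

/-- The commutator form, one bit for each pair of points. -/
def formTab : Nat := 23428807821899892214858921481025353473065622499245605291792576735492195745792

/-- The lines of the two invariant spreads, four bits for each point. -/
def lixTab (k : Bool) : Nat := cond k 1387693776866181120 2607920915104727040

/-- A point on each line, four bits each. -/
def lrepTab : Nat := 484673

/-- The point of a code. -/
noncomputable def ptc (a : Nat) : Nat := Nat.land (Nat.shiftRight ptTab (Nat.mul 4 a)) 15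

/-- The code of a point. -/
noncomputable def rep (j : Nat) : Nat := Nat.land (Nat.shiftRight repTab (Nat.mul 9 j)) 511

/-- The form at a pair of points. -/
noncomputable def frm (i j : Nat) : Nat := Nat.land (Nat.shiftRight formTab (Nat.add (Nat.mul 16 i) j)) 1

/-- The line of a point. -/
noncomputable def lix (k : Bool) (j : Nat) : Nat := Nat.land (Nat.shiftRight (lixTab k) (Nat.mul 4 j)) 15

/-- A point on a line. -/
noncomputable def lrep (i : Nat) : Nat := Nat.land (Nat.shiftRight lrepTab (Nat.mul 4 i)) 15

/-- The image of the basis vector `k`. -/
noncomputable def nib (e k : Nat) : Nat := Nat.land (Nat.shiftRight e (Nat.mul 4 k)) 15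

/-- The packed element with given images. -/
noncomputable def mk (a b c d : Nat) : Nat :=
  Nat.add (Nat.add a (Nat.mul 16 b)) (Nat.add (Nat.mul 256 c) (Nat.mul 4096 d))

/-- A coordinate of a point. -/
noncomputable def bit (j k : Nat) : Bool := Nat.beq (Nat.land (Nat.shiftRight j k) 1) 1

/-- The image of a point. -/
noncomputable def eApp (e j : Nat) : Nat :=
  Nat.xor (Nat.xor (cond (bit j 0) (nib e 0) 0) (cond (bit j 1) (nib e 1) 0))
    (Nat.xor (cond (bit j 2) (nib e 2) 0) (cond (bit j 3) (nib e 3) 0))

/-- The product of two packed elements. -/
noncomputable def ec (e e' : Nat) : Nat :=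
  mk (eApp e (nib e' 0)) (eApp e (nib e' 1)) (eApp e (nib e' 2)) (eApp e (nib e' 3))

/-- The packed identity. -/
def idc : Nat := 33825

/-- The third power. -/
noncomputable def cube (e : Nat) : Nat := ec e (ec e e)

/-- The fifth power. -/
noncomputable def fifth (e : Nat) : Nat := ec e (ec (ec e e) (ec e e))

/-- The image of the Sylow subgroup. -/
def dList : List Nat := [33825, 46625, 42273, 38689, 18481, 27441, 23089, 31025]

/-- Its normaliser in the symplectic group, outside it. -/
def tList : List Nat := [19249, 22833, 26673, 31281, 34337, 38177, 42785, 46113]

/-- The images of the elements outside the core centralising its centre. -/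
def cList : List Nat := [42273, 46625, 38689]

/-- Membership in a list of codes. -/
noncomputable def has (l : List Nat) (e : Nat) : Bool := l.any (Nat.beq e)

/-- Some product with the Sylow image has its cube in `tList`. -/
noncomputable def bad1 (e : Nat) : Bool := dList.any fun d => has tList (cube (ec e d))

/-- Some product with the Sylow image has a cube with `bad1`. -/
noncomputable def bad2 (e : Nat) : Bool := dList.any fun d => bad1 (cube (ec e d))

/-- The element permutes the lines of a spread. -/
noncomputable def inP (k : Bool) (e : Nat) : Bool :=
  allBelow 4 16 fun j => Nat.beq j 0 || Nat.beq (lix k (eApp e j)) (lix k (eApp e (lrep (lix k j))))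

/-- A test on all packed elements preserving the form. -/
noncomputable def spAll (p : Nat → Bool) : Bool :=
  allBelow 4 16 fun a => allBelow 4 16 fun b => cond (Nat.beq (frm a b) (frm 1 2))
    (allBelow 4 16 fun c => cond (Nat.beq (frm a c) (frm 1 4) && Nat.beq (frm b c) (frm 2 4))
      (allBelow 4 16 fun d => cond (Nat.beq (frm a d) (frm 1 8) && Nat.beq (frm b d) (frm 2 8) &&
        Nat.beq (frm c d) (frm 4 8)) (p (mk a b c d)) true) true) true

theorem sylow_check : spAll (fun e => inP false e || inP true e || has tList e || bad1 e || bad2 e) = true := by
  decide +kernel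

/-- The facts about an element permuting the lines. -/
noncomputable def lineFacts (k : Bool) (e : Nat) : Bool :=
  (Nat.beq (ec (ec e e) (ec e e)) idc || Nat.beq (fifth e) idc || Nat.beq (cube (ec e e)) idc) &&
  cond (Nat.beq (cube (fifth e)) idc && ((!(allBelow 4 16 fun j => Nat.beq j 0 || !(Nat.beq (eApp e j) j))) ||
    cList.any fun c => Nat.beq (ec e c) (ec c e))) (Nat.beq e idc) true &&
  cond (Nat.beq (lix k (eApp e (lrep 0))) 0) (allBelow 2 4 fun j => Nat.blt (eApp e j) 4)
    (dList.any (fun d => Nat.beq (cube (ec (ec e d) (ec e d))) idc && !(Nat.beq (ec (ec e d) (ec e d)) idc)) &&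
      dList.any fun d => Nat.beq (fifth (ec e d)) idc && !(Nat.beq (ec e d) idc)) &&
  cond (allBelow 3 5 fun i => Nat.beq (lix k (eApp e (lrep i))) i) (Nat.beq e idc) true

theorem spread_check :
    spAll (fun e => cond (inP false e) (lineFacts false e) true && cond (inP true e) (lineFacts true e) true) = true := by
  decide +kernel

theorem lix_check : allBelow 4 16 (fun j => Nat.beq j 0 ||
    (Nat.beq (lix false (lrep (lix false j))) (lix false j) && Nat.blt (lix false j) 5 &&
      Nat.beq (lix true (lrep (lix true j))) (lix true j) && Nat.blt (lix true j) 5)) = true ∧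
    allBelow 3 5 (fun i => Nat.blt 0 (lrep i) && Nat.beq (lix false (lrep i)) i && Nat.beq (lix true (lrep i)) i)
      = true := by
  decide +kernel

theorem tList_check : tList.all (fun e => Nat.beq (ec (ec e e) (ec e e)) idc && !(has dList e) &&
    dList.all fun d => has dList (ec (ec e d) (cube e))) = true := by
  decide +kernel

/-- The packed image of a code of the Sylow subgroup. -/
noncomputable def imgC (h : Nat) : Nat :=
  mk (ptc (cnj h 2)) (ptc (cnj h 32)) (ptc (cnj h 128)) (ptc (cnj h 320))

theorem code_check : allC (fun h => com h 8 && has dList (imgC h) && cond (Nat.beq (imgC h) idc) (inR h) true &&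
    cond (com h 4 && !(inR h)) (has cList (imgC h)) true) = true ∧
    dList.all (fun d => [0, 1, 16, 17, 64, 65, 80, 81].any fun h => Nat.beq (imgC h) d) = true := by
  decide +kernel

theorem pt_check : allC (fun a => cond (inR a)
    (Bool.and (Nat.blt (ptc a) 16) (Nat.beq (ptc a) 0 == inZ a) &&
      (inV a == (Nat.blt (ptc a) 4 && Nat.beq (mm a a) 0)) &&
      allC (fun b => cond (inR b) (Nat.beq (ptc (mm a b)) (Nat.xor (ptc a) (ptc b)) &&
        (Nat.beq (mm (mm (mm a b) (iv a)) (iv b)) 8 == Nat.beq (frm (ptc a) (ptc b)) 1)) true)) true) = true := by
  decide +kernel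

theorem rep_check : allBelow 4 16 (fun j => inR (rep j) && Nat.beq (ptc (rep j)) j && Nat.blt (rep j) 512 &&
    Nat.beq (rep j) (mm (mm (mm (cond (bit j 0) 2 0) (cond (bit j 1) 32 0)) (cond (bit j 2) 128 0))
      (cond (bit j 3) 320 0)) && (Nat.ble 4 j || inV (rep j))) = true := by
  decide +kernel

theorem nib_mk : allBelow 4 16 (fun a => allBelow 4 16 fun b => allBelow 4 16 fun c => allBelow 4 16 fun d =>
    Nat.beq (nib (mk a b c d) 0) a && Nat.beq (nib (mk a b c d) 1) b && Nat.beq (nib (mk a b c d) 2) c &&
      Nat.beq (nib (mk a b c d) 3) d) = true := by
  decide +kernel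

end CfsgLib.HSSylow.YTab
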